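import Cfsg.Agent.Lib.Blocks.TameDefect.Central
import Cfsg.Agent.Lib.Blocks.TwoMajor
import Cfsg.Agent.Lib.DegreeTools.DeficiencyOne
import Cfsg.Agent.S4541
import Cfsg.Agent.S4698
import Cfsg.Agent.S4733

/-!
# At most two Brauer characters when a dihedral defect group has a reflection not fused to the centre
-/

set_option autoImplicit false
set_option maxHeartbeats 800000

namespace CfsgLib.Blocks.TameDefect

open Cfsg CfsgLib.Blocks CfsgLib.BrauerPairs CfsgLib.BrouePuig
open scoped Classical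

universe u

variable {G : Type u} [Group G] [Fintype G]

omit [Fintype G] in
/-- Elements of the same order of a finite cyclic subgroup generate the same subgroup. -/
theorem zpowers_eq_of_orderOf_eq [Finite G] {a x y : G} (hx : x ∈ Subgroup.zpowers a)
    (hy : y ∈ Subgroup.zpowers a) (h : orderOf x = orderOf y) :
    Subgroup.zpowers x = Subgroup.zpowers y := by
  haveI : Fintype (Subgroup.zpowers a) := Fintype.ofFinite _
  set m := orderOf x
  have hle : ∀ w : Subgroup.zpowers a, orderOf w = m →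
      ∀ v : Subgroup.zpowers a, v ^ m = 1 → v ∈ Subgroup.zpowers w := by
    intro w hw v hv
    have hsub : ((Subgroup.zpowers w : Subgroup (Subgroup.zpowers a)) : Set _).toFinset
        ⊆ Finset.univ.filter fun u : Subgroup.zpowers a => u ^ m = 1 := by
      intro u hu
      simp only [Set.mem_toFinset, SetLike.mem_coe] at hu
      obtain ⟨i, rfl⟩ := Subgroup.mem_zpowers_iff.1 hu
      refine Finset.mem_filter.2 ⟨Finset.mem_univ _, ?_⟩
      rw [← hw, ← zpow_natCast, ← zpow_mul, mul_comm, zpow_mul, zpow_natCast, pow_orderOf_eq_one,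
        one_zpow]
    have hcard := IsCyclic.card_pow_eq_one_le (α := Subgroup.zpowers a) (n := m) (orderOf_pos x)
    have heq := Finset.eq_of_subset_of_card_le hsub (hcard.trans (le_of_eq (by
      rw [Set.toFinset_card, ← Nat.card_eq_fintype_card]
      exact (hw.symm.trans (Nat.card_zpowers w).symm))))
    have hm := heq.symm ▸ (Finset.mem_filter.2 ⟨Finset.mem_univ v, hv⟩ :
      v ∈ Finset.univ.filter fun u : Subgroup.zpowers a => u ^ m = 1)
    simpa using hm
  have key : ∀ x' y' : Subgroup.zpowers a, orderOf x' = m → orderOf y' = m →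
      (y' : G) ∈ Subgroup.zpowers (x' : G) := by
    intro x' y' hx' hy'
    obtain ⟨i, hi⟩ := Subgroup.mem_zpowers_iff.1 (hle x' hx' y' (by rw [← hy', pow_orderOf_eq_one]))
    exact Subgroup.mem_zpowers_iff.2 ⟨i, by rw [← hi, Subgroup.coe_zpow]⟩
  exact le_antisymm
    (Subgroup.zpowers_le.2 (key ⟨y, hy⟩ ⟨x, hx⟩ (by rw [Subgroup.orderOf_mk, h])
      (by rw [Subgroup.orderOf_mk])))
    (Subgroup.zpowers_le.2 (key ⟨x, hx⟩ ⟨y, hy⟩ (by rw [Subgroup.orderOf_mk])
      (by rw [Subgroup.orderOf_mk, h])))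

/-- Brauer's count bounds the rank together with pairwise non-conjugate Brauer elements. -/
theorem rank_add_card_le {p : ℕ} [Fact p.Prime] {M : Ideal AlgInt} (hM : IsPModular p M)
    {B : Set (IrrCharacter G)} (hB : IsPBlock M B) (S : Finset (BElem G))
    (hS : ∀ a ∈ S, IsElemOf p M B a) (h1 : ∀ a ∈ S, a.1 ≠ 1)
    (hdis : ∀ a ∈ S, ∀ a' ∈ S, ∀ y : G, act y a = a' → a = a') :
    blockRank p B + S.card ≤ Nat.card B := by
  set X : Finset G := Finset.univ.filter fun g : G =>
    (∃ k : ℕ, orderOf g = p ^ k) ∧ (ConjClasses.mk g).out = g with hX_def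
  have hout : ∀ g : G, IsConj (ConjClasses.mk g).out g := fun g =>
    ConjClasses.mk_eq_mk_iff_isConj.1 (Quotient.out_eq _)
  have hmkout : ∀ g : G, ConjClasses.mk (ConjClasses.mk g).out = ConjClasses.mk g := fun g =>
    Quotient.out_eq _
  have hord : ∀ g g' : G, IsConj g g' → orderOf g = orderOf g' := fun g g' h => by
    obtain ⟨c, rfl⟩ := isConj_iff.1 h
    exact (MulEquiv.orderOf_eq (MulAut.conj c) g).symm
  have hrepX : ∀ g : G, (∃ k : ℕ, orderOf g = p ^ k) → (ConjClasses.mk g).out ∈ X := fun g hg =>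
    Finset.mem_filter.2 ⟨Finset.mem_univ _, by rwa [hord _ _ (hout g)], by rw [hmkout]⟩
  have hX : ∀ x ∈ X, ∃ k : ℕ, orderOf x = p ^ k := fun x hx => (Finset.mem_filter.1 hx).2.1
  have hXrep : ∀ g : G, (∃ k : ℕ, orderOf g = p ^ k) → ∃! x, x ∈ X ∧ IsConj g x := fun g hg =>
    ⟨_, ⟨hrepX g hg, (hout g).symm⟩, fun x hx => by
      rw [← (Finset.mem_filter.1 hx.1).2.2, ConjClasses.mk_eq_mk_iff_isConj.2 hx.2]⟩
  have h1X : (1 : G) ∈ X := by
    refine Finset.mem_filter.2 ⟨Finset.mem_univ _, ⟨0, by rw [orderOf_one, pow_zero]⟩, ?_⟩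
    exact isConj_one_left.1 (hout 1)
  have hcount : Nat.card B = ∑ x ∈ X, ∑ᶠ b ∈ {b : Set (IrrCharacter (cenZ x)) |
      IsInducedBlock M (cenZ x) b B}, blockRank p b := by
    rw [card_eq_sum_blockRank hM hB hX hXrep]
    exact Finset.sum_congr rfl fun x _ => by rw [cenZ_eq]
  set T : Finset (BElem G) := X.sigma fun x =>
    ({b : Set (IrrCharacter (cenZ x)) | IsInducedBlock M (cenZ x) b B}).toFinset with hT_def
  have hsum : Nat.card B = ∑ a ∈ T, blockRank p a.2 := by
    rw [hcount, hT_def, Finset.sum_sigma]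
    exact Finset.sum_congr rfl fun x _ => finsum_mem_eq_toFinset_sum _ _
  -- conjugating onto the chosen representatives
  choose y hy using fun a : BElem G => isConj_iff.1 (hout a.1).symm
  let f : BElem G → BElem G := fun a => act (y a) a
  have hfT : ∀ a ∈ S, f a ∈ T := by
    intro a ha
    have he : IsElemOf p M B (f a) := isElemOf_act (y a) (hS a ha)
    refine Finset.mem_sigma.2 ⟨?_, Set.mem_toFinset.2 ?_⟩
    · show y a * a.1 * (y a)⁻¹ ∈ X
      rw [hy]
      obtain ⟨j, hj⟩ := IsPGroup.iff_card.1 (hS a ha).1.1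
      exact hrepX _ ⟨j, by rw [← Nat.card_zpowers]; exact hj⟩
    · exact (isBrauerPairOf_iff_induced hM he.1.1 he.1.2).1 he
  have hfinj : Set.InjOn f S := by
    intro a ha a' ha' h
    refine hdis a ha a' ha' ((y a')⁻¹ * y a) ?_
    rw [act_mul]
    show act (y a')⁻¹ (f a) = a'
    rw [h]
    exact act_inv_act _ _
  obtain ⟨b₀, hb₀, hr₀⟩ : ∃ b : Set (IrrCharacter (cenZ (1 : G))),
      IsInducedBlock M (cenZ (1 : G)) b B ∧ blockRank p b = blockRank p B := by
    rw [cenZ_eq]
    exact DegreeTools.DeficiencyOne.exists_section_one hM hB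
  set a₀ : BElem G := ⟨1, b₀⟩
  have ha₀T : a₀ ∈ T := Finset.mem_sigma.2 ⟨h1X, Set.mem_toFinset.2 hb₀⟩
  have hnot : a₀ ∉ S.image f := by
    intro h
    obtain ⟨a, ha, he⟩ := Finset.mem_image.1 h
    have h2 : y a * a.1 * (y a)⁻¹ = 1 := congrArg Sigma.fst he
    exact h1 a ha (conj_eq_one_iff.1 h2)
  rw [hsum]
  refine le_trans ?_ (Finset.sum_le_sum_of_subset (s := insert a₀ (S.image f)) ?_)
  · rw [Finset.sum_insert hnot]
    refine Nat.add_le_add hr₀.ge ?_
    rw [← Finset.card_image_of_injOn hfinj, Finset.card_eq_sum_ones]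
    refine Finset.sum_le_sum fun a ha => ?_
    obtain ⟨a', ha', rfl⟩ := Finset.mem_image.1 ha
    exact DegreeTools.DeficiencyOne.one_le_blockRank hM
      (Set.mem_toFinset.1 (Finset.mem_sigma.1 (hfT a' ha')).2).1
  · refine Finset.insert_subset ha₀T fun a ha => ?_
    obtain ⟨a', ha', rfl⟩ := Finset.mem_image.1 ha
    exact hfT a' ha'

variable {M : Ideal AlgInt} {B : Set (IrrCharacter G)} {D : Subgroup G} {k : ℕ} {a b : G}

omit [Fintype G] in
theorem Shape.subgroupOf {e : ℤ} (h : Shape D k e a b) {K : Subgroup G} (hK : D ≤ K) :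
    Shape (D.subgroupOf K) k e (⟨a, hK h.a_mem⟩ : K) ⟨b, hK h.b_mem⟩ where
  two_le := h.two_le
  a_mem := h.a_mem
  b_mem := h.b_mem
  ord_a := by rw [Subgroup.orderOf_mk, h.ord_a]
  card := by rw [Nat.card_congr (Subgroup.subgroupOfEquivOfLe hK).toEquiv, h.card]
  b_sq := Subtype.ext h.b_sq
  b_notMem := fun hm => h.b_notMem (by
    obtain ⟨i, hi⟩ := Subgroup.mem_zpowers_iff.1 hm
    exact Subgroup.mem_zpowers_iff.2 ⟨i, by
      have := congrArg Subtype.val hi
      simpa using this⟩)
  conj := Subtype.ext (by simpa using h.conj)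
  kind := h.kind

omit [Fintype G] in
theorem isPGroup_mulAut_zpowers [Finite G] {x : G} {m : ℕ} (hx : orderOf x = 2 ^ m) :
    IsPGroup 2 (MulAut (Subgroup.zpowers x)) := by
  rcases Nat.eq_zero_or_pos m with hm | hm
  · haveI : Subsingleton (Subgroup.zpowers x) :=
      (Nat.card_eq_one_iff_unique.1 (by rw [Nat.card_zpowers, hx, hm, pow_zero])).1
    haveI : Subsingleton (MulAut (Subgroup.zpowers x)) :=
      ⟨fun _ _ => MulEquiv.ext fun _ => Subsingleton.elim _ _⟩
    exact IsPGroup.of_card (n := 0) (by simp)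
  · refine IsPGroup.of_card (n := m - 1) ?_
    have hc : Nat.card (Subgroup.zpowers x) = 2 ^ m := by rw [Nat.card_zpowers, hx]
    rw [Nat.card_congr (IsCyclic.mulAutMulEquiv (Subgroup.zpowers x)).toEquiv]
    haveI : NeZero (Nat.card (Subgroup.zpowers x)) := ⟨Nat.card_pos.ne'⟩
    rw [Nat.card_eq_fintype_card, ZMod.card_units_eq_totient, hc,
      Nat.totient_prime_pow Nat.prime_two hm]
    simp

/-- Fused Brauer elements in the cyclic part differ at most by inversion. -/
theorem rot_fused (hM : IsPModular 2 M) (hs : Shape D k (-1) a b)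
    {e : Set (IrrCharacter (Subgroup.centralizer (D : Set G)))}
    (hmax : IsMaximalBrauerPair 2 M B D e) [Fact (Nat.Prime 2)] (u v : D)
    (hu : (u : G) ∈ Subgroup.zpowers a) (hv : (v : G) ∈ Subgroup.zpowers a) {y : G}
    (hy : act y (bel hM hmax.1.1 u) = bel hM hmax.1.1 v) : (v : G) = u ∨ (v : G) = (u : G)⁻¹ := by
  have hF := isBlockFusionSystemOn_blockFusion hM hmax
  set F := blockFusion hM hmax.1.1
  have hyv : y * (u : G) * y⁻¹ = v := congrArg Sigma.fst hy
  set C := Subgroup.zpowers (u : G)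
  have hCeq : Subgroup.zpowers (v : G) = C := (zpowers_eq_of_orderOf_eq hu hv (by
    rw [← hyv]; exact (MulEquiv.orderOf_eq (MulAut.conj y) (u : G)).symm)).symm
  have hCD : C ≤ D := Subgroup.zpowers_le.2 u.2
  have hmap : C.map (MulAut.conj y).toMonoidHom = C := by
    rw [MonoidHom.map_zpowers]
    show Subgroup.zpowers (y * (u : G) * y⁻¹) = C
    rw [hyv, hCeq]
  have hN : y ∈ Subgroup.normalizer (C : Set G) :=
    CfsgLib.Fsys.mem_normalizer_of_map_le fun x hx => hmap.le ⟨x, hx, rfl⟩
  set f := (bel hM hmax.1.1 u).2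
  have hle : SubpairLE 2 M C f D e := bel_below hM hmax.1.1 u
  have hmoves : Moves 2 M D e C y := by
    refine ⟨f, hle, ?_⟩
    have h2 := bel_below hM hmax.1.1 v
    rw [← hy, pair_act] at h2
    exact h2
  set α : MulAut C := C.normalizerMonoidHom ⟨y, hN⟩
  have hα : α ∈ F.autGroup C := by
    rw [CfsgLib.Fsys.mem_autGroup hCD, mem_hom_iff hF]
    exact ⟨hCD, y, fun x => rfl, hmoves⟩
  have hFN : F.IsFullyNormalized C := by
    refine ⟨hCD, fun R _ => Subgroup.card_le_of_le fun x hx => ⟨hx.1, ?_⟩⟩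
    refine CfsgLib.Fsys.mem_normalizer_of_map_le fun w hw => ?_
    obtain ⟨i, rfl⟩ := Subgroup.mem_zpowers_iff.1 hw
    obtain ⟨j, hj⟩ := Subgroup.mem_zpowers_iff.1 hu
    by_cases hxA : x ∈ Subgroup.zpowers a
    · obtain ⟨l, rfl⟩ := Subgroup.mem_zpowers_iff.1 hxA
      rw [← hj]
      refine Subgroup.mem_zpowers_iff.2 ⟨i, ?_⟩
      rw [← hj]
      group
    · refine Subgroup.mem_zpowers_iff.2 ⟨-i, ?_⟩
      rw [← hj, ← zpow_mul, ← zpow_mul, hs.conj_zpow hx.1 hxA]
      congr 1
      ring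
  obtain ⟨-, R, hR⟩ := fullyAutomized_of_normalized hM hF hle hFN
  obtain ⟨m, hm⟩ := IsPGroup.iff_orderOf.1 (IsPGroup.of_card (p := 2) hs.card) u
  rw [← Subgroup.orderOf_coe] at hm
  have hA2 : IsPGroup 2 (F.autGroup C) := (isPGroup_mulAut_zpowers hm).to_subgroup _
  have htop : (R : Subgroup (F.autGroup C)) = ⊤ :=
    (R.is_maximal' (IsPGroup.of_equiv hA2 Subgroup.topEquiv.symm) le_top).symm
  have hαP : α ∈ Cfsg.autInducedBy D C :=
    Subgroup.mem_subgroupOf.1 ((hR ▸ htop.symm ▸ Subgroup.mem_top (⟨α, hα⟩ : F.autGroup C)) :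
      (⟨α, hα⟩ : F.autGroup C) ∈ (Cfsg.autInducedBy D C).subgroupOf (F.autGroup C))
  obtain ⟨g, hg, hgα⟩ := CfsgLib.Fsys.mem_autInducedBy.1 hαP
  have h1 : (v : G) = g * (u : G) * g⁻¹ := by
    rw [← hgα ⟨u, Subgroup.mem_zpowers _⟩, ← hyv]
    rfl
  obtain ⟨j, hj⟩ := Subgroup.mem_zpowers_iff.1 hu
  by_cases hgA : g ∈ Subgroup.zpowers a
  · left
    obtain ⟨l, rfl⟩ := Subgroup.mem_zpowers_iff.1 hgA
    rw [h1, ← hj]; group
  · right
    rw [h1, ← hj, hs.conj_zpow hg hgA, mul_neg_one, zpow_neg]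

/-- A reflection not fused to the central involution forces at most two Brauer characters. -/
theorem blockRank_le_two (hM : IsPModular 2 M) (hB : IsPBlock M B) (hD : IsDefectGroup 2 M B D)
    (hs : Shape D k (-1) a b) (hnc : ¬ IsConj b (zinv k a)) : blockRank 2 B ≤ 2 := by
  haveI : Fact (Nat.Prime 2) := ⟨Nat.prime_two⟩
  have hk := hs.two_le
  obtain ⟨e, he⟩ := exists_pair_of_defectGroup hM hB hD
  have hmax := isMaximal_of_defectGroup hM hD he
  have hP := hmax.1.1
  have hF := isBlockFusionSystemOn_blockFusion hM hmax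
  set F := blockFusion hM hP
  have hd : blockDefect 2 B = k + 1 :=
    Nat.pow_right_injective le_rfl ((card_defectGroup hM hB hD).symm.trans hs.card)
  let zD : D := ⟨zinv k a, hs.z_mem⟩
  let bD : D := ⟨b, hs.b_mem⟩
  let aD : D := ⟨a, hs.a_mem⟩
  have hmem : ∀ w : D, IsElemOf 2 M B (bel hM hP w) := fun w =>
    isElemOf_of_below hM hmax (bel_below hM hP w)
  have hind : ∀ w : D, IsInducedBlock M (cenZ (w : G)) (bel hM hP w).2 B := fun w =>
    (isBrauerPairOf_iff_induced hM (hmem w).1.1 (hmem w).1.2).1 (hmem w)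
  -- the reflection is fully centralized
  have hbd : blockDefect 2 (bel hM hP bD).2 = 2 := by
    have hle : SubpairLE 2 M (Subgroup.zpowers b) (bel hM hP bD).2 D e := bel_below hM hP bD
    have hcard : Nat.card (D ⊓ Subgroup.centralizer ((Subgroup.zpowers b : Subgroup G) : Set G) :
        Subgroup G) = 4 := by
      rw [CfsgLib.Blocks.centralizer_zpowers]
      refine le_antisymm (hs.card_centralizer_le hs.b_mem hs.b_notMem) ?_
      set W := D ⊓ Subgroup.centralizer ({b} : Set G)
      obtain ⟨j, hj⟩ := IsPGroup.iff_card.1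
        ((IsPGroup.of_card (p := 2) hs.card).to_le (inf_le_left : W ≤ D))
      have hbW : b ∈ W := ⟨hs.b_mem, Subgroup.mem_centralizer_singleton_iff.2 rfl⟩
      have hzW : zinv k a ∈ W :=
        ⟨hs.z_mem, Subgroup.mem_centralizer_singleton_iff.2 (hs.z_comm hs.b_mem).symm⟩
      have h3 : 2 < Nat.card W := by
        rw [Nat.card_eq_fintype_card, Fintype.two_lt_card_iff]
        refine ⟨1, ⟨b, hbW⟩, ⟨zinv k a, hzW⟩, fun h => hs.b_ne_one (congrArg Subtype.val h).symm,
          fun h => hs.z_ne_one (congrArg Subtype.val h).symm, fun h => hs.b_notMem ?_⟩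
        rw [show b = zinv k a from congrArg Subtype.val h]
        exact Subgroup.pow_mem _ (Subgroup.mem_zpowers a) _
      rw [hj] at h3 ⊢
      have : 2 ≤ j := by
        by_contra hh
        have := Nat.pow_le_pow_right (show 0 < 2 by omega) (show j ≤ 1 by omega)
        omega
      exact Nat.pow_le_pow_right (n := 2) (by omega) this
    have hFC : F.IsFullyCentralized (Subgroup.zpowers b) := by
      refine ⟨Subgroup.zpowers_le.2 hs.b_mem, fun R hR => ?_⟩
      obtain ⟨-, g, hmv, rfl⟩ := (isConj_iff_moves hF).1 hR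
      obtain ⟨f', hf', hgf⟩ := hmv
      have hgD : g * b * g⁻¹ ∈ D := hgf.le ⟨b, Subgroup.mem_zpowers b, rfl⟩
      have hgA : g * b * g⁻¹ ∉ Subgroup.zpowers a := by
        intro hA
        rcases hs.eq_of_sq_zpowers hA (by
          calc g * b * g⁻¹ * (g * b * g⁻¹) = g * (b * b) * g⁻¹ := by group
            _ = 1 := by rw [hs.b_sq]; group) with h | h
        · exact hs.b_ne_one (conj_eq_one_iff.1 h)
        · exact hnc (isConj_iff.2 ⟨g, h⟩)
      show Nat.card (D ⊓ Subgroup.centralizer _ : Subgroup G) ≤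
        Nat.card (D ⊓ Subgroup.centralizer _ : Subgroup G)
      rw [hcard, MonoidHom.map_zpowers, CfsgLib.Blocks.centralizer_zpowers]
      exact hs.card_centralizer_le hgD hgA
    have h := (isFullyCentralized_iff hM hF hle).1 hFC
    rw [hcard] at h
    exact (Nat.pow_right_injective le_rfl (show 2 ^ 2 = 2 ^ _ from h)).symm
  -- characters of height zero
  have hk0 : Nat.card {χ : IrrCharacter G // χ ∈ B ∧ blockHeight 2 B (χ : G → ℂ) = 0} ≤ 4 := by
    obtain ⟨c, hc, hcd⟩ : ∃ c : Set (IrrCharacter (Subgroup.centralizer ({b} : Set G))),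
        IsInducedBlock M (Subgroup.centralizer ({b} : Set G)) c B ∧ blockDefect 2 c = 2 := by
      rw [← cenZ_eq b]
      exact ⟨_, hind bD, hbd⟩
    have h1 := (Cfsg.Agent.S4698.result 2 M hM c hc.1 2 hcd).1 le_rfl
    obtain ⟨h2, -, h3⟩ := Cfsg.Agent.S4733.result 2 M hM c hc.1
    have h4 : Nat.card c ≠ blockRank 2 c := fun h => by rw [h3.2 h] at hcd; omega
    have h5 := (Cfsg.Agent.S4541.result M hM B hB b ⟨1, by rw [hs.orderOf_b, pow_one]⟩ c hc).2.2
      (by have h6 : Nat.card c ≤ 4 := h1.trans (le_of_eq (by norm_num)); omega)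
    rw [hcd] at h5
    simpa using h5
  -- the major subsection at the central involution
  have hzc : ∀ x ∈ D, x ∈ cenZ (zinv k a) := fun x hx => by
    rw [cenZ_eq, Subgroup.mem_centralizer_singleton_iff]; exact hs.z_comm hx
  have hDz : (D ⊓ Subgroup.centralizer ((Subgroup.zpowers (zinv k a) : Subgroup G) : Set G) :
      Subgroup G) = D := inf_eq_left.2 hzc
  obtain ⟨fz, hfz, hlez⟩ : ∃ fz : Set (IrrCharacter (cenZ (zinv k a))),
      IsInducedBlock M (cenZ (zinv k a)) fz B ∧
        SubpairLE 2 M (Subgroup.zpowers (zinv k a)) fz D e := ⟨_, hind zD, bel_below hM hP zD⟩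
  have hzd : blockDefect 2 fz = blockDefect 2 B := by
    refine le_antisymm (blockDefect_le_of_induced hM hfz) ?_
    have h := card_centralizerIn_le hM hP hlez
    rw [hDz, card_defectGroup hM hB hD] at h
    exact (Nat.pow_le_pow_iff_right one_lt_two).1 h
  have hDGz : IsDefectGroup 2 M fz (D.subgroupOf (cenZ (zinv k a))) := by
    have h := (isDefectGroup_centralizer_iff hM hP hlez).2 (by
      rw [hDz, hzd, card_defectGroup hM hB hD])
    rwa [hDz] at h
  have hlz : blockRank 2 fz = 1 := by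
    refine blockRank_eq_one hM hfz.1 hDGz (hs.subgroupOf hzc) ?_
    refine Subgroup.mem_center_iff.2 fun u => Subtype.ext ?_
    simp only [zinv, Subgroup.coe_mul, SubmonoidClass.coe_pow]
    have h1 := Subgroup.mem_centralizer_iff.1 u.2 (zinv k a) (Subgroup.mem_zpowers _)
    exact h1.symm
  obtain ⟨dat⟩ := TwoMajor.nonempty_data hM (cenZ_eq (zinv k a))
    ⟨1, by rw [hs.orderOf_z, pow_one]⟩ hfz hzd
  set W : Finset (IrrCharacter G) := Finset.univ.filter (· ∈ B)
  have hW : W.card = Nat.card B := by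
    rw [Nat.card_eq_fintype_card, Fintype.card_subtype]
  have hweight : ∀ χ ∈ W, (if TwoMajor.ht B χ = 0 then 1 else 4) ≤ dat.a χ := by
    intro χ hχ
    have hχB : χ ∈ B := (Finset.mem_filter.1 hχ).2
    split_ifs with hh
    · exact (dat.odd_a χ hχB hh).pos
    · refine le_trans ?_ (Nat.le_of_dvd (Nat.pos_of_ne_zero fun h0 => ?_) (dat.dvd_a χ hχB hh))
      · exact Nat.pow_le_pow_right (n := 2) (by omega) (show 2 ≤ TwoMajor.ht B χ + 1 by omega)
      · obtain ⟨χ₀, hχ₀, h00⟩ := exists_degVal_eq_min (p := 2) (IsPBlock.nonempty hM hB)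
        have h1 := dat.low χ hχB χ₀ hχ₀ (by simp [TwoMajor.ht, h00])
        have h2 := dat.idem χ
        rw [h0, mul_zero, Finset.sum_eq_zero_iff] at h2
        rw [h2 χ₀ (Finset.mem_univ _)] at h1
        exact absurd h1 (Nat.not_le.2 (pow_pos (by norm_num) _))
  have hk0' : (W.filter fun χ => TwoMajor.ht B χ = 0).card ≤ 4 := by
    refine le_trans (le_of_eq ?_) hk0
    rw [Nat.card_eq_fintype_card, Fintype.card_subtype]
    congr 1
    ext χ
    simp only [W, Finset.mem_filter, Finset.mem_univ, true_and]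
    refine and_congr_right fun hχ => ?_
    rw [blockHeight_eq_zero_iff hχ, TwoMajor.ht]
    have := minDegVal_le (p := 2) hχ
    omega
  have htot := (Finset.sum_le_sum hweight).trans_eq dat.sum_a
  rw [hlz, one_mul, hd, Finset.sum_ite, Finset.sum_const, Finset.sum_const, smul_eq_mul, mul_one,
    smul_eq_mul] at htot
  have hsplit := Finset.card_filter_add_card_filter_not (s := W) fun χ => TwoMajor.ht B χ = 0
  -- the subsections
  set q := 2 ^ (k - 1) with hq
  have hq2 : q * 2 = 2 ^ k := two_pow_mul (by omega)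
  set R : Finset D := insert zD (insert bD ((Finset.Icc 1 (q - 1)).image fun i => aD ^ i))
  have hpow_ord : ∀ i, 1 ≤ i → i ≤ q - 1 → a ^ i * a ^ i ≠ 1 := by
    intro i h1 h2
    rw [← pow_add]
    exact pow_ne_one_of_lt_orderOf (by omega) (by rw [hs.ord_a]; omega)
  have hcardR : R.card = q + 1 := by
    have hinj : Set.InjOn (fun i => aD ^ i) (Finset.Icc 1 (q - 1) : Set ℕ) := by
      intro i hi i' hi' h
      simp only [Finset.coe_Icc, Set.mem_Icc] at hi hi'
      have h' := congrArg Subtype.val h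
      simp only [SubmonoidClass.coe_pow] at h'
      exact pow_injOn_Iio_orderOf (Set.mem_Iio.2 (show i < orderOf a by rw [hs.ord_a]; omega))
        (Set.mem_Iio.2 (show i' < orderOf a by rw [hs.ord_a]; omega)) h'
    rw [Finset.card_insert_of_notMem, Finset.card_insert_of_notMem,
      Finset.card_image_of_injOn hinj, Nat.card_Icc]
    · have : 1 ≤ q := Nat.one_le_two_pow
      omega
    · intro h
      obtain ⟨i, hi, h'⟩ := Finset.mem_image.1 h
      exact hs.b_notMem (Subgroup.mem_zpowers_iff.2 ⟨i, by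
        rw [zpow_natCast]; exact congrArg Subtype.val h'⟩)
    · intro h
      rcases Finset.mem_insert.1 h with h' | h'
      · exact hs.b_notMem (by
          rw [show b = zinv k a from (congrArg Subtype.val h').symm]
          exact Subgroup.pow_mem _ (Subgroup.mem_zpowers a) _)
      · obtain ⟨i, hi, h''⟩ := Finset.mem_image.1 h'
        rw [Finset.mem_Icc] at hi
        refine hpow_ord i hi.1 hi.2 ?_
        rw [show a ^ i = zinv k a from congrArg Subtype.val h'']
        exact hs.z_sq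
  have hbelinj : ∀ w w' : D, bel hM hP w = bel hM hP w' → w = w' := fun w w' h =>
    Subtype.ext (congrArg Sigma.fst h)
  have hcnt := rank_add_card_le hM hB (R.image (bel hM hP))
    (fun x hx => by obtain ⟨w, -, rfl⟩ := Finset.mem_image.1 hx; exact hmem w)
    (fun x hx => by
      obtain ⟨w, hw, rfl⟩ := Finset.mem_image.1 hx
      show (w : G) ≠ 1
      rcases Finset.mem_insert.1 hw with rfl | hw
      · exact hs.z_ne_one
      rcases Finset.mem_insert.1 hw with rfl | hw
      · exact hs.b_ne_one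
      obtain ⟨i, hi, rfl⟩ := Finset.mem_image.1 hw
      rw [Finset.mem_Icc] at hi
      intro h
      exact hpow_ord i hi.1 hi.2 (by rw [show a ^ i = 1 from h, mul_one]))
    (fun x hx x' hx' y hy => by
      obtain ⟨w, hw, rfl⟩ := Finset.mem_image.1 hx
      obtain ⟨w', hw', rfl⟩ := Finset.mem_image.1 hx'
      congr 1
      have hyw : y * (w : G) * y⁻¹ = w' := congrArg Sigma.fst hy
      have hsq : (w : G) * w = 1 ↔ (w' : G) * w' = 1 := by
        rw [← hyw]
        constructor <;> intro h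
        · calc y * (w : G) * y⁻¹ * (y * w * y⁻¹) = y * ((w : G) * w) * y⁻¹ := by group
            _ = 1 := by rw [h]; group
        · calc (w : G) * w = y⁻¹ * (y * (w : G) * y⁻¹ * (y * w * y⁻¹)) * y := by group
            _ = 1 := by rw [h]; group
      simp only [R, Finset.mem_insert, Finset.mem_image, Finset.mem_Icc] at hw hw'
      rcases hw with rfl | rfl | ⟨i, hi, rfl⟩ <;> rcases hw' with rfl | rfl | ⟨j, hj, rfl⟩
      · rfl
      · exact absurd (isConj_iff.2 ⟨y, hyw⟩ : IsConj (zinv k a) b).symm hnc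
      · exact absurd (hsq.1 hs.z_sq) (by simpa [aD] using hpow_ord j hj.1 hj.2)
      · exact absurd (isConj_iff.2 ⟨y, hyw⟩ : IsConj b (zinv k a)) hnc
      · rfl
      · exact absurd (hsq.1 hs.b_sq) (by simpa [aD] using hpow_ord j hj.1 hj.2)
      · exact absurd (hsq.2 hs.z_sq) (by simpa [aD] using hpow_ord i hi.1 hi.2)
      · exact absurd (hsq.2 hs.b_sq) (by simpa [aD] using hpow_ord i hi.1 hi.2)
      · rcases rot_fused hM hs hmax (aD ^ i) (aD ^ j)
          (by simpa [aD] using Subgroup.pow_mem _ (Subgroup.mem_zpowers a) i)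
          (by simpa [aD] using Subgroup.pow_mem _ (Subgroup.mem_zpowers a) j) hy with h | h
        · exact Subtype.ext h.symm
        · exfalso
          simp only [aD, SubmonoidClass.coe_pow] at h
          have : a ^ (j + i) = 1 := by rw [pow_add, h, inv_mul_cancel]
          exact pow_ne_one_of_lt_orderOf (by omega) (by rw [hs.ord_a]; omega) this)
  rw [Finset.card_image_of_injective _ (fun w w' h => hbelinj w w' h), hcardR] at hcnt
  have h4 : 2 ^ (k + 1) = 4 * q := by rw [pow_succ, ← hq2]; ring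
  omega

end CfsgLib.Blocks.TameDefect
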