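import Cfsg.Agent.Lib.Blocks.TameDefect.SolvableClasses
import Cfsg.Agent.Lib.Blocks.RegularIdemExt
import Cfsg.Agent.Lib.Blocks.StableOver
import Cfsg.Agent.Lib.Blocks.Complement
import Cfsg.Agent.Lib.CharDeep.Glauberman.Gallagher
import Cfsg.Agent.Lib.Components.PComponents
import Cfsg.Agent.S4492
import Cfsg.Agent.Lib.Blocks.Rank
import Cfsg.Agent.Lib.Blocks.Height

/-!
# Brauer characters of blocks with dihedral or semidihedral defect groups of solvable groups
-/

set_option autoImplicit false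
set_option maxHeartbeats 800000

namespace CfsgLib.Blocks.TameDefect

open Cfsg CfsgLib.Blocks CfsgLib.Blocks.FongReynolds
open scoped Classical

universe u

variable {G : Type u} [Group G] [Fintype G]

/-- On each coset of `N` the characters over an invariant character are proportional. -/
theorem exists_coset_fun {N : Subgroup G} [hN : N.Normal] [Fintype N] (θ : IrrCharacter N)
    (hinv : ∀ (g : G) (n : N), (θ : N → ℂ) ⟨g * n * g⁻¹, hN.conj_mem n n.2 g⟩ = (θ : N → ℂ) n)
    (x : G) : ∃ E : G → ℂ, ∀ χ : IrrCharacter G,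
      classInner (fun n : N => (χ : G → ℂ) n) (θ : N → ℂ) ≠ 0 →
        ∃ r : ℂ, ∀ n : N, (χ : G → ℂ) (x * n) = r * E (x * n) := by
  obtain ⟨E, hE, hEN⟩ := RegIdemExt.exists_extension_sup_zpowers θ.2 hinv x
  refine ⟨E, fun χ hχ => ?_⟩
  set L := N ⊔ Subgroup.zpowers x
  have hNL : N ≤ L := le_sup_left
  have hxL : x ∈ L := Subgroup.mem_sup_right (Subgroup.mem_zpowers x)
  letI : Fintype L := Fintype.ofFinite _
  letI : Fintype (N.subgroupOf L) := Fintype.ofFinite _
  letI : Fintype (L ⧸ N.subgroupOf L) := Fintype.ofFinite _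
  let e : N.subgroupOf L ≃* N := Subgroup.subgroupOfEquivOfLe hNL
  have hθ' : IsIrrCharacter (N.subgroupOf L) ((θ : N → ℂ) ∘ e) :=
    CfsgLib.Char.IsIrrCharacter.comp_surjective θ.2 e.toMonoidHom e.surjective
  have hres : ∀ n : N.subgroupOf L, (fun l : L => E l) n = ((θ : N → ℂ) ∘ e) n := fun n => hEN (e n)
  have hR : IsCharacter L fun l : L => (χ : G → ℂ) l :=
    CfsgLib.Char.IsCharacter.restrict (CfsgLib.Char.isCharacter_irr χ) L
  obtain ⟨m, hm, hexp⟩ := CfsgLib.Char.IsCharacter.exists_multiplicity hR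
  -- every constituent on `L` lies over `θ`
  have hover : ∀ η : IrrCharacter L, m η ≠ 0 →
      classInner (fun n : N.subgroupOf L => (η : L → ℂ) n) ((θ : N → ℂ) ∘ e) ≠ 0 := by
    intro η hη
    obtain ⟨φ, hφ, hφne⟩ := CfsgLib.Char.IsCharacter.exists_constituent
      (isCharacter_res hNL (CfsgLib.Char.isCharacter_irr η)) fun h => irr_one_ne_zero η (by
        have := congrFun h 1
        exact this)
    have hφ' : classInner (fun n : N => (χ : G → ℂ) n) φ ≠ 0 := by
      choose c hc using fun η' : IrrCharacter L => CfsgLib.Char.IsCharacter.classInner_nat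
        (isCharacter_res hNL (CfsgLib.Char.isCharacter_irr η')) (CfsgLib.Char.IsIrrCharacter.isCharacter hφ)
      have e0 : (fun n : N => (χ : G → ℂ) n)
          = ∑ η' : IrrCharacter L, (m η' : ℂ) • res hNL (η' : L → ℂ) := by
        funext n
        rw [Finset.sum_apply]
        exact hexp ⟨(n : G), hNL n.2⟩
      rw [e0, CfsgLib.Char.classInner_sum_left]
      simp only [CfsgLib.Char.classInner_smul_left, hc]
      intro h0
      have h0' : ∑ η' : IrrCharacter L, m η' * c η' = 0 := by exact_mod_cast h0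
      have h1 := (Finset.sum_eq_zero_iff.1 h0') η (Finset.mem_univ _)
      rcases Nat.mul_eq_zero.1 h1 with h2 | h2
      · exact hη h2
      · exact hφne (by rw [hc η, h2, Nat.cast_zero])
    obtain ⟨g, hg⟩ := CfsgLib.CharDeep.Clifford.exists_conj_of_constituent N χ.2 θ.2 hφ hχ hφ'
    have hφθ : φ = (θ : N → ℂ) := by
      rw [hg]
      funext n
      rw [CfsgLib.CharDeep.Clifford.conjFun_apply]
      exact hinv g n
    rw [hφθ] at hφne
    refine fun h0 => hφne (Eq.trans ?_ h0)
    unfold Cfsg.classInner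
    rw [Nat.card_congr e.toEquiv]
    congr 1
    exact (Fintype.sum_equiv e.toEquiv _ _ fun n => rfl).symm
  have hterm : ∀ η : IrrCharacter L, ∃ t : ℂ, ∀ n : N,
      (m η : ℂ) * (η : L → ℂ) (⟨x, hxL⟩ * ⟨(n : G), hNL n.2⟩) = t * E (x * n) := by
    intro η
    by_cases hη : m η = 0
    · exact ⟨0, fun n => by simp [hη]⟩
    obtain ⟨β, hβ⟩ := CfsgLib.CharDeep.Glauberman.exists_ext_mul
      (QuotientGroup.mk'_surjective (N.subgroupOf L)) (QuotientGroup.ker_mk' _) hE hθ' hres η.2
      (hover η hη)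
    refine ⟨(m η : ℂ) * (β : _ → ℂ) (QuotientGroup.mk' (N.subgroupOf L) ⟨x, hxL⟩), fun n => ?_⟩
    rw [hβ]
    simp only [Pi.mul_apply, Function.comp_apply, map_mul]
    rw [show QuotientGroup.mk' (N.subgroupOf L) (⟨(n : G), hNL n.2⟩ : L) = 1 from
      (QuotientGroup.eq_one_iff _).2 n.2, mul_one]
    show (m η : ℂ) * (E (x * n) * _) = _
    ring
  choose t ht using hterm
  refine ⟨∑ η, t η, fun n => ?_⟩
  rw [Finset.sum_mul]
  refine (hexp (⟨x, hxL⟩ * ⟨(n : G), hNL n.2⟩)).trans (Finset.sum_congr rfl fun η _ => ?_)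
  simpa using ht η n

/-- Two classes of regular elements in the quotient allow at most two Brauer characters. -/
theorem blockRank_le_two_of_classes {p : ℕ} (hp : p.Prime) {N : Subgroup G} [hN : N.Normal]
    [Fintype N] (θ : IrrCharacter N)
    (hinv : ∀ (g : G) (n : N), (θ : N → ℂ) ⟨g * n * g⁻¹, hN.conj_mem n n.2 g⟩ = (θ : N → ℂ) n)
    {B : Set (IrrCharacter G)}
    (hB : ∀ χ ∈ B, classInner (fun n : N => (χ : G → ℂ) n) (θ : N → ℂ) ≠ 0)
    (hcl : ∀ g h : G ⧸ N, ¬ p ∣ orderOf g → g ≠ 1 → ¬ p ∣ orderOf h → h ≠ 1 → IsConj g h) :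
    blockRank p B ≤ 2 := by
  set π := QuotientGroup.mk' N
  have hπN : ∀ g : G, π g = 1 ↔ g ∈ N := fun g => QuotientGroup.eq_one_iff g
  obtain ⟨x₀, hx₀⟩ : ∃ x₀ : G, ∀ g : G, IsPRegular p g → g ∉ N → ∃ c : G, x₀⁻¹ * (c * g * c⁻¹) ∈ N := by
    by_cases h : ∃ g : G, IsPRegular p g ∧ g ∉ N
    · obtain ⟨x₀, hx₀, hx₀N⟩ := h
      refine ⟨x₀, fun g hg hgN => ?_⟩
      obtain ⟨c, hc⟩ := isConj_iff.1 (hcl (π g) (π x₀)
        (fun h => hg (h.trans (orderOf_map_dvd π g))) (mt (hπN g).1 hgN)
        (fun h => hx₀ (h.trans (orderOf_map_dvd π x₀))) (mt (hπN x₀).1 hx₀N))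
      obtain ⟨c, rfl⟩ := QuotientGroup.mk'_surjective N c
      exact ⟨c, (hπN _).1 (by
        rw [map_mul, map_mul, map_mul, map_inv, map_inv, hc, inv_mul_cancel])⟩
    · exact ⟨1, fun g hg hgN => absurd ⟨g, hg, hgN⟩ h⟩
  choose c hc using hx₀
  obtain ⟨E₁, hE₁⟩ := exists_coset_fun θ hinv 1
  obtain ⟨E₂, hE₂⟩ := exists_coset_fun θ hinv x₀
  set F₁ : G → ℂ := fun g => if IsPRegular p g ∧ g ∈ N then E₁ g else 0
  set F₂ : G → ℂ := fun g => if h : IsPRegular p g ∧ g ∉ N then
    E₂ (c g h.1 h.2 * g * (c g h.1 h.2)⁻¹) else 0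
  rw [blockRank]
  refine le_trans (Submodule.finrank_mono (t := Submodule.span ℂ
    (↑({F₁, F₂} : Finset (G → ℂ)) : Set (G → ℂ))) ?_)
    ((finrank_span_finset_le_card _).trans Finset.card_le_two)
  rw [Submodule.span_le]
  rintro _ ⟨χ, hχ, rfl⟩
  obtain ⟨r₁, hr₁⟩ := hE₁ χ (hB χ hχ)
  obtain ⟨r₂, hr₂⟩ := hE₂ χ (hB χ hχ)
  have e : pRegularPart p (χ : G → ℂ) = r₁ • F₁ + r₂ • F₂ := by
    funext g
    simp only [Pi.add_apply, Pi.smul_apply, smul_eq_mul, pRegularPart_apply, F₁, F₂]
    by_cases hg : IsPRegular p g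
    · by_cases hgN : g ∈ N
      · rw [if_pos hg, if_pos ⟨hg, hgN⟩, dif_neg fun h => h.2 hgN, mul_zero, add_zero]
        simpa using hr₁ ⟨g, hgN⟩
      · rw [if_pos hg, if_neg fun h => hgN h.2, dif_pos ⟨hg, hgN⟩, mul_zero, zero_add]
        have h := hr₂ ⟨_, hc g hg hgN⟩
        simp only [mul_inv_cancel_left] at h
        rw [irr_conj_apply] at h
        exact h
    · rw [if_neg hg, if_neg fun h => hg h.1, dif_neg fun h => hg h.1]
      simp
  show pRegularPart p (χ : G → ℂ) ∈ _
  rw [e]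
  exact add_mem (Submodule.smul_mem _ _ (Submodule.subset_span (by simp)))
    (Submodule.smul_mem _ _ (Submodule.subset_span (by simp)))

section Descent

variable {p : ℕ} {M : Ideal AlgInt} {N : Subgroup G} [N.Normal] [Fintype N] {T : Subgroup G}
  [Fintype T] (hNT : N ≤ T) {b : Set (IrrCharacter N)} (hM : IsPModular p M) (hb : IsPBlock M b)
  (hT : ∀ g : G, g ∈ T ↔ ∀ θ ∈ b, conjIrr g θ ∈ b)
include hM hb hT

/-- The number of Brauer characters does not drop in the Fong–Reynolds correspondence. -/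
theorem rank_le_induced {B' : Set (IrrCharacter T)} (hB' : IsPBlock M B')
    (hcov : ∃ ψ ∈ B', Covers hNT ψ b) {B : Set (IrrCharacter G)} (hind : IsInducedBlock M T B' B) :
    blockRank p B ≤ blockRank p B' := by
  obtain ⟨B₂, hi, -, -, hiff⟩ := exists_induced hNT hM hb hT hB' hcov
  obtain rfl := IsInducedBlock.unique hM hind hi
  let L : (T → ℂ) →ₗ[ℂ] (G → ℂ) :=
    { toFun := fun φ => indFun T φ
      map_add' := fun φ φ' => funext fun g => by
        simp only [CfsgLib.Char.indFun_def, Pi.add_apply, ← mul_add, ← Finset.sum_add_distrib]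
        congr 1
        refine Finset.sum_congr rfl fun x _ => ?_
        by_cases hx : x⁻¹ * g * x ∈ T
        · rw [CfsgLib.Char.extendByZero_apply_mem T _ hx, CfsgLib.Char.extendByZero_apply_mem T _ hx,
            CfsgLib.Char.extendByZero_apply_mem T _ hx]
          rfl
        · rw [CfsgLib.Char.extendByZero_apply_notMem T _ hx,
            CfsgLib.Char.extendByZero_apply_notMem T _ hx,
            CfsgLib.Char.extendByZero_apply_notMem T _ hx, add_zero]
      map_smul' := fun r φ => funext fun g => by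
        simp only [CfsgLib.Char.indFun_def, Pi.smul_apply, smul_eq_mul, RingHom.id_apply,
          Finset.mul_sum]
        refine Finset.sum_congr rfl fun x _ => ?_
        by_cases hx : x⁻¹ * g * x ∈ T
        · rw [CfsgLib.Char.extendByZero_apply_mem T _ hx, CfsgLib.Char.extendByZero_apply_mem T _ hx]
          simp only [Pi.smul_apply, smul_eq_mul]
          ring
        · rw [CfsgLib.Char.extendByZero_apply_notMem T _ hx,
            CfsgLib.Char.extendByZero_apply_notMem T _ hx]
          ring }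
  have hreg : ∀ φ : T → ℂ, L (pRegularPart p φ) = pRegularPart p (indFun T φ) := by
    intro φ
    funext g
    show indFun T (pRegularPart p φ) g = _
    rw [pRegularPart_apply, CfsgLib.Char.indFun_def, CfsgLib.Char.indFun_def]
    have hord : ∀ x : G, orderOf (x⁻¹ * g * x) = orderOf g := fun x => by
      rw [show x⁻¹ * g * x = MulAut.conj x⁻¹ g by simp, MulEquiv.orderOf_eq]
    by_cases hg : IsPRegular p g
    · rw [if_pos hg]
      congr 1
      refine Finset.sum_congr rfl fun x _ => ?_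
      by_cases hx : x⁻¹ * g * x ∈ T
      · rw [CfsgLib.Char.extendByZero_apply_mem T _ hx, CfsgLib.Char.extendByZero_apply_mem T _ hx,
          pRegularPart_apply, if_pos (show IsPRegular p (⟨_, hx⟩ : T) by
            show ¬ p ∣ _
            rw [← Subgroup.orderOf_coe, hord]; exact hg)]
      · rw [CfsgLib.Char.extendByZero_apply_notMem T _ hx,
          CfsgLib.Char.extendByZero_apply_notMem T _ hx]
    · rw [if_neg hg, Finset.sum_eq_zero, mul_zero]
      intro x _
      by_cases hx : x⁻¹ * g * x ∈ T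
      · rw [CfsgLib.Char.extendByZero_apply_mem T _ hx, pRegularPart_apply,
          if_neg (show ¬ IsPRegular p (⟨_, hx⟩ : T) from fun h => hg (by
            show ¬ p ∣ _
            rw [← hord x, show orderOf (x⁻¹ * g * x) = orderOf (⟨_, hx⟩ : T) from
              Subgroup.orderOf_coe ⟨_, hx⟩]
            exact h))]
      · rw [CfsgLib.Char.extendByZero_apply_notMem T _ hx]
  have hmap : Submodule.span ℂ ((fun χ : IrrCharacter G => pRegularPart p (χ : G → ℂ)) '' B)
      ≤ (Submodule.span ℂ ((fun χ : IrrCharacter T => pRegularPart p (χ : T → ℂ)) '' B')).map L := by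
    rw [Submodule.span_le]
    rintro _ ⟨χ, hχ, rfl⟩
    obtain ⟨ψ, hψ, he⟩ := (hiff χ).1 hχ
    refine ⟨pRegularPart p (ψ : T → ℂ), Submodule.subset_span ⟨ψ, hψ, rfl⟩, ?_⟩
    rw [hreg, ← he]
  exact (Submodule.finrank_mono hmap).trans (Submodule.finrank_map_le _ _)

end Descent

omit [Fintype G] in
/-- Shapes pass along injective maps. -/
theorem Shape.map {D : Subgroup G} {k : ℕ} {e : ℤ} {a b : G} (h : Shape D k e a b) {H : Type*}
    [Group H] (f : G →* H) (hf : Set.InjOn f D) : Shape (D.map f) k e (f a) (f b) := by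
  have hinj : Function.Injective (f.domRestrict D) := fun x y hxy =>
    Subtype.ext (hf x.2 y.2 hxy)
  refine ⟨h.two_le, ⟨a, h.a_mem, rfl⟩, ⟨b, h.b_mem, rfl⟩, ?_, ?_, ?_, fun hm => h.b_notMem ?_, ?_,
    h.kind⟩
  · have h1 := orderOf_injective (f.domRestrict D) hinj ⟨a, h.a_mem⟩
    rw [show f.domRestrict D ⟨a, h.a_mem⟩ = f a from rfl, Subgroup.orderOf_mk] at h1
    rw [h1, h.ord_a]
  · rw [Subgroup.map, ← h.card]
    exact Nat.card_image_of_injOn hf
  · rw [← map_mul, h.b_sq, map_one]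
  · obtain ⟨i, hi⟩ := Subgroup.mem_zpowers_iff.1 hm
    rw [← map_zpow] at hi
    exact Subgroup.mem_zpowers_iff.2 ⟨i, hf (Subgroup.zpow_mem _ h.a_mem i) h.b_mem hi⟩
  · rw [← map_inv, ← map_mul, ← map_mul, h.conj, map_zpow]

omit [Fintype G] in
/-- Shapes pull back along injective maps. -/
theorem Shape.of_map {D : Subgroup G} {H : Type*} [Group H] (f : G →* H)
    (hf : Function.Injective f) {k : ℕ} {e : ℤ} {a b : H} (h : Shape (D.map f) k e a b) :
    ∃ a' b' : G, Shape D k e a' b' := by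
  obtain ⟨a', ha', rfl⟩ := h.a_mem
  obtain ⟨b', hb', rfl⟩ := h.b_mem
  refine ⟨a', b', h.two_le, ha', hb', by rw [← orderOf_injective f hf, h.ord_a], ?_, ?_,
    fun hm => h.b_notMem ?_, ?_, h.kind⟩
  · rw [← Subgroup.card_map_of_injective hf, h.card]
  · exact hf (by rw [map_mul, map_one]; exact h.b_sq)
  · obtain ⟨i, rfl⟩ := Subgroup.mem_zpowers_iff.1 hm
    rw [map_zpow]
    exact Subgroup.zpow_mem _ (Subgroup.mem_zpowers _) i
  · exact hf (by rw [map_mul, map_mul, map_inv, map_zpow]; exact h.conj)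

/-- A block of a solvable group with dihedral or semidihedral defect group has at most two Brauer
characters. -/
theorem blockRank_le_two_of_solvable {M : Ideal AlgInt} (hM : IsPModular 2 M) :
    ∀ (n : ℕ) (G : Type u) [Group G] [Fintype G], Nat.card G = n → Group.IsSolvable G →
      ∀ (B : Set (IrrCharacter G)), IsPBlock M B → ∀ D : Subgroup G, IsDefectGroup 2 M B D →
        ∀ (k : ℕ) (e : ℤ) (a b : G), Shape D k e a b → blockRank 2 B ≤ 2 := by
  intro n
  induction n using Nat.strong_induction_on with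
  | _ n ih =>
    intro G _ _ hn hsol B hB D hD k e a b hs
    haveI : Fact (Nat.Prime 2) := ⟨Nat.prime_two⟩
    haveI := hsol
    haveI hNn : (pPrimeCore 2 G).Normal := CfsgLib.Solvable.Cores.pPrimeCore_normal 2
    set N := pPrimeCore 2 G with hN_def
    letI : Fintype N := Fintype.ofFinite _
    have hcop := CfsgLib.Solvable.Cores.coprime_card_pPrimeCore (G := G) 2
    have hKp : ¬ 2 ∣ Nat.card N := hM.1.coprime_iff_not_dvd.1 hcop.symm
    obtain ⟨χ, hχ⟩ := IsPBlock.nonempty hM hB
    obtain ⟨θ, hθ⟩ := CfsgLib.Blocks.exists_over (N := N) χ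
    have hθ' : classInner (fun n : N => (χ : G → ℂ) n) (θ : N → ℂ) ≠ 0 := hθ
    have hb := (CfsgLib.Blocks.StableOver.isPBlock_singleton hM hKp θ).1
    have hcl : ∀ n m : N, (θ : N → ℂ) (m * n * m⁻¹) = (θ : N → ℂ) n := fun n m =>
      irr_conj_apply θ n m
    let T : Subgroup G :=
      { carrier := {g | conjIrr g θ = θ}
        mul_mem' := fun {a c} (ha : conjIrr a θ = θ) (hc : conjIrr c θ = θ) => by
          show conjIrr (a * c) θ = θ
          rw [← conjIrr_mul c a θ, ha, hc]
        one_mem' := conjIrr_one θ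
        inv_mem' := fun {a} (ha : conjIrr a θ = θ) => by
          show conjIrr a⁻¹ θ = θ
          conv_lhs => rw [← ha]
          rw [conjIrr_mul, mul_inv_cancel, conjIrr_one] }
    letI : Fintype T := Fintype.ofFinite _
    have hT : ∀ g : G, g ∈ T ↔ ∀ φ ∈ ({θ} : Set (IrrCharacter N)),
        conjIrr g φ ∈ ({θ} : Set (IrrCharacter N)) := fun g =>
      ⟨fun h φ hφ => by rw [Set.mem_singleton_iff.1 hφ]; exact h, fun h => h θ rfl⟩
    have hNT : N ≤ T := fun x hx => by
      show conjIrr x θ = θ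
      refine Subtype.ext (funext fun m => ?_)
      show CfsgLib.CharDeep.Clifford.conjFun N x (θ : N → ℂ) m = (θ : N → ℂ) m
      exact (CfsgLib.CharDeep.Clifford.conjFun_apply N x (θ : N → ℂ) m).trans
        ((congrArg (θ : N → ℂ) (Subtype.ext rfl)).trans (hcl m ⟨x, hx⟩))
    by_cases hTtop : T = ⊤
    · have hinv : ∀ (g : G) (m : N), (θ : N → ℂ) ⟨g * m * g⁻¹, hNn.conj_mem m m.2 g⟩
          = (θ : N → ℂ) m := fun g m => by
        have h : conjIrr g θ = θ := (show g ∈ T from hTtop ▸ Subgroup.mem_top g)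
        have h1 := congrFun (congrArg Subtype.val h) m
        exact (CfsgLib.CharDeep.Clifford.conjFun_apply N g (θ : N → ℂ) m).symm.trans h1
      obtain ⟨B₀, hB₀, hiff, -, hSyl⟩ := Cfsg.Agent.S4492.result 2 M hM
        CfsgLib.Fusion.PSolvable.psolvable_of_solvable N hN_def θ hinv
      obtain rfl := IsPBlock.eq_of_mem hM hB hB₀ hχ ((hiff χ).2 hθ')
      obtain ⟨S, rfl⟩ := hSyl D hD
      haveI : Group.IsSolvable (G ⧸ N) :=
        solvable_of_surjective (QuotientGroup.mk'_surjective N)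
      have hinj : Set.InjOn (QuotientGroup.mk' N) (S : Subgroup G) := by
        intro x hx y hy hxy
        have h1 : x⁻¹ * y ∈ N := (QuotientGroup.eq (s := N)).1 hxy
        obtain ⟨j, hj⟩ := IsPGroup.iff_orderOf.1 S.2 ⟨x⁻¹ * y,
          (S : Subgroup G).mul_mem ((S : Subgroup G).inv_mem hx) hy⟩
        rw [Subgroup.orderOf_mk] at hj
        have h2 := Subgroup.orderOf_dvd_natCard _ h1
        rw [hj] at h2
        have h3 : 2 ^ j = 1 := Nat.eq_one_of_dvd_coprimes (hcop.symm.pow_left j) dvd_rfl h2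
        rw [h3, orderOf_eq_one_iff] at hj
        exact inv_mul_eq_one.1 hj
      have hQ := hs.map (QuotientGroup.mk' N) hinj
      have hO : Cfsg.pPrimeCore 2 (G ⧸ N) = ⊥ := by
        exact CfsgLib.Components.pPrimeCore_quotient_eq_bot
      refine blockRank_le_two_of_classes Nat.prime_two θ hinv (fun φ hφ => (hiff φ).1 hφ) ?_
      intro g h hg hg1 hh hh1
      exact isConj_of_odd hO (S.mapSurjective (QuotientGroup.mk'_surjective N))
        (by rw [Sylow.coe_mapSurjective]; exact hQ)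
        (by rwa [← Nat.not_even_iff_odd, even_iff_two_dvd]) hg1
        (by rwa [← Nat.not_even_iff_odd, even_iff_two_dvd]) hh1
    · have hlt : Nat.card T < n := by
        rw [← hn]
        exact lt_of_le_of_ne (Subgroup.card_le_card_group T)
          fun h => hTtop (Subgroup.eq_top_of_card_eq _ h)
      obtain ⟨B', hB', hcov, hind⟩ := exists_inducing hNT hM hb hT hB ⟨χ, hχ, θ, rfl, hθ'⟩
      obtain ⟨D', hD'⟩ := exists_isDefectGroup hM hB'
      obtain ⟨y, hy⟩ := exists_conj_eq_defectGroup hM hB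
        ((defectGroup_and_height hNT hM hb hT hB' hcov hind).1 D' hD') hD
      rw [hy, Subgroup.map_map] at hs
      obtain ⟨a', b', hs'⟩ := Shape.of_map _
        ((MulAut.conj y).injective.comp T.subtype_injective) hs
      exact (rank_le_induced hNT hM hb hT hB' hcov hind).trans
        (ih _ hlt T rfl inferInstance B' hB' D' hD' k e a' b' hs')

end CfsgLib.Blocks.TameDefect
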