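import Cfsg.Prelude.Def_CaseTheorems
import Mathlib.GroupTheory.SpecificGroups.Dihedral
import Mathlib.GroupTheory.PGroup
import Mathlib.GroupTheory.SpecificGroups.Cyclic
import Cfsg.Agent.S2879

/-!
# Dihedral and semidihedral subgroups given by generators
-/

set_option autoImplicit false

namespace CfsgLib.Blocks.TameDefect

variable {G : Type*} [Group G]

/-- `D` is dihedral or semidihedral, `a` generates the cyclic subgroup of index two, `b` is an
involution outside it acting as `a ↦ a ^ e`. -/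
structure Shape (D : Subgroup G) (k : ℕ) (e : ℤ) (a b : G) : Prop where
  two_le : 2 ≤ k
  a_mem : a ∈ D
  b_mem : b ∈ D
  ord_a : orderOf a = 2 ^ k
  card : Nat.card D = 2 ^ (k + 1)
  b_sq : b * b = 1
  b_notMem : b ∉ Subgroup.zpowers a
  conj : b * a * b⁻¹ = a ^ e
  kind : e = -1 ∨ (3 ≤ k ∧ e = 2 ^ (k - 1) - 1)

/-- The central involution. -/
def zinv (k : ℕ) (a : G) : G := a ^ 2 ^ (k - 1)

theorem two_pow_mul {k : ℕ} (hk : 1 ≤ k) : 2 ^ (k - 1) * 2 = 2 ^ k := by
  rw [← pow_succ, Nat.sub_add_cancel hk]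

/-- Both kinds in terms of generators. -/
theorem exists_shape [Finite G] {D : Subgroup G}
    (h : (∃ n : ℕ, 3 ≤ n ∧ Nonempty (D ≃* DihedralGroup (2 ^ (n - 1)))) ∨ Cfsg.IsQuasiDihedral D) :
    ∃ (k : ℕ) (e : ℤ) (a b : G), Shape D k e a b := by
  have key : ∀ (k : ℕ) (e : ℤ) (x y : D), 2 ≤ k → orderOf x = 2 ^ k → Nat.card D = 2 ^ (k + 1) →
      y * y = 1 → y ∉ Subgroup.zpowers x → y * x * y⁻¹ = x ^ e →
      (e = -1 ∨ (3 ≤ k ∧ e = 2 ^ (k - 1) - 1)) →
      ∃ (k : ℕ) (e : ℤ) (a b : G), Shape D k e a b := by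
    intro k e x y hk hx hc hy hn hyx hkind
    refine ⟨k, e, x, y, ⟨hk, x.2, y.2, by rw [Subgroup.orderOf_coe, hx], hc, ?_, fun hmem => hn ?_,
      ?_, hkind⟩⟩
    · exact congrArg Subtype.val hy
    · obtain ⟨i, hi⟩ := Subgroup.mem_zpowers_iff.1 hmem
      exact Subgroup.mem_zpowers_iff.2 ⟨i, Subtype.ext (by rw [Subgroup.coe_zpow]; exact hi)⟩
    · have := congrArg Subtype.val hyx
      simpa using this
  rcases h with ⟨n, hn, ⟨e⟩⟩ | ⟨n, hn, hcard, x, y, hx, hy, hyx⟩
  · haveI : NeZero (2 ^ (n - 1)) := ⟨by positivity⟩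
    refine key (n - 1) (-1) (e.symm (DihedralGroup.r 1)) (e.symm (DihedralGroup.sr 0)) (by omega)
      ?_ ?_ ?_ ?_ ?_ (Or.inl rfl)
    · exact (orderOf_injective e.symm.toMonoidHom e.symm.injective _).trans DihedralGroup.orderOf_r_one
    · rw [Nat.card_congr e.toEquiv, DihedralGroup.nat_card, pow_succ, mul_comm]
    · rw [← map_mul, DihedralGroup.sr_mul_self, map_one]
    · intro hmem
      obtain ⟨i, hi⟩ := Subgroup.mem_zpowers_iff.1 hmem
      have := congrArg e hi
      rw [map_zpow, e.apply_symm_apply, e.apply_symm_apply, DihedralGroup.r_one_zpow] at this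
      simp at this
    · rw [zpow_neg_one, ← map_inv, ← map_mul, ← map_mul, ← map_inv]
      congr 1
      simp
  · have h4 : 4 ≤ 2 ^ (n - 1) := Nat.pow_le_pow_right (n := 2) (by omega) (show 2 ≤ n - 1 by omega)
    refine key n (2 ^ (n - 1) - 1) x y (by omega) hx hcard
      (by rw [← pow_two]; exact orderOf_dvd_iff_pow_eq_one.1 hy.dvd) ?_ ?_ (Or.inr ⟨hn, rfl⟩)
    · intro hmem
      obtain ⟨i, hi⟩ := Subgroup.mem_zpowers_iff.1 hmem
      have hc : y * x * y⁻¹ = x := by
        rw [← hi, (Commute.zpow_self x i).eq, mul_inv_cancel_right]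
      rw [hyx] at hc
      have hlt : 2 ^ (n - 1) < 2 ^ n := Nat.pow_lt_pow_right (by omega) (by omega)
      have := pow_injOn_Iio_orderOf (x := x) (Set.mem_Iio.2 (show 2 ^ (n - 1) - 1 < orderOf x by omega))
        (Set.mem_Iio.2 (show 1 < orderOf x by omega)) (hc.trans (pow_one x).symm)
      omega
    · rw [hyx, ← zpow_natCast]
      congr 1
      rw [Nat.cast_sub (by omega)]
      push_cast
      rfl

namespace Shape

variable {D : Subgroup G} {k : ℕ} {e : ℤ} {a b : G}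

theorem e_odd (h : Shape D k e a b) : (4 : ℤ) ∣ e + 1 := by
  rcases h.kind with rfl | ⟨hk, rfl⟩
  · simp
  · rw [sub_add_cancel, show (4 : ℤ) = 2 ^ 2 by norm_num]
    exact pow_dvd_pow 2 (by omega)

theorem zpowers_le (h : Shape D k e a b) : Subgroup.zpowers a ≤ D :=
  Subgroup.zpowers_le.2 h.a_mem

theorem z_mem (h : Shape D k e a b) : zinv k a ∈ D := D.pow_mem h.a_mem _

theorem z_sq (h : Shape D k e a b) : zinv k a * zinv k a = 1 := by
  rw [zinv, ← pow_add, ← two_mul, mul_comm, two_pow_mul (by have := h.two_le; omega), ← h.ord_a,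
    pow_orderOf_eq_one]

theorem z_ne_one (h : Shape D k e a b) : zinv k a ≠ 1 :=
  pow_ne_one_of_lt_orderOf (Nat.two_pow_pos _).ne' (by
    rw [h.ord_a]; exact Nat.pow_lt_pow_right (by omega) (by have := h.two_le; omega))

theorem orderOf_z (h : Shape D k e a b) : orderOf (zinv k a) = 2 :=
  orderOf_eq_prime (by rw [pow_two]; exact h.z_sq) h.z_ne_one

theorem b_ne_one (h : Shape D k e a b) : b ≠ 1 := fun hb => h.b_notMem (hb ▸ Subgroup.one_mem _)

theorem orderOf_b (h : Shape D k e a b) : orderOf b = 2 :=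
  orderOf_eq_prime (by rw [pow_two]; exact h.b_sq) h.b_ne_one

theorem b_inv (h : Shape D k e a b) : b⁻¹ = b := inv_eq_of_mul_eq_one_right h.b_sq

/-- Cosets of the cyclic part. -/
theorem mul_mem (h : Shape D k e a b) [Finite G] : ∀ x ∈ D, ∀ y ∈ D, x ∉ Subgroup.zpowers a →
    y ∉ Subgroup.zpowers a → x⁻¹ * y ∈ Subgroup.zpowers a := by
  intro x hx y hy hxA hyA
  have hidx : ((Subgroup.zpowers a).subgroupOf D).index = 2 := by
    have h1 := Subgroup.card_mul_index ((Subgroup.zpowers a).subgroupOf D)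
    rw [Nat.card_congr (Subgroup.subgroupOfEquivOfLe h.zpowers_le).toEquiv, Nat.card_zpowers,
      h.ord_a, h.card, pow_succ] at h1
    exact Nat.eq_of_mul_eq_mul_left (Nat.two_pow_pos k) h1
  have := (Subgroup.mul_mem_iff_of_index_two (H := (Subgroup.zpowers a).subgroupOf D) hidx
    (a := (⟨x, hx⟩ : D)⁻¹) (b := ⟨y, hy⟩)).2 (by simp [Subgroup.mem_subgroupOf, hxA, hyA])
  simpa [Subgroup.mem_subgroupOf] using this

/-- The elements outside the cyclic part. -/
theorem exists_eq (h : Shape D k e a b) [Finite G] {x : G} (hx : x ∈ D)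
    (hxA : x ∉ Subgroup.zpowers a) : ∃ i : ℤ, x = b * a ^ i := by
  obtain ⟨i, hi⟩ := Subgroup.mem_zpowers_iff.1 (h.mul_mem b h.b_mem x hx h.b_notMem hxA)
  exact ⟨i, by rw [hi, mul_inv_cancel_left]⟩

theorem conj_zpow (h : Shape D k e a b) [Finite G] {x : G} (hx : x ∈ D)
    (hxA : x ∉ Subgroup.zpowers a) (j : ℤ) : x * a ^ j * x⁻¹ = a ^ (j * e) := by
  obtain ⟨i, rfl⟩ := h.exists_eq hx hxA
  calc b * a ^ i * a ^ j * (b * a ^ i)⁻¹ = (b * a * b⁻¹) ^ j := by rw [_root_.conj_zpow]; group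
    _ = a ^ (j * e) := by rw [h.conj, ← zpow_mul, mul_comm]

theorem sq_eq (h : Shape D k e a b) (i : ℤ) : b * a ^ i * (b * a ^ i) = a ^ (i * (e + 1)) := by
  have hc : b * a ^ i * b = a ^ (i * e) := by
    calc b * a ^ i * b = b * a ^ i * b⁻¹ := by rw [h.b_inv]
      _ = a ^ (i * e) := by rw [← _root_.conj_zpow, h.conj, ← zpow_mul, mul_comm]
  rw [← mul_assoc, hc, mul_add, mul_one, zpow_add]

theorem half (h : Shape D k e a b) (t : ℤ) :
    a ^ ((2 : ℤ) ^ (k - 1) * t) = 1 ∨ a ^ ((2 : ℤ) ^ (k - 1) * t) = zinv k a := by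
  have e' : a ^ ((2 : ℤ) ^ (k - 1) * t) = zinv k a ^ t := by
    rw [zpow_mul, zinv, ← zpow_natCast a (2 ^ (k - 1))]; norm_cast
  have hz2 : zinv k a ^ (2 : ℤ) = 1 := by rw [zpow_two]; exact h.z_sq
  rcases Int.even_or_odd' t with ⟨m, rfl | rfl⟩
  · left; rw [e', zpow_mul, hz2, one_zpow]
  · right; rw [e', zpow_add, zpow_mul, hz2, one_zpow, one_mul, zpow_one]

/-- Squares of the elements outside the cyclic part. -/
theorem sq_outside (h : Shape D k e a b) [Finite G] {x : G} (hx : x ∈ D)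
    (hxA : x ∉ Subgroup.zpowers a) : x * x = 1 ∨ x * x = zinv k a := by
  obtain ⟨i, rfl⟩ := h.exists_eq hx hxA
  rw [h.sq_eq]
  rcases h.kind with he | ⟨hk, he⟩
  · left; rw [he, neg_add_cancel, mul_zero, zpow_zero]
  · rw [he, sub_add_cancel, mul_comm]; exact h.half i

theorem sq_outside_dih (h : Shape D k (-1) a b) [Finite G] {x : G} (hx : x ∈ D)
    (hxA : x ∉ Subgroup.zpowers a) : x * x = 1 := by
  obtain ⟨i, rfl⟩ := h.exists_eq hx hxA
  rw [h.sq_eq, neg_add_cancel, mul_zero, zpow_zero]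

/-- The elements of the cyclic part of order at most two. -/
theorem eq_of_sq_zpowers (h : Shape D k e a b) [Finite G] {x : G} (hx : x ∈ Subgroup.zpowers a)
    (h2 : x * x = 1) : x = 1 ∨ x = zinv k a := by
  obtain ⟨i, rfl⟩ := Subgroup.mem_zpowers_iff.1 hx
  rw [← zpow_add, ← orderOf_dvd_iff_zpow_eq_one, h.ord_a,
    ← two_pow_mul (show 1 ≤ k by have := h.two_le; omega), ← mul_two] at h2
  push_cast at h2
  obtain ⟨t, ht⟩ := Int.dvd_of_mul_dvd_mul_right two_ne_zero h2
  rw [ht]; exact h.half t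

/-- The elements of `D` commuting with an element outside the cyclic part lie in four cosets. -/
theorem zpow_fixed (h : Shape D k e a b) {j : ℤ} (hj : a ^ j = a ^ (j * e)) :
    a ^ j = 1 ∨ a ^ j = zinv k a := by
  rw [zpow_eq_zpow_iff_modEq, h.ord_a, Int.modEq_iff_dvd] at hj
  obtain ⟨u, hu⟩ := h.e_odd
  have h2 : ((2 : ℤ) ^ (k - 1) * 2) ∣ 2 * ((2 * u - 1) * j) := by
    have e' : ((2 : ℤ) ^ (k - 1) * 2) = ((2 ^ k : ℕ) : ℤ) := by
      rw [← two_pow_mul (show 1 ≤ k by have := h.two_le; omega)]; push_cast; rfl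
    rw [e']
    convert hj using 1
    linear_combination (-j) * hu
  rw [mul_comm ((2 : ℤ) ^ (k - 1))] at h2
  have h3 := Int.dvd_of_mul_dvd_mul_left two_ne_zero h2
  have hcop : IsCoprime ((2 : ℤ) ^ (k - 1)) (2 * u - 1) := IsCoprime.pow_left ⟨u, -1, by ring⟩
  obtain ⟨t, ht⟩ := hcop.dvd_of_dvd_mul_left h3
  rw [ht]; exact h.half t

/-- The central involution commutes with `D`. -/
theorem z_comm (h : Shape D k e a b) [Finite G] {x : G} (hx : x ∈ D) :
    x * zinv k a = zinv k a * x := by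
  by_cases hxA : x ∈ Subgroup.zpowers a
  · obtain ⟨i, rfl⟩ := Subgroup.mem_zpowers_iff.1 hxA
    exact (((Commute.refl a).zpow_left i).pow_right _).eq
  · refine mul_inv_eq_iff_eq_mul.1 ?_
    rw [zinv, ← zpow_natCast, h.conj_zpow hx hxA, zpow_eq_zpow_iff_modEq, h.ord_a,
      Int.modEq_iff_dvd]
    obtain ⟨u, hu⟩ := h.e_odd
    refine ⟨1 - 2 * u, ?_⟩
    have e' : ((2 ^ k : ℕ) : ℤ) = 2 ^ (k - 1) * 2 := by
      rw [← two_pow_mul (show 1 ≤ k by have := h.two_le; omega)]; push_cast; rfl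
    push_cast at e' ⊢
    rw [e']
    linear_combination -((2 : ℤ) ^ (k - 1)) * hu

/-- The central involutions of `D`. -/
theorem eq_z_of_central (h : Shape D k e a b) [Finite G] {x : G} (hx : x ∈ D) (ho : orderOf x = 2)
    (hc : ∀ y ∈ D, y * x = x * y) : x = zinv k a := by
  have h2 : x * x = 1 := by rw [← pow_two, ← ho, pow_orderOf_eq_one]
  have hx1 : x ≠ 1 := fun h1 => by rw [h1, orderOf_one] at ho; exact absurd ho (by norm_num)
  by_cases hxA : x ∈ Subgroup.zpowers a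
  · exact (h.eq_of_sq_zpowers hxA h2).resolve_left hx1
  · exfalso
    have h1 := h.conj_zpow hx hxA 1
    rw [zpow_one, one_mul, ← hc a h.a_mem, mul_inv_cancel_right] at h1
    have ha4 : 4 ≤ orderOf a := by
      rw [h.ord_a]; exact Nat.pow_le_pow_right (n := 2) (by omega) h.two_le
    rcases h.zpow_fixed (j := 1) (by rwa [one_mul, zpow_one]) with h3 | h3
    · rw [zpow_one] at h3; rw [h3, orderOf_one] at ha4; omega
    · rw [zpow_one] at h3; rw [h3, h.orderOf_z] at ha4; omega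

/-- The centralizer of an element outside the cyclic part has order at most four. -/
theorem card_centralizer_le (h : Shape D k e a b) [Finite G] {x : G} (hx : x ∈ D)
    (hxA : x ∉ Subgroup.zpowers a) :
    Nat.card (D ⊓ Subgroup.centralizer ({x} : Set G) : Subgroup G) ≤ 4 := by
  classical
  refine le_trans (le_of_eq (Nat.card_coe_set_eq _)) ?_
  refine le_trans (Set.ncard_le_ncard
    (t := (↑({1, zinv k a, x, x * zinv k a} : Finset G) : Set G)) ?_ (Finset.finite_toSet _)) ?_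
  · rintro y ⟨hyD, hyC⟩
    have hxy : y * x = x * y := Subgroup.mem_centralizer_singleton_iff.1 hyC
    have key : ∀ w ∈ Subgroup.zpowers a, w * x = x * w → w = 1 ∨ w = zinv k a := by
      intro w hw hwx
      obtain ⟨j, rfl⟩ := Subgroup.mem_zpowers_iff.1 hw
      refine h.zpow_fixed ?_
      rw [← h.conj_zpow hx hxA j, ← hwx, mul_inv_cancel_right]
    simp only [Finset.coe_insert, Finset.coe_singleton, Set.mem_insert_iff, Set.mem_singleton_iff]
    by_cases hyA : y ∈ Subgroup.zpowers a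
    · rcases key y hyA hxy with h1 | h1
      · exact Or.inl h1
      · exact Or.inr (Or.inl h1)
    · have hc : Commute (x⁻¹ * y) x :=
        Commute.mul_left ((Commute.refl x).inv_left) hxy
      rcases key _ (h.mul_mem x hx y hyD hxA hyA) hc.eq with h1 | h1
      · exact Or.inr (Or.inr (Or.inl (by rw [inv_mul_eq_one] at h1; exact h1.symm)))
      · exact Or.inr (Or.inr (Or.inr (by rw [← h1, mul_inv_cancel_left])))
  · rw [Set.ncard_coe_finset]
    exact Finset.card_le_four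

/-- In a dihedral group an element of odd order normalizing a subgroup and commuting with the
central involution centralizes the subgroup. -/
theorem odd_centralizes (h : Shape D k (-1) a b) [Finite G] {Q : Subgroup G} (hQ : Q ≤ D) {x : G}
    (hx : x ∈ Subgroup.normalizer (Q : Set G)) (hxz : x * zinv k a = zinv k a * x)
    (hodd : Odd (orderOf x)) : x ∈ Subgroup.centralizer (Q : Set G) := by
  have hzA : zinv k a ∈ Subgroup.zpowers a := Subgroup.pow_mem _ (Subgroup.mem_zpowers a) _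
  have hxzp : ∀ i : ℤ, x * zinv k a ^ i * x⁻¹ = zinv k a ^ i := fun i => by
    rw [← _root_.conj_zpow, hxz, mul_inv_cancel_right]
  have hD2 : IsPGroup 2 D := IsPGroup.of_card h.card
  set Q' := Q ⊔ Subgroup.zpowers (zinv k a) with hQ'
  have hQ'D : Q' ≤ D := sup_le hQ (Subgroup.zpowers_le.2 h.z_mem)
  have hconj : Q'.map (MulAut.conj x).toMonoidHom = Q' := by
    rw [hQ', Subgroup.map_sup, MonoidHom.map_zpowers]
    congr 1
    · ext y
      constructor
      · rintro ⟨q, hq, rfl⟩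
        exact (Subgroup.mem_normalizer_iff.1 hx q).1 hq
      · intro hy
        refine ⟨x⁻¹ * y * x, (Subgroup.mem_normalizer_iff.1 hx _).2 (by simpa [mul_assoc] using hy), ?_⟩
        simp [mul_assoc]
    · congr 1
      simpa using hxzp 1
  have hN : x ∈ Subgroup.normalizer (Q' : Set G) := by
    refine Subgroup.mem_normalizer_iff.2 fun y => ⟨fun hy => ?_, fun hy => ?_⟩
    · exact hconj ▸ ⟨y, hy, rfl⟩
    · obtain ⟨y', hy', e'⟩ := (hconj.symm ▸ hy :
        x * y * x⁻¹ ∈ Q'.map (MulAut.conj x).toMonoidHom)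
      have e'' : x * y' * x⁻¹ = x * y * x⁻¹ := e'
      rwa [← mul_left_cancel (mul_right_cancel e'')]
  suffices hQ'c : x ∈ Subgroup.centralizer (Q' : Set G) from
    Subgroup.centralizer_le (SetLike.coe_subset_coe.2 (le_sup_left : Q ≤ Q')) hQ'c
  refine Cfsg.Agent.S2879.centralizes_of_index_two (C := Q' ⊓ Subgroup.zpowers a)
    (hD2.to_le hQ'D) inf_le_left hN ?_ hodd
    fun u hu v hv huC hvC => ⟨Q'.mul_mem (Q'.inv_mem hu) hv, h.mul_mem u (hQ'D hu) v (hQ'D hv)
      (fun hh => huC ⟨hu, hh⟩) fun hh => hvC ⟨hv, hh⟩⟩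
  haveI : IsCyclic ↥(Q' ⊓ Subgroup.zpowers a : Subgroup G) :=
    isCyclic_of_injective (Subgroup.inclusion inf_le_right) (Subgroup.inclusion_injective _)
  obtain ⟨c₀, hc₀⟩ := (Subgroup.isCyclic_iff_exists_zpowers_eq_top
    (H := Q' ⊓ Subgroup.zpowers a)).1 inferInstance
  have hc₀C : c₀ ∈ Q' ⊓ Subgroup.zpowers a := hc₀ ▸ Subgroup.mem_zpowers c₀
  -- the normalized cyclic part
  have hmem : ∀ y ∈ Q' ⊓ Subgroup.zpowers a, x * y * x⁻¹ ∈ Q' ⊓ Subgroup.zpowers a := by
    intro y hy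
    refine ⟨(Subgroup.mem_normalizer_iff.1 hN y).1 hy.1, ?_⟩
    by_contra hout
    have h2 := h.sq_outside_dih (hQ'D ((Subgroup.mem_normalizer_iff.1 hN y).1 hy.1)) hout
    have hyy : y * y = 1 := by
      have e' : y * y = x⁻¹ * (x * y * x⁻¹ * (x * y * x⁻¹)) * x := by group
      rw [e', h2]; group
    rcases h.eq_of_sq_zpowers hy.2 hyy with rfl | rfl
    · simp at hout
    · rw [hxz, mul_inv_cancel_right] at hout; exact hout hzA
  -- an automorphism of odd order of a cyclic two-group is trivial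
  obtain ⟨r, hr⟩ := Subgroup.mem_zpowers_iff.1 (hc₀.symm ▸ hmem c₀ hc₀C :
    x * c₀ * x⁻¹ ∈ Subgroup.zpowers c₀)
  have hpow : ∀ i : ℕ, x ^ i * c₀ * (x ^ i)⁻¹ = c₀ ^ (r ^ i) := by
    intro i
    induction i with
    | zero => simp
    | succ i ih =>
      calc x ^ (i + 1) * c₀ * (x ^ (i + 1))⁻¹ = x * (x ^ i * c₀ * (x ^ i)⁻¹) * x⁻¹ := by
            rw [pow_succ']; group
        _ = (x * c₀ * x⁻¹) ^ (r ^ i) := by rw [ih, _root_.conj_zpow]
        _ = c₀ ^ (r ^ (i + 1)) := by rw [← hr, ← zpow_mul, pow_succ']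
  obtain ⟨m, hm⟩ := IsPGroup.iff_orderOf.1 (hD2.to_le (hQ'D)) ⟨c₀, hc₀C.1⟩
  rw [← Subgroup.orderOf_coe] at hm
  replace hm : orderOf c₀ = 2 ^ m := hm
  have hfix : x * c₀ * x⁻¹ = c₀ := by
    have h1 := hpow (orderOf x)
    rw [pow_orderOf_eq_one, one_mul, inv_one, mul_one] at h1
    rw [← hr]
    rcases Nat.eq_zero_or_pos m with hm0 | hm0
    · rw [hm0, pow_zero, orderOf_eq_one_iff] at hm
      rw [hm, one_zpow]
    conv_rhs => rw [← zpow_one c₀]
    rw [zpow_eq_zpow_iff_modEq, hm]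
    nth_rewrite 1 [← zpow_one c₀] at h1
    rw [zpow_eq_zpow_iff_modEq, hm] at h1
    have hz : ((r : ZMod (2 ^ m))) ^ orderOf x = 1 := by
      have := (ZMod.intCast_eq_intCast_iff _ _ _).2 h1
      push_cast at this
      exact this.symm
    obtain ⟨u, hu⟩ : IsUnit (r : ZMod (2 ^ m)) := IsUnit.of_pow_eq_one hz (orderOf_pos x).ne'
    have hu1 : u ^ orderOf x = 1 := Units.ext (by rw [Units.val_pow_eq_pow_val, hu, hz]; rfl)
    haveI : NeZero (2 ^ m) := ⟨by positivity⟩
    have hu2 : u ^ 2 ^ (m - 1) = 1 := by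
      have := ZMod.pow_totient u
      rwa [Nat.totient_prime_pow Nat.prime_two hm0, show (2 : ℕ) - 1 = 1 from rfl, mul_one] at this
    have h3 := Nat.eq_one_of_dvd_coprimes ((Nat.coprime_two_left.2 hodd).pow_left (m - 1))
      (orderOf_dvd_of_pow_eq_one hu2) (orderOf_dvd_of_pow_eq_one hu1)
    rw [orderOf_eq_one_iff] at h3
    refine (ZMod.intCast_eq_intCast_iff _ _ _).1 ?_
    rw [← hu, h3]
    simp
  refine Subgroup.mem_centralizer_iff.2 fun y hy => ?_
  rw [SetLike.mem_coe, ← hc₀] at hy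
  obtain ⟨i, rfl⟩ := Subgroup.mem_zpowers_iff.1 hy
  have hh : x * c₀ = c₀ * x := mul_inv_eq_iff_eq_mul.1 hfix
  exact ((show Commute x c₀ from hh).zpow_right i).eq.symm

end Shape

end CfsgLib.Blocks.TameDefect
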