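import Cfsg.Agent.Lib.Blocks.AbelianRankTwo
import Cfsg.Agent.Lib.BrouePuig.InertialNested
import Cfsg.Agent.Lib.Blocks.TameDefect.Shape

/-!
# Blocks with a dihedral defect group and a central involution
-/

set_option autoImplicit false

namespace CfsgLib.Blocks.TameDefect

open Cfsg CfsgLib.Blocks CfsgLib.BrauerPairs CfsgLib.BrouePuig
open scoped Classical

/-- The regular functions of a block are pulled back from the dominated block of the quotient by a
central `p`-subgroup. -/
theorem exists_quot_rank {p : ℕ} [Fact p.Prime] {M : Ideal AlgInt} (hM : IsPModular p M)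
    {K : Type*} [Group K] [Fintype K] {Z : Subgroup K} [Z.Normal] [Fintype (K ⧸ Z)]
    (hZle : Z ≤ Subgroup.center K) (hZp : IsPGroup p Z)
    {b : Set (IrrCharacter K)} (hb : IsPBlock M b) :
    ∃ bb : Set (IrrCharacter (K ⧸ Z)), IsPBlock M bb ∧ blockRank p b ≤ blockRank p bb ∧
      ∀ D : Subgroup K, IsDefectGroup p M b D →
        IsDefectGroup p M bb (D.map (QuotientGroup.mk' Z)) := by
  have hC := DefectTwo.index_centralizer (p := p) hZle
  obtain ⟨b', hb', hsub, hDG⟩ := QuotientDefect.exists_block_map_eq hM hZp hb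
  refine ⟨b', hb', ?_, fun D hD => (hDG _).2 ⟨D, hD, rfl⟩⟩
  have hbb : ∀ η, η ∈ b' ↔ inflate Z η ∈ b := fun η => by
    obtain ⟨ψ₀, hψ₀⟩ := IsPBlock.nonempty hM hb'
    rw [IsPBlock.mem_iff hM hb' hψ₀, sameBlock_inflate_iff hM hZp hC,
      IsPBlock.mem_iff hM hb (hsub ψ₀ hψ₀)]
  let L : (K ⧸ Z → ℂ) →ₗ[ℂ] (K → ℂ) :=
    { toFun := fun f g => if IsPRegular p g then f (QuotientGroup.mk' Z g) else 0
      map_add' := fun f f' => funext fun g => by
        simp only [Pi.add_apply]; split_ifs <;> simp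
      map_smul' := fun r f => funext fun g => by
        simp only [Pi.smul_apply, smul_eq_mul, RingHom.id_apply]; split_ifs <;> simp }
  have hL : ∀ η : IrrCharacter (K ⧸ Z),
      L (pRegularPart p (η : K ⧸ Z → ℂ)) = pRegularPart p (inflate Z η : K → ℂ) := by
    intro η
    funext g
    show (if IsPRegular p g then pRegularPart p (η : K ⧸ Z → ℂ) (QuotientGroup.mk' Z g) else 0) = _
    simp only [pRegularPart_apply, inflate_apply]
    by_cases hg : IsPRegular p g
    · rw [if_pos hg, if_pos hg, if_pos]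
      exact fun h => hg (h.trans (orderOf_map_dvd _ g))
    · rw [if_neg hg, if_neg hg]
  rw [blockRank, blockRank]
  refine le_trans (Submodule.finrank_mono (t := (Submodule.span ℂ
    ((fun η : IrrCharacter (K ⧸ Z) => pRegularPart p (η : K ⧸ Z → ℂ)) '' b')).map L) ?_)
    (Submodule.finrank_map_le _ _)
  rw [Submodule.span_le]
  rintro _ ⟨ψ, hψ, rfl⟩
  set F : K → ℂ := (ψ : K → ℂ)
  set w : IrrCharacter (K ⧸ Z) → ℂ := fun η =>
    classInner (DefectTwo.pushReg p Z F) (η : K ⧸ Z → ℂ)
  have hw0 : ∀ η, η ∉ b' → w η = 0 := by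
    intro η hη
    simp only [w, Cfsg.classInner, conj_irr]
    rw [DefectTwo.sum_pushReg_mul F fun q => (η : K ⧸ Z → ℂ) q⁻¹]
    refine mul_eq_zero_of_right _ ?_
    have h1 := IsPBlock.regInner_eq_zero hM hb hψ (mt (hbb η).2 hη)
    rw [regInner, mul_eq_zero] at h1
    replace h1 := h1.resolve_left (mul_ne_zero (pPartCard_ne_zero hM.1)
      (inv_ne_zero CfsgLib.Char.card_ne_zero))
    simpa only [inflate_apply, map_inv] using h1
  have e : pRegularPart p F
      = ∑ η ∈ b'.toFinset, w η • pRegularPart p (inflate Z η : K → ℂ) := by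
    funext g
    simp only [Finset.sum_apply, Pi.smul_apply, smul_eq_mul, pRegularPart_apply]
    split_ifs with hg
    · conv_lhs => rw [← DefectTwo.pushReg_mk hM.1 hZp hZle F hg,
        CfsgLib.Char.IsClassFunction.eq_sum_irr (G := K ⧸ Z)
          (ψ := DefectTwo.pushReg p Z F)
          fun q v => DefectTwo.pushReg_conj (irr_conj_apply ψ) q v]
      simp only [Finset.sum_apply, Pi.smul_apply, smul_eq_mul, inflate_apply]
      exact (Finset.sum_subset (Finset.subset_univ _) fun η _ hη => by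
        rw [show classInner (DefectTwo.pushReg p Z F) (η : K ⧸ Z → ℂ) = 0 from
          hw0 η (by simpa using hη), zero_mul]).symm
    · simp
  show pRegularPart p F ∈ _
  rw [e]
  refine sum_mem fun η hη => Submodule.smul_mem _ _ ⟨_, Submodule.subset_span
    ⟨η, Set.mem_toFinset.1 hη, rfl⟩, hL η⟩

variable {G : Type*} [Group G] [Fintype G] {M : Ideal AlgInt} {B : Set (IrrCharacter G)}
  {D : Subgroup G} {k : ℕ} {a b : G}

/-- A dihedral defect group whose central involution is central in the group: one Brauer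
character. -/
theorem blockRank_eq_one (hM : IsPModular 2 M) (hB : IsPBlock M B) (hD : IsDefectGroup 2 M B D)
    (hs : Shape D k (-1) a b) (hz : zinv k a ∈ Subgroup.center G) : blockRank 2 B = 1 := by
  haveI : Fact (Nat.Prime 2) := ⟨Nat.prime_two⟩
  obtain ⟨e, he⟩ := exists_pair_of_defectGroup hM hB hD
  have hmax := isMaximal_of_defectGroup hM hD he
  refine blockRank_eq_one_of_nilpotent hM ⟨hB, fun Q f hQ x hxN _ hreg => ?_⟩ hmax
  obtain ⟨g, hg⟩ := exists_conj_subpairLE hM hmax hQ
  have hle := subgroup_le_of_subpairLE hg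
  have hodd : Odd (orderOf (g * x * g⁻¹)) := by
    have h1 : orderOf (g * x * g⁻¹) = orderOf x := MulEquiv.orderOf_eq (MulAut.conj g) x
    rw [h1, ← Nat.not_even_iff_odd, even_iff_two_dvd]
    exact hreg
  have hN : g * x * g⁻¹ ∈ Subgroup.normalizer
      ((Q.map (MulAut.conj g).toMonoidHom : Subgroup G) : Set G) := mem_normalizer_map_conj.2 hxN
  have hc := hs.odd_centralizes hle hN (Subgroup.mem_center_iff.1 hz _) hodd
  refine Subgroup.mem_centralizer_iff.2 fun q hq => ?_
  have := Subgroup.mem_centralizer_iff.1 hc (g * q * g⁻¹) ⟨q, hq, rfl⟩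
  calc q * x = g⁻¹ * (g * q * g⁻¹ * (g * x * g⁻¹)) * g := by group
    _ = g⁻¹ * (g * x * g⁻¹ * (g * q * g⁻¹)) * g := by rw [this]
    _ = x * q := by group

end CfsgLib.Blocks.TameDefect
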