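import Cfsg.Agent.Lib.Blocks.TwoPowerTrace
import Mathlib

/-!
# The coefficients of the columns at the rotations

The values of a character of a cyclic group of order `2 q` off the two central elements give the
spreads of its coefficients along the two parity classes; a twisted symmetry of the values at the
generators makes one difference of opposite coefficients carry the parity of the degree.
-/

set_option autoImplicit false
set_option maxHeartbeats 800000

namespace CfsgLib.Blocks.TameDefect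

open CfsgLib.Blocks.TwoPowerTrace
open scoped Classical ComplexConjugate

section Spread

variable {ι : Type*} [Fintype ι]

/-- `q ∑ x² - (∑ x)²`. -/
def spread (x : ι → ℤ) : ℤ := Fintype.card ι * ∑ i, x i ^ 2 - (∑ i, x i) ^ 2

theorem two_mul_spread (x : ι → ℤ) : 2 * spread x = ∑ i, ∑ j, (x i - x j) ^ 2 := by
  simp only [sub_sq, Finset.sum_add_distrib, Finset.sum_sub_distrib, Finset.sum_const,
    Finset.card_univ, nsmul_eq_mul, ← Finset.mul_sum, ← Finset.sum_mul, spread]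
  ring

theorem spread_nonneg (x : ι → ℤ) : 0 ≤ spread x := by
  have h := two_mul_spread x
  have : 0 ≤ ∑ i, ∑ j, (x i - x j) ^ 2 :=
    Finset.sum_nonneg fun i _ => Finset.sum_nonneg fun j _ => sq_nonneg _
  omega

/-- Three values give a large spread. -/
theorem spread_three (x : ι → ℤ) {i j l : ι} (hij : x i ≠ x j) (hil : x i ≠ x l)
    (hjl : x j ≠ x l) : 2 * (Fintype.card ι : ℤ) ≤ spread x := by
  have hij' : i ≠ j := fun h => hij (by rw [h])
  have hil' : i ≠ l := fun h => hil (by rw [h])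
  have hjl' : j ≠ l := fun h => hjl (by rw [h])
  set T : Finset ι := {i, j, l}
  have hT : T.card = 3 := by simp [T, hij', hil', hjl']
  have hsq : ∀ u v : ℤ, u ≠ v → 1 ≤ (u - v) ^ 2 := fun u v h => by
    have : 0 < (u - v) ^ 2 := by positivity
    omega
  have hout : ∀ w, 2 ≤ ∑ t ∈ T, (x w - x t) ^ 2 := by
    intro w
    simp only [T, Finset.sum_insert, Finset.mem_insert, Finset.mem_singleton, hij', hil', hjl',
      or_self, not_false_eq_true, Finset.sum_singleton]
    have h1 := sq_nonneg (x w - x i)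
    have h2 := sq_nonneg (x w - x j)
    have h3 := sq_nonneg (x w - x l)
    by_cases hwi : x w = x i
    · have := hsq _ _ (hwi ▸ hij : x w ≠ x j)
      have := hsq _ _ (hwi ▸ hil : x w ≠ x l)
      linarith
    · have := hsq _ _ hwi
      by_cases hwj : x w = x j
      · have := hsq _ _ (hwj ▸ hjl : x w ≠ x l)
        linarith
      · have := hsq _ _ hwj
        linarith
  have hin : 12 ≤ ∑ s ∈ T, ∑ t ∈ T, (x s - x t) ^ 2 := by
    simp only [T, Finset.sum_insert, Finset.mem_insert, Finset.mem_singleton, hij', hil', hjl',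
      or_self, not_false_eq_true, Finset.sum_singleton, sub_self]
    have h6 : ∀ u v : ℤ, u ≠ 0 → v ≠ 0 → u + v ≠ 0 → 6 ≤ u ^ 2 + v ^ 2 + (u + v) ^ 2 := by
      intro u v hu hv huv
      rcases lt_or_gt_of_ne hu with h1 | h1 <;> rcases lt_or_gt_of_ne hv with h2 | h2 <;>
        rcases lt_or_gt_of_ne huv with h3 | h3 <;> nlinarith
    have := h6 (x i - x j) (x j - x l) (sub_ne_zero.2 hij) (sub_ne_zero.2 hjl)
      (by rw [sub_add_sub_cancel]; exact sub_ne_zero.2 hil)
    rw [sub_add_sub_cancel] at this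
    linarith [show (x j - x i) ^ 2 = (x i - x j) ^ 2 by ring,
      show (x l - x i) ^ 2 = (x i - x l) ^ 2 by ring,
      show (x l - x j) ^ 2 = (x j - x l) ^ 2 by ring]
  have h := two_mul_spread x
  rw [← Finset.sum_add_sum_compl T] at h
  have hcompl : 2 * ((Fintype.card ι : ℤ) - 3) ≤ ∑ w ∈ Tᶜ, ∑ t ∈ T, (x w - x t) ^ 2 := by
    refine le_trans (le_of_eq ?_) (Finset.sum_le_sum (f := fun _ => (2 : ℤ)) fun w _ => hout w)
    rw [Finset.sum_const, Finset.card_compl, hT, nsmul_eq_mul, Nat.cast_sub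
      (hT ▸ Finset.card_le_univ T)]
    push_cast
    ring
  have e1 : ∑ s ∈ T, ∑ t, (x s - x t) ^ 2
      = ∑ s ∈ T, ∑ t ∈ T, (x s - x t) ^ 2 + ∑ w ∈ Tᶜ, ∑ t ∈ T, (x w - x t) ^ 2 := by
    rw [Finset.sum_congr rfl fun s _ => (Finset.sum_add_sum_compl T _).symm,
      Finset.sum_add_distrib]
    congr 1
    rw [Finset.sum_comm]
    exact Finset.sum_congr rfl fun w _ => Finset.sum_congr rfl fun t _ => by ring
  have e2 : ∑ w ∈ Tᶜ, ∑ t ∈ T, (x w - x t) ^ 2 ≤ ∑ w ∈ Tᶜ, ∑ t, (x w - x t) ^ 2 :=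
    Finset.sum_le_sum fun w _ => Finset.sum_le_sum_of_subset_of_nonneg (Finset.subset_univ _)
      fun _ _ _ => sq_nonneg _
  rw [e1] at h
  linarith

/-- The possible spreads. -/
theorem spread_cases (h4 : 4 ∣ Fintype.card ι) (x : ι → ℤ) :
    (Odd (spread x) → spread x = Fintype.card ι - 1 ∨ 2 * (Fintype.card ι : ℤ) - 1 ≤ spread x) ∧
    (Even (spread x) → spread x = 0 ∨ 2 * (Fintype.card ι : ℤ) - 4 ≤ spread x) := by
  set q := Fintype.card ι
  by_cases h3 : ∃ i j l, x i ≠ x j ∧ x i ≠ x l ∧ x j ≠ x l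
  · obtain ⟨i, j, l, h1, h2, h3⟩ := h3
    have := spread_three x h1 h2 h3
    exact ⟨fun _ => Or.inr (by omega), fun _ => Or.inr (by omega)⟩
  push Not at h3
  by_cases hc : ∀ i j, x i = x j
  · have h0 : spread x = 0 := by
      have h := two_mul_spread x
      rw [Finset.sum_eq_zero fun i _ => Finset.sum_eq_zero fun j _ => by rw [hc i j]; ring] at h
      omega
    rw [h0]
    exact ⟨fun h => absurd h Int.not_odd_zero, fun _ => Or.inl rfl⟩
  push Not at hc
  obtain ⟨i, j, hij⟩ := hc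
  set A := Finset.univ.filter fun w => x w = x i
  have hval : ∀ w, x w ≠ x i → x w = x j := by
    intro w hw
    by_contra hwj
    exact hwj ((h3 i j w hij (fun h => hw h.symm)).symm)
  have e1 : ∀ f : ℤ → ℤ, ∑ w, f (x w) = A.card * f (x i) + ((q : ℤ) - A.card) * f (x j) := by
    intro f
    rw [← Finset.sum_filter_add_sum_filter_not Finset.univ (fun w => x w = x i),
      Finset.sum_congr rfl (g := fun _ => f (x i)) fun w hw => by rw [(Finset.mem_filter.1 hw).2],
      Finset.sum_congr rfl (s₁ := Finset.univ.filter fun w => ¬ x w = x i) (g := fun _ => f (x j))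
        fun w hw => by rw [hval w (Finset.mem_filter.1 hw).2],
      Finset.sum_const, Finset.sum_const, nsmul_eq_mul, nsmul_eq_mul]
    have hsplit := Finset.card_filter_add_card_filter_not (s := Finset.univ) fun w => x w = x i
    rw [Finset.card_univ] at hsplit
    have : ((A.card : ℤ) + (Finset.univ.filter fun w => ¬ x w = x i).card) = q := by
      exact_mod_cast hsplit
    rw [← this]
    ring
  have hS : spread x = (A.card : ℤ) * (q - A.card) * (x i - x j) ^ 2 := by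
    rw [spread, e1 (fun v => v ^ 2), show ∑ w, x w = ∑ w, id (x w) from rfl, e1 id]
    simp only [id]
    ring
  have hA1 : 1 ≤ A.card := Finset.card_pos.2 ⟨i, Finset.mem_filter.2 ⟨Finset.mem_univ _, rfl⟩⟩
  have hA2 : A.card + 1 ≤ q := by
    refine Nat.succ_le_of_lt ?_
    rw [show q = (Finset.univ : Finset ι).card from Finset.card_univ.symm]
    exact Finset.card_lt_card (Finset.filter_ssubset.2 ⟨j, Finset.mem_univ _, fun h => hij h.symm⟩)
  obtain ⟨c, hc⟩ := h4
  obtain ⟨α, hα⟩ : ∃ α : ℤ, α = A.card := ⟨_, rfl⟩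
  have hA1' : 1 ≤ α := by omega
  have hA2' : α + 1 ≤ (q : ℤ) := by omega
  rw [hS, ← hα]
  have hd : (x i - x j) ^ 2 = 1 ∨ 4 ≤ (x i - x j) ^ 2 := by
    have hne := sub_ne_zero.2 hij
    rcases lt_trichotomy (|x i - x j|) 1 with h | h | h
    · exact absurd (abs_lt.1 h) (by omega)
    · left; rw [← sq_abs, h]; norm_num
    · right; rw [← sq_abs]; nlinarith
  have hprod : (q : ℤ) - 1 ≤ α * (q - α) := by nlinarith
  rcases hd with hd | hd
  swap
  · have hbig : 4 * ((q : ℤ) - 1) ≤ α * (q - α) * (x i - x j) ^ 2 := by nlinarith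
    exact ⟨fun _ => Or.inr (by omega), fun _ => Or.inr (by omega)⟩
  rw [hd, mul_one]
  constructor
  · intro hodd
    rw [Int.odd_mul] at hodd
    obtain ⟨r, hr⟩ := hodd.1
    by_cases h1 : α = 1 ∨ α = q - 1
    · left; rcases h1 with h1 | h1 <;> rw [h1] <;> ring
    · right
      obtain ⟨r', hr'⟩ := hodd.2
      have : 3 ≤ α := by omega
      have : α + 3 ≤ (q : ℤ) := by omega
      have h8 : 8 ≤ (q : ℤ) := by omega
      nlinarith [mul_nonneg (show (0 : ℤ) ≤ α - 3 by omega) (show (0 : ℤ) ≤ q - 3 - α by omega)]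
  · intro hev
    right
    rw [Int.even_mul, Int.even_sub, Int.even_coe_nat] at hev
    have hq : Even q := ⟨2 * c, by omega⟩
    have : Even α := hev.elim id fun h => h.1 hq
    obtain ⟨r, hr⟩ := this
    obtain ⟨r', hr'⟩ := hq
    have : 2 ≤ α := by omega
    have : α + 2 ≤ (q : ℤ) := by omega
    nlinarith

theorem spread_parity (h2 : Even (Fintype.card ι)) (x : ι → ℤ) :
    (spread x : ZMod 2) = ((∑ i, x i : ℤ) : ZMod 2) := by
  obtain ⟨c, hc⟩ := h2
  rw [spread, hc]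
  push_cast
  have h2 : (c : ZMod 2) + c = 0 := CharTwo.add_self_eq_zero _
  have key : ∀ y : ZMod 2, -(y ^ 2) = y := by decide
  rw [h2, zero_mul, zero_sub, key]

end Spread

section Coeff

variable {m : ℕ}

/-- The additive character given by a root of unity. -/
noncomputable def zchar {ω : ℂ} (hω : IsPrimitiveRoot ω (2 ^ (m + 1))) : AddChar (ZMod (2 ^ (m + 1))) ℂ :=
  haveI : NeZero (2 ^ (m + 1)) := ⟨pow_ne_zero _ two_ne_zero⟩
  AddChar.zmodChar _ hω.pow_eq_one

variable {ω : ℂ} (hω : IsPrimitiveRoot ω (2 ^ (m + 1)))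

theorem zchar_natCast (i : ℕ) : zchar hω (i : ZMod (2 ^ (m + 1))) = ω ^ i := by
  haveI : NeZero (2 ^ (m + 1)) := ⟨pow_ne_zero _ two_ne_zero⟩
  exact AddChar.zmodChar_apply' hω.pow_eq_one i

theorem zchar_sum (x : ZMod (2 ^ (m + 1))) :
    ∑ i : ZMod (2 ^ (m + 1)), zchar hω (i * x) = if x = 0 then ((2 ^ (m + 1) : ℕ) : ℂ) else 0 := by
  haveI : NeZero (2 ^ (m + 1)) := ⟨pow_ne_zero _ two_ne_zero⟩
  have h := AddChar.sum_mulShift (R := ZMod (2 ^ (m + 1))) x
    (AddChar.zmodChar_primitive_of_primitive_root (2 ^ (m + 1)) hω)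
  rw [ZMod.card] at h
  refine Eq.trans ?_ (h.trans ?_)
  · exact Finset.sum_congr rfl fun i _ => rfl
  · simp

theorem conj_zchar (x : ZMod (2 ^ (m + 1))) : conj (zchar hω x) = zchar hω (-x) := by
  haveI : NeZero (2 ^ (m + 1)) := ⟨pow_ne_zero _ two_ne_zero⟩
  have h : zchar hω x * zchar hω (-x) = 1 := by
    rw [← AddChar.map_add_eq_mul, add_neg_cancel, AddChar.map_zero_eq_one]
  rw [← ZMod.natCast_zmod_val x, zchar_natCast] at h ⊢
  rw [map_pow, ← Complex.inv_eq_conj (hω.norm'_eq_one (pow_ne_zero _ two_ne_zero)), inv_pow]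
  exact (eq_inv_of_mul_eq_one_right h).symm

theorem zchar_half : zchar hω ((2 ^ m : ℕ) : ZMod (2 ^ (m + 1))) = -1 := by
  rw [zchar_natCast]
  exact pow_half hω

theorem half_add_half : ((2 ^ m : ℕ) : ZMod (2 ^ (m + 1))) + ((2 ^ m : ℕ) : ZMod (2 ^ (m + 1))) = 0 := by
  rw [← Nat.cast_add, show 2 ^ m + 2 ^ m = 2 ^ (m + 1) by rw [pow_succ]; ring, ZMod.natCast_self]

/-- The values of a function with the coefficients `N`. -/
noncomputable def colVal (N : ZMod (2 ^ (m + 1)) → ℤ) (i : ZMod (2 ^ (m + 1))) : ℂ :=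
  haveI : NeZero (2 ^ (m + 1)) := ⟨pow_ne_zero _ two_ne_zero⟩
  ∑ j, (N j : ℂ) * zchar hω (i * j)

/-- The difference of two opposite coefficients. -/
def opp (N : ZMod (2 ^ (m + 1)) → ℤ) (j : ZMod (2 ^ (m + 1))) : ℤ := N j - N (j + ((2 ^ m : ℕ) : ZMod (2 ^ (m + 1))))

theorem opp_add_half (N : ZMod (2 ^ (m + 1)) → ℤ) (j : ZMod (2 ^ (m + 1))) : opp N (j + ((2 ^ m : ℕ) : ZMod (2 ^ (m + 1)))) = -opp N j := by
  rw [opp, opp, add_assoc, half_add_half, add_zero]; ring

variable {τ : ℂ →ₗ[ℚ] ℚ} (hτ : ∀ i < 2 ^ m, τ (ω ^ i) = if i = 0 then 1 else 0)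

include hτ in
theorem tau_zchar (x : ZMod (2 ^ (m + 1))) :
    τ (zchar hω x) = (if x = 0 then 1 else 0) - (if x = ((2 ^ m : ℕ) : ZMod (2 ^ (m + 1))) then 1 else 0) := by
  haveI : NeZero (2 ^ (m + 1)) := ⟨pow_ne_zero _ two_ne_zero⟩
  have hx := x.val_lt
  have hq : 2 ^ (m + 1) = 2 ^ m + 2 ^ m := by rw [pow_succ]; ring
  have e0 : x = 0 ↔ x.val = 0 := (ZMod.val_eq_zero x).symm
  have eq' : x = ((2 ^ m : ℕ) : ZMod (2 ^ (m + 1))) ↔ x.val = 2 ^ m := by
    refine ⟨fun h => by rw [h, ZMod.val_natCast_of_lt (by have := Nat.two_pow_pos m; omega)],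
      fun h => by rw [← h, ZMod.natCast_zmod_val]⟩
  conv_lhs => rw [← ZMod.natCast_zmod_val x, zchar_natCast]
  simp only [e0, eq']
  rcases Nat.lt_or_ge x.val (2 ^ m) with h | h
  · rw [hτ _ h, if_neg h.ne, sub_zero]
  · obtain ⟨r, hr⟩ := Nat.exists_eq_add_of_le h
    rw [hr, pow_add, pow_half hω, neg_one_mul, map_neg, hτ r (by omega)]
    have := Nat.two_pow_pos m
    simp [show ¬ (2 ^ m + r = 0) by omega]

include hτ in
theorem tau_colVal (N : ZMod (2 ^ (m + 1)) → ℤ) (l : ZMod (2 ^ (m + 1))) :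
    τ (colVal hω N 1 * zchar hω (-l)) = opp N l := by
  haveI : NeZero (2 ^ (m + 1)) := ⟨pow_ne_zero _ two_ne_zero⟩
  rw [colVal, Finset.sum_mul, map_sum]
  simp only [one_mul, mul_assoc, ← AddChar.map_add_eq_mul]
  rw [Finset.sum_congr rfl fun j _ => by
    rw [show ((N j : ℂ) * zchar hω (j + -l)) = (N j : ℤ) • zchar hω (j + -l) by simp,
      map_zsmul, tau_zchar hω hτ, zsmul_eq_mul, mul_sub]]
  rw [Finset.sum_sub_distrib]
  simp only [mul_ite, mul_one, mul_zero]
  rw [show (fun j : ZMod (2 ^ (m + 1)) => if j + -l = 0 then (N j : ℚ) else 0)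
      = fun j => if j = l then (N j : ℚ) else 0 from funext fun j => by
        simp only [← sub_eq_add_neg, sub_eq_zero],
    show (fun j : ZMod (2 ^ (m + 1)) => if j + -l = ((2 ^ m : ℕ) : ZMod (2 ^ (m + 1))) then (N j : ℚ) else 0)
      = fun j => if j = l + ((2 ^ m : ℕ) : ZMod (2 ^ (m + 1))) then (N j : ℚ) else 0 from funext fun j => by
        simp only [← sub_eq_add_neg, sub_eq_iff_eq_add, add_comm l]]
  simp [opp]

include hτ in
/-- An element of norm one of the ring is a root of unity. -/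
theorem exists_shift {r : ℂ} (hr : r ∈ Algebra.adjoin ℤ ({ω} : Set ℂ)) (h1 : r * conj r = 1) :
    ∃ s : ZMod (2 ^ (m + 1)), r = zchar hω s := by
  obtain ⟨a, rfl⟩ := exists_coeffs hω hr
  have h := congrArg τ h1
  rw [apply_self_mul_conj hω hτ, ← pow_zero ω, hτ 0 (Nat.two_pow_pos _), if_pos rfl] at h
  have h' : ∑ j, a j ^ 2 = 1 := by exact_mod_cast h
  obtain ⟨j, hj⟩ : ∃ j, a j ≠ 0 := by
    by_contra hc
    push Not at hc
    rw [Finset.sum_eq_zero fun j _ => by rw [hc j]; ring] at h'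
    exact zero_ne_one h'
  rw [← Finset.add_sum_erase _ _ (Finset.mem_univ j)] at h'
  have h2 : 0 < a j ^ 2 := by positivity
  have h3 : 0 ≤ ∑ i ∈ Finset.univ.erase j, a i ^ 2 := Finset.sum_nonneg fun i _ => sq_nonneg _
  have h4 : ∀ i, i ≠ j → a i = 0 := fun i hi => by
    have h5 : ∑ i ∈ Finset.univ.erase j, a i ^ 2 = 0 := by omega
    exact pow_eq_zero_iff two_ne_zero |>.1 ((Finset.sum_eq_zero_iff_of_nonneg fun i _ =>
      sq_nonneg _).1 h5 i (Finset.mem_erase.2 ⟨hi, Finset.mem_univ _⟩))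
  rw [Finset.sum_eq_single j (fun i _ hi => by rw [h4 i hi]; simp)
    (fun h => absurd (Finset.mem_univ _) h)]
  have h6 : a j ^ 2 = 1 := by omega
  rcases sq_eq_one_iff.1 h6 with e | e
  · exact ⟨((j : ℕ) : ZMod (2 ^ (m + 1))), by rw [e, zchar_natCast]; simp⟩
  · refine ⟨((j : ℕ) : ZMod (2 ^ (m + 1))) + ((2 ^ m : ℕ) : ZMod (2 ^ (m + 1))), ?_⟩
    rw [AddChar.map_add_eq_mul, zchar_half, zchar_natCast, e]
    simp

variable {ε : ZMod (2 ^ (m + 1))} (hε : ε = -1 ∨ (2 ≤ m ∧ ε = ((2 ^ m : ℕ) : ZMod (2 ^ (m + 1))) - 1))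

include hε in
theorem eps_mul_self : ε * ε = 1 := by
  rcases hε with rfl | ⟨hm, rfl⟩
  · ring
  · have h2 : ((2 ^ m : ℕ) : ZMod (2 ^ (m + 1))) * ((2 ^ m : ℕ) : ZMod (2 ^ (m + 1))) = 0 := by
      rw [← Nat.cast_mul, ← pow_add, ZMod.natCast_eq_zero_iff]
      exact pow_dvd_pow 2 (by omega)
    linear_combination h2 - half_add_half (m := m)

include hτ hε in
/-- The symmetry of the opposite differences. -/
theorem opp_symm (N : ZMod (2 ^ (m + 1)) → ℤ) {s : ZMod (2 ^ (m + 1))}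
    (h : colVal hω N ε = zchar hω s * colVal hω N 1) (j : ZMod (2 ^ (m + 1))) :
    opp N (ε * j - s) = opp N j := by
  haveI : NeZero (2 ^ (m + 1)) := ⟨pow_ne_zero _ two_ne_zero⟩
  have hee := eps_mul_self hε
  have e1 : colVal hω N ε = colVal hω (fun x => N (ε * x)) 1 := by
    let E : ZMod (2 ^ (m + 1)) ≃ ZMod (2 ^ (m + 1)) := Equiv.mk (fun x => ε * x) (fun x => ε * x)
      (fun x => by show ε * (ε * x) = x; rw [← mul_assoc, hee, one_mul])
      (fun x => by show ε * (ε * x) = x; rw [← mul_assoc, hee, one_mul])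
    rw [colVal, colVal]
    refine Fintype.sum_equiv E _ _ fun x => ?_
    show _ = (N (ε * (ε * x)) : ℂ) * _
    rw [← mul_assoc ε ε, hee, one_mul]
    congr 2
    show ε * x = 1 * (ε * x)
    rw [one_mul]
  have e2 : zchar hω s * colVal hω N 1 = colVal hω (fun x => N (x - s)) 1 := by
    rw [colVal, colVal, Finset.mul_sum]
    refine Fintype.sum_equiv (Equiv.addRight s) _ _ fun x => ?_
    simp only [Equiv.coe_addRight, add_sub_cancel_right, one_mul, AddChar.map_add_eq_mul]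
    ring
  rw [e1, e2] at h
  have e3 : ε * ((2 ^ m : ℕ) : ZMod (2 ^ (m + 1))) = ((2 ^ m : ℕ) : ZMod (2 ^ (m + 1))) := by
    rcases hε with rfl | ⟨hm, rfl⟩
    · linear_combination -half_add_half (m := m)
    · have h2 : ((2 ^ m : ℕ) : ZMod (2 ^ (m + 1))) * ((2 ^ m : ℕ) : ZMod (2 ^ (m + 1))) = 0 := by
        rw [← Nat.cast_mul, ← pow_add, ZMod.natCast_eq_zero_iff]
        exact pow_dvd_pow 2 (by omega)
      linear_combination h2 - half_add_half (m := m)
  have h7 : ∀ x, opp N (ε * x) = opp N (x - s) := by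
    intro x
    have h'' : opp (fun y => N (ε * y)) x = opp (fun y => N (y - s)) x := by
      have h' := congrArg (fun v => τ (v * zchar hω (-x))) h
      simp only [tau_colVal hω hτ] at h'
      exact_mod_cast h'
    simp only [opp, mul_add, e3] at h''
    rw [opp, opp, h'', sub_add_eq_add_sub]
  have h8 := h7 (ε * j)
  rw [← mul_assoc, hee, one_mul] at h8
  exact h8.symm

include hε in
theorem exists_half_unit : ∃ d v : ZMod (2 ^ (m + 1)), ε - 1 = 2 * d ∧ d * v = 1 := by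
  rcases hε with rfl | ⟨hm, rfl⟩
  · exact ⟨-1, -1, by rw [two_mul, sub_eq_add_neg], by rw [neg_mul_neg, one_mul]⟩
  · obtain ⟨t, rfl⟩ : ∃ t, m = t + 1 := ⟨m - 1, by omega⟩
    obtain ⟨u, hu⟩ : IsUnit (((2 ^ t : ℕ) : ZMod (2 ^ (t + 1 + 1))) - 1) := by
      have hn : IsNilpotent ((2 ^ t : ℕ) : ZMod (2 ^ (t + 1 + 1))) := by
        refine ⟨3, ?_⟩
        rw [← Nat.cast_pow, ← pow_mul, ZMod.natCast_eq_zero_iff]
        exact pow_dvd_pow 2 (by omega)
      exact hn.isUnit_sub_one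
    refine ⟨((2 ^ t : ℕ) : ZMod (2 ^ (t + 1 + 1))) - 1, (u⁻¹ : (ZMod (2 ^ (t + 1 + 1)))ˣ), ?_,
      by rw [← hu]; exact Units.mul_inv u⟩
    push_cast
    rw [pow_succ]
    ring

include hε in
theorem castHom_eps :
    ZMod.castHom (pow_dvd_pow 2 (Nat.le_succ m)) (ZMod (2 ^ m)) ε = -1 := by
  rcases hε with rfl | ⟨-, rfl⟩
  · rw [map_neg, map_one]
  · rw [map_sub, map_natCast, map_one, ZMod.natCast_self, zero_sub]

/-- Modulo two the opposite difference only sees the class modulo `q`. -/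
theorem opp_mod_two (N : ZMod (2 ^ (m + 1)) → ℤ) (j : ZMod (2 ^ (m + 1))) :
    (opp N (((ZMod.castHom (pow_dvd_pow 2 (Nat.le_succ m)) (ZMod (2 ^ m)) j).val : ℕ)
      : ZMod (2 ^ (m + 1))) : ZMod 2) = (opp N j : ZMod 2) := by
  haveI : NeZero (2 ^ (m + 1)) := ⟨pow_ne_zero _ two_ne_zero⟩
  haveI : NeZero (2 ^ m) := ⟨pow_ne_zero _ two_ne_zero⟩
  set ρ : ZMod (2 ^ (m + 1)) →+* ZMod (2 ^ m) := ZMod.castHom (pow_dvd_pow 2 (Nat.le_succ m)) _
  have hj : j = (((ρ j).val : ℕ) : ZMod (2 ^ (m + 1))) ∨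
      j = (((ρ j).val : ℕ) : ZMod (2 ^ (m + 1))) + ((2 ^ m : ℕ) : ZMod (2 ^ (m + 1))) := by
    have h1 : (ρ j).val = j.val % 2 ^ m := by
      conv_lhs => rw [← ZMod.natCast_zmod_val j, map_natCast, ZMod.val_natCast]
    have h2 := j.val_lt
    have h3 : 2 ^ (m + 1) = 2 ^ m + 2 ^ m := by rw [pow_succ]; ring
    rcases Nat.lt_or_ge j.val (2 ^ m) with h | h
    · left; rw [h1, Nat.mod_eq_of_lt h, ZMod.natCast_zmod_val]
    · right
      rw [h1, Nat.mod_eq_sub_mod h, Nat.mod_eq_of_lt (by omega), ← Nat.cast_add,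
        Nat.sub_add_cancel h, ZMod.natCast_zmod_val]
  rcases hj with h | h
  · rw [← h]
  · conv_rhs => rw [h, opp_add_half, Int.cast_neg, ZMod.neg_eq_self_mod_two]

theorem sum_opp_mod_two [NeZero (2 ^ m)] [NeZero (2 ^ (m + 1))] (N : ZMod (2 ^ (m + 1)) → ℤ) :
    ∑ x : ZMod (2 ^ m), (opp N ((x.val : ℕ) : ZMod (2 ^ (m + 1))) : ZMod 2)
      = ((∑ j, N j : ℤ) : ZMod 2) := by
  have e1 : ∑ x : ZMod (2 ^ m), (opp N ((x.val : ℕ) : ZMod (2 ^ (m + 1))) : ZMod 2)
      = ∑ i ∈ Finset.range (2 ^ m), (opp N (i : ZMod (2 ^ (m + 1))) : ZMod 2) := by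
    refine Finset.sum_nbij' (fun x => x.val) (fun i => (i : ZMod (2 ^ m))) ?_ ?_ ?_ ?_ ?_
    · intro x _; exact Finset.mem_range.2 x.val_lt
    · intro i _; exact Finset.mem_univ _
    · intro x _; exact ZMod.natCast_zmod_val x
    · intro i hi; exact ZMod.val_natCast_of_lt (Finset.mem_range.1 hi)
    · intro x _; rfl
  have e2 : ∑ j : ZMod (2 ^ (m + 1)), N j
      = ∑ i ∈ Finset.range (2 ^ m + 2 ^ m), N (i : ZMod (2 ^ (m + 1))) := by
    rw [show 2 ^ m + 2 ^ m = 2 ^ (m + 1) by rw [pow_succ]; ring]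
    refine Finset.sum_nbij' (fun x => x.val) (fun i => (i : ZMod (2 ^ (m + 1)))) ?_ ?_ ?_ ?_ ?_
    · intro x _; exact Finset.mem_range.2 x.val_lt
    · intro i _; exact Finset.mem_univ _
    · intro x _; exact ZMod.natCast_zmod_val x
    · intro i hi; exact ZMod.val_natCast_of_lt (Finset.mem_range.1 hi)
    · intro x _; simp
  rw [e1, e2, Finset.sum_range_add]
  push_cast
  rw [← Finset.sum_add_distrib]
  refine Finset.sum_congr rfl fun i _ => ?_
  rw [opp, Int.cast_sub, sub_eq_add_neg, ZMod.neg_eq_self_mod_two]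
  congr 3
  push_cast
  ring

include hε in
theorem opp_mod_two_symm (N : ZMod (2 ^ (m + 1)) → ℤ) {s : ZMod (2 ^ (m + 1))}
    (hsym : ∀ j, opp N (ε * j - s) = opp N j) (x : ZMod (2 ^ m)) :
    (opp N (((-x - ((s.val : ℕ) : ZMod (2 ^ m))).val : ℕ) : ZMod (2 ^ (m + 1))) : ZMod 2)
      = (opp N ((x.val : ℕ) : ZMod (2 ^ (m + 1))) : ZMod 2) := by
  haveI : NeZero (2 ^ (m + 1)) := ⟨pow_ne_zero _ two_ne_zero⟩
  haveI : NeZero (2 ^ m) := ⟨pow_ne_zero _ two_ne_zero⟩
  have h2 := congrArg (fun z : ℤ => (z : ZMod 2)) (hsym ((x.val : ℕ) : ZMod (2 ^ (m + 1))))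
  rw [← opp_mod_two N (ε * _ - s), map_sub, map_mul, castHom_eps hε, map_natCast,
    ZMod.natCast_zmod_val, ← ZMod.natCast_zmod_val s, map_natCast, neg_one_mul] at h2
  exact h2

include hε in
/-- The opposite difference at a fixed point carries the parity of the degree. -/
theorem exists_fixed (hm : 1 ≤ m) (N : ZMod (2 ^ (m + 1)) → ℤ) {s : ZMod (2 ^ (m + 1))}
    (hsym : ∀ j, opp N (ε * j - s) = opp N j) (hodd : Odd (∑ j, N j)) :
    ∃ j : ZMod (2 ^ (m + 1)), ε * j - s = j := by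
  haveI : NeZero (2 ^ (m + 1)) := ⟨pow_ne_zero _ two_ne_zero⟩
  haveI : NeZero (2 ^ m) := ⟨pow_ne_zero _ two_ne_zero⟩
  obtain ⟨d, v, hd, hdv⟩ := exists_half_unit hε
  rcases Nat.even_or_odd' s.val with ⟨t, ht | ht⟩
  · refine ⟨((t : ℕ) : ZMod (2 ^ (m + 1))) * v, ?_⟩
    have hs : s = 2 * ((t : ℕ) : ZMod (2 ^ (m + 1))) := by
      rw [← ZMod.natCast_zmod_val s, ht]; push_cast; ring
    rw [hs]
    linear_combination ((t : ℕ) : ZMod (2 ^ (m + 1))) * v * hd + 2 * ((t : ℕ) : ZMod (2 ^ (m + 1))) * hdv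
  exfalso
  set π : ZMod (2 ^ m) → ZMod (2 ^ m) := fun x => -x - (s.val : ZMod (2 ^ m))
  rw [← ZMod.intCast_eq_one_iff_odd] at hodd
  refine zero_ne_one (α := ZMod 2) (Eq.trans ?_ ((sum_opp_mod_two N).trans hodd))
  symm
  refine Finset.sum_involution (fun x _ => π x) (fun x _ => ?_) (fun x _ _ => ?_)
    (fun x _ => Finset.mem_univ _) (fun x _ => ?_)
  · rw [opp_mod_two_symm hε N hsym]
    exact CharTwo.add_self_eq_zero _
  · intro hx
    have h1 := congrArg (ZMod.castHom (dvd_pow_self 2 (by omega : m ≠ 0)) (ZMod 2)) hx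
    simp only [π, map_sub, map_neg, map_natCast] at h1
    rw [ht] at h1
    push_cast at h1
    revert h1
    generalize (ZMod.castHom _ (ZMod 2)) x = y
    generalize (t : ZMod 2) = u
    revert y u
    decide
  · show -(-x - (s.val : ZMod (2 ^ m))) - (s.val : ZMod (2 ^ m)) = x
    ring

include hε in
/-- The opposite difference at a fixed point has the parity of the degree. -/
theorem opp_fixed_parity (hm : 1 ≤ m) (N : ZMod (2 ^ (m + 1)) → ℤ) {s j₀ : ZMod (2 ^ (m + 1))}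
    (hsym : ∀ j, opp N (ε * j - s) = opp N j) (hj₀ : ε * j₀ - s = j₀) :
    ((opp N j₀ : ℤ) : ZMod 2) = ((∑ j, N j : ℤ) : ZMod 2) := by
  haveI : NeZero (2 ^ (m + 1)) := ⟨pow_ne_zero _ two_ne_zero⟩
  haveI : NeZero (2 ^ m) := ⟨pow_ne_zero _ two_ne_zero⟩
  set π : ZMod (2 ^ m) → ZMod (2 ^ m) := fun x => -x - ((s.val : ℕ) : ZMod (2 ^ m))
  obtain ⟨r, hr⟩ : ∃ r, r = 2 ^ (m - 1) := ⟨_, rfl⟩
  have hrr : r + r = 2 ^ m := by rw [hr, ← two_mul, ← pow_succ']; congr 1; omega
  set F : ZMod (2 ^ m) := ((j₀.val : ℕ) : ZMod (2 ^ m))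
  have hπ : ∀ x : ZMod (2 ^ m), π x = x → x = F ∨ x = F + (r : ℕ) := by
    intro x hx
    have hF : π F = F := by
      simp only [π, F]
      have h1 := congrArg (ZMod.castHom (pow_dvd_pow 2 (Nat.le_succ m)) (ZMod (2 ^ m))) hj₀
      rw [map_sub, map_mul, castHom_eps hε, ← ZMod.natCast_zmod_val s,
        ← ZMod.natCast_zmod_val j₀, map_natCast, map_natCast, neg_one_mul] at h1
      exact h1
    have h2 : (x - F) + (x - F) = 0 := by
      have e1 : π x - π F = x - F := by rw [hx, hF]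
      simp only [π] at e1
      linear_combination -e1
    rw [← ZMod.natCast_zmod_val (x - F), ← Nat.cast_add, ZMod.natCast_eq_zero_iff] at h2
    obtain ⟨c, hc⟩ := h2
    have hlt := (x - F).val_lt
    have hcases : (x - F).val = 0 ∨ (x - F).val = r := by
      rcases c with _ | _ | c
      · left; omega
      · right; omega
      · have : 2 ^ m * 2 ≤ 2 ^ m * (c + 1 + 1) := Nat.mul_le_mul_left _ (by omega)
        omega
    rcases hcases with hd | hd
    · left
      exact sub_eq_zero.1 ((ZMod.val_eq_zero _).1 hd)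
    · right
      rw [← hd, ZMod.natCast_zmod_val]
      ring
  let v' : ZMod (2 ^ m) → ZMod 2 := fun x => (opp N ((x.val : ℕ) : ZMod (2 ^ (m + 1))) : ZMod 2)
  have hρ := fun j : ZMod (2 ^ (m + 1)) => opp_mod_two N j
  have hzero : opp N (j₀ + (r : ℕ)) = 0 := by
    have h1 := hsym (j₀ + (r : ℕ))
    have h2 : ε * (j₀ + (r : ℕ)) - s
        = j₀ + (r : ℕ) + ((2 ^ m : ℕ) : ZMod (2 ^ (m + 1))) := by
      have h3 : ε * (r : ℕ) = (r : ℕ) + ((2 ^ m : ℕ) : ZMod (2 ^ (m + 1))) := by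
        have h4 := half_add_half (m := m)
        have h5 : ((2 ^ m : ℕ) : ZMod (2 ^ (m + 1)))
            = ((r : ℕ) : ZMod (2 ^ (m + 1))) + (r : ℕ) := by
          rw [← Nat.cast_add, hrr]
        rcases hε with rfl | ⟨hm2, rfl⟩
        · linear_combination h5 - h4
        · have h6 : ((2 ^ m : ℕ) : ZMod (2 ^ (m + 1))) * ((r : ℕ) : ZMod (2 ^ (m + 1))) = 0 := by
            rw [hr, ← Nat.cast_mul, ← pow_add, ZMod.natCast_eq_zero_iff]
            exact pow_dvd_pow 2 (by omega)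
          linear_combination h6 + h5 - h4
      linear_combination hj₀ + h3
    rw [h2, opp_add_half] at h1
    omega
  rw [← sum_opp_mod_two N]
  show _ = ∑ x, v' x
  rw [← Finset.add_sum_erase _ _ (Finset.mem_univ F)]
  have hFv : v' F = (opp N j₀ : ZMod 2) := by
    have h1 := hρ j₀
    rw [show ZMod.castHom (pow_dvd_pow 2 (Nat.le_succ m)) (ZMod (2 ^ m)) j₀ = F by
      simp only [F]; rw [← map_natCast (ZMod.castHom (pow_dvd_pow 2 (Nat.le_succ m))
        (ZMod (2 ^ m))), ZMod.natCast_zmod_val]] at h1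
    exact h1
  rw [hFv, left_eq_add]
  refine Finset.sum_involution (fun x _ => if π x = x then x else π x) (fun x hx => ?_)
    (fun x hx hne => ?_) (fun x hx => ?_) (fun x hx => ?_)
  · split_ifs with hp
    · exact CharTwo.add_self_eq_zero _
    · show v' x + v' (π x) = 0
      rw [show v' (π x) = v' x from opp_mod_two_symm hε N hsym x]
      exact CharTwo.add_self_eq_zero _
  · split_ifs with hp
    · exfalso
      refine hne ?_
      rcases hπ x hp with rfl | rfl
      · exact absurd rfl (Finset.mem_erase.1 hx).1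
      · have h1 := hρ (j₀ + (r : ℕ))
        rw [hzero, Int.cast_zero, map_add, ← ZMod.natCast_zmod_val j₀, map_natCast, map_natCast]
          at h1
        exact h1
    · exact hp
  · refine Finset.mem_erase.2 ⟨?_, Finset.mem_univ _⟩
    split_ifs with hp
    · exact (Finset.mem_erase.1 hx).1
    · intro hh
      have hππ : π (π x) = x := by simp only [π]; ring
      have hF : π F = F := by
        simp only [π, F]
        have h1 := congrArg (ZMod.castHom (pow_dvd_pow 2 (Nat.le_succ m)) (ZMod (2 ^ m))) hj₀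
        rw [map_sub, map_mul, castHom_eps hε, ← ZMod.natCast_zmod_val s,
          ← ZMod.natCast_zmod_val j₀, map_natCast, map_natCast, neg_one_mul] at h1
        exact h1
      rw [hh, hF] at hππ
      exact (Finset.mem_erase.1 hx).1 hππ.symm
  · have hππ : π (π x) = x := by simp only [π]; ring
    by_cases hp : π x = x
    · simp only [if_pos hp]
    · simp only [if_neg hp]
      rw [hππ, if_neg (fun hh => hp hh.symm)]

end Coeff

end CfsgLib.Blocks.TameDefect
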