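import Cfsg.Agent.Lib.Blocks.TameDefect.CycFusion
import Cfsg.Agent.Lib.Blocks.FreeAbelianCounts.Orth

/-!
# The columns of decomposition numbers in a nilpotent block of a centralizer

If the block at an element of the defect group is nilpotent with abelian defect group, the
contributions at the elements of that group with smaller centralizer are given by one character of
it for each character of the group.
-/

set_option autoImplicit false
set_option maxHeartbeats 1600000

namespace CfsgLib.Blocks.TameDefect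

open Cfsg CfsgLib.Blocks CfsgLib.BrauerPairs CfsgLib.BrouePuig
open scoped Classical ComplexConjugate

universe u

/-- Nilpotency from the action of the odd elements on the subgroups of the defect group. -/
theorem isNilpotent_of_odd [Fact (Nat.Prime 2)] {M : Ideal AlgInt} (hM : IsPModular 2 M)
    {H : Type u} [Group H] [Fintype H] {f : Set (IrrCharacter H)} {P : Subgroup H}
    {e' : Set (IrrCharacter (Subgroup.centralizer (P : Set H)))}
    (hmax : IsMaximalBrauerPair 2 M f P e')
    (hodd : ∀ Q ≤ P, ∀ x ∈ Subgroup.normalizer (Q : Set H), Odd (orderOf x) →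
      x ∈ Subgroup.centralizer (Q : Set H)) : IsNilpotentBlock 2 M f := by
  refine ⟨hmax.1.2.1, fun Q f hQ x hxN _ hreg => ?_⟩
  obtain ⟨g, hg⟩ := exists_conj_subpairLE hM hmax hQ
  have hle := subgroup_le_of_subpairLE hg
  have hx : Odd (orderOf (g * x * g⁻¹)) := by
    have h1 : orderOf (g * x * g⁻¹) = orderOf x := MulEquiv.orderOf_eq (MulAut.conj g) x
    rw [h1, ← Nat.not_even_iff_odd, even_iff_two_dvd]
    exact hreg
  have hN : g * x * g⁻¹ ∈ Subgroup.normalizer
      ((Q.map (MulAut.conj g).toMonoidHom : Subgroup H) : Set H) := mem_normalizer_map_conj.2 hxN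
  have hc := hodd _ hle _ hN hx
  refine Subgroup.mem_centralizer_iff.2 fun q hq => ?_
  have := Subgroup.mem_centralizer_iff.1 hc (g * q * g⁻¹) ⟨q, hq, rfl⟩
  calc q * x = g⁻¹ * (g * q * g⁻¹ * (g * x * g⁻¹)) * g := by group
    _ = g⁻¹ * (g * x * g⁻¹ * (g * q * g⁻¹)) * g := by rw [this]
    _ = x * q := by group

section Odd

variable {H : Type u} [Group H] [Finite H] {P : Subgroup H}

/-- An element of odd order normalizing a subgroup of a cyclic two-group centralizes it. -/
theorem odd_centralizes_cyclic [Fact (Nat.Prime 2)] (hcyc : IsCyclic P) (hP : IsPGroup 2 P)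
    {Q : Subgroup H} (hQ : Q ≤ P) {x : H} (hx : x ∈ Subgroup.normalizer (Q : Set H))
    (hodd : Odd (orderOf x)) : x ∈ Subgroup.centralizer (Q : Set H) := by
  haveI : IsCyclic Q :=
    isCyclic_of_injective (Subgroup.inclusion hQ) (Subgroup.inclusion_injective _)
  obtain ⟨c, hc⟩ := (Subgroup.isCyclic_iff_exists_zpowers_eq_top (H := Q)).1 inferInstance
  subst hc
  obtain ⟨j, hj⟩ := IsPGroup.iff_orderOf.1 (hP.to_le hQ) ⟨c, Subgroup.mem_zpowers c⟩
  rw [← Subgroup.orderOf_coe] at hj
  set N : Subgroup.normalizer ((Subgroup.zpowers c : Subgroup H) : Set H) := ⟨x, hx⟩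
  set α := (Subgroup.zpowers c).normalizerMonoidHom N
  obtain ⟨t, ht⟩ := IsPGroup.iff_orderOf.1 (isPGroup_mulAut_zpowers hj) α
  have hdvd : orderOf α ∣ orderOf x := by
    refine (orderOf_map_dvd ((Subgroup.zpowers c).normalizerMonoidHom) N).trans ?_
    rw [← Subgroup.orderOf_coe]
  have h1 : α = 1 := orderOf_eq_one_iff.1 <| by
    have hco : (2 ^ t).Coprime (orderOf x) := (Nat.coprime_two_left.2 hodd).pow_left t
    exact Nat.eq_one_of_dvd_coprimes hco ht.dvd hdvd
  refine Subgroup.mem_centralizer_iff.2 fun q hq => ?_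
  have h2 := congrArg (fun β : MulAut (Subgroup.zpowers c) => ((β ⟨q, hq⟩ : Subgroup.zpowers c) : H)) h1
  have h3 : x * q * x⁻¹ = q := h2
  exact (mul_inv_eq_iff_eq_mul.1 h3).symm

/-- The same for a subgroup of order at most four over an element fixed by `x`. -/
theorem odd_centralizes_four {u v : H} (hP : ∀ q ∈ P, q = 1 ∨ q = u ∨ q = v ∨ q = u * v)
    {Q : Subgroup H} (hQ : Q ≤ P) {x : H} (hx : x ∈ Subgroup.normalizer (Q : Set H))
    (hxu : x * u = u * x) (hodd : Odd (orderOf x)) : x ∈ Subgroup.centralizer (Q : Set H) := by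
  refine Subgroup.mem_centralizer_iff.2 fun q hq => ?_
  by_cases h1 : q = 1
  · rw [h1, one_mul, mul_one]
  by_cases h2 : q = u
  · rw [h2]; exact hxu.symm
  have hconj : ∀ y ∈ Q, y ≠ 1 → y ≠ u → (x * y * x⁻¹ = v ∨ x * y * x⁻¹ = u * v) := by
    intro y hy hy1 hyu
    rcases hP _ (hQ ((Subgroup.mem_normalizer_iff.1 hx y).1 hy)) with h | h | h | h
    · exact absurd (conj_eq_one_iff.1 h) hy1
    · refine absurd (mul_left_cancel (a := x) (mul_right_cancel (b := x⁻¹) (h.trans ?_))) hyu
      rw [hxu, mul_inv_cancel_right]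
    · exact Or.inl h
    · exact Or.inr h
  set y := x * q * x⁻¹ with hy
  have hyQ : y ∈ Q := (Subgroup.mem_normalizer_iff.1 hx q).1 hq
  have hq' : q = v ∨ q = u * v := by
    rcases hP _ (hQ hq) with h | h | h | h
    · exact absurd h h1
    · exact absurd h h2
    · exact Or.inl h
    · exact Or.inr h
  have hy1 : y ≠ 1 := fun h => h1 (conj_eq_one_iff.1 h)
  have hyu : y ≠ u := fun h => h2 (mul_left_cancel (a := x) (mul_right_cancel (b := x⁻¹)
    (h.trans (by rw [hxu, mul_inv_cancel_right]))))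
  have hfix2 : x * y * x⁻¹ = q := by
    have hy' := hconj q hq h1 h2
    rw [← hy] at hy'
    have hy2 := hconj y hyQ hy1 hyu
    by_cases he : y = q
    · rw [he, ← hy, he]
    · have hne : x * y * x⁻¹ ≠ y := fun h => he (by
        have h' : x * y * x⁻¹ = x * q * x⁻¹ := h.trans hy
        exact mul_left_cancel (mul_right_cancel h'))
      rcases hq' with hqv | hqv <;> rcases hy' with e1 | e1 <;> rcases hy2 with e2 | e2 <;>
        first
        | exact e2.trans hqv.symm
        | exact absurd (e1.trans hqv.symm) he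
        | exact absurd (e2.trans e1.symm) hne
  have hc2 : Commute (x ^ 2) q := by
    refine mul_inv_eq_iff_eq_mul.1 ?_
    calc x ^ 2 * q * (x ^ 2)⁻¹ = x * (x * q * x⁻¹) * x⁻¹ := by rw [pow_two]; group
      _ = q := by rw [← hy]; exact hfix2
  obtain ⟨i, hi⟩ := exists_pow_eq_self_of_coprime (x := x) (n := 2) (Nat.coprime_two_left.2 hodd)
  have := hc2.pow_left i
  rw [hi] at this
  exact this.eq.symm

end Odd

variable {G : Type u} [Group G] [Fintype G] {M : Ideal AlgInt} {B : Set (IrrCharacter G)}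
  {D : Subgroup G} {eD : Set (IrrCharacter (Subgroup.centralizer (D : Set G)))}
  [Fact (Nat.Prime 2)]

/-- The columns at the elements with centralizer inside that of `x`. -/
structure Columns (hM : IsPModular 2 M) (hP : IsBrauerPair 2 M D eD) (x : D) (P : Subgroup G) where
  g : IrrCharacter G → P → ℂ
  char : ∀ χ, IsCharacter P (g χ)
  scal : P → ℂ
  rank : ∀ (w : P) (hw : (w : G) ∈ D), cenZ (w : G) ≤ cenZ (x : G) →
    blockRank 2 (bel hM hP ⟨(w : G), hw⟩).2 = 1
  scal_ne : ∀ w : P, cenZ (w : G) ≤ cenZ (x : G) → scal w ≠ 0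
  sec : ∀ (w : P) (hw : (w : G) ∈ D), cenZ (w : G) ≤ cenZ (x : G) → ∀ χ : IrrCharacter G,
    secPart (bel hM hP ⟨(w : G), hw⟩).1 (cenZ (bel hM hP ⟨(w : G), hw⟩).1)
      (bel hM hP ⟨(w : G), hw⟩).2 χ 1 = g χ w * scal w
  cls : ∀ (w : P) (hw : (w : G) ∈ D), cenZ (w : G) ≤ cenZ (x : G) → ∀ χ φ : IrrCharacter G,
    classSec hM hP ⟨(w : G), hw⟩ χ φ = g χ w * conj (g φ w) * (Nat.card P : ℂ)⁻¹

/-- The columns inside a subgroup over whose maximal pair the block is nilpotent. -/
theorem exists_nest_columns (hM : IsPModular 2 M) {P H : Subgroup G} (hPH : P ≤ H)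
    {eP : Set (IrrCharacter (Subgroup.centralizer (P : Set G)))} (hPP : IsBrauerPair 2 M P eP)
    {fz : Set (IrrCharacter H)}
    {e' : Set (IrrCharacter (Subgroup.centralizer (P.subgroupOf H : Set H)))}
    (hmax' : IsMaximalBrauerPair 2 M fz (P.subgroupOf H) e')
    (hec : ∀ c : H, subgroupBlockCoeff (Subgroup.centralizer (P.subgroupOf H : Set H)) e' c
      = subgroupBlockCoeff (Subgroup.centralizer (P : Set G)) eP (c : G))
    (hnil : IsNilpotentBlock 2 M fz) (hab : ∀ v ∈ P, ∀ w ∈ P, v * w = w * v) :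
    ∃ g : IrrCharacter G → P → ℂ, ∃ σ : P → ℂ, (∀ χ, IsCharacter P (g χ)) ∧
      ∀ w : P, cenZ (w : G) ≤ H →
        blockRank 2 (bel hM hPP w).2 = 1 ∧ σ w ≠ 0 ∧
        (∀ χ : IrrCharacter G, secPart (bel hM hPP w).1 (cenZ (bel hM hPP w).1)
          (bel hM hPP w).2 χ 1 = g χ w * σ w) ∧
        ∀ χ φ : IrrCharacter G, secInner 2 χ φ (bel hM hPP w) * (Nat.card P : ℂ)
          = g χ w * conj (g φ w) * (Nat.card (cenZ (w : G)) : ℂ) := by
  set P' : Subgroup H := P.subgroupOf H
  obtain ⟨χ₀, hχ₀, h0, Φ, hΦ⟩ := exists_param_star hM hnil hmax'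
  set hP' := hmax'.1.1
  let j : P →* P' := (Subgroup.subgroupOfEquivOfLe hPH).symm.toMonoidHom
  let g : IrrCharacter G → P → ℂ := fun χ w =>
    ∑ θ : IrrCharacter P', resMult χ (Φ θ : IrrCharacter H) * (θ : P' → ℂ) (j w)
  have hchar : ∀ χ, IsCharacter P (g χ) := fun χ => by
    have hsum := Char.isCharacter_sum (Finset.univ : Finset (IrrCharacter P'))
      (fun θ w => resMult χ (Φ θ : IrrCharacter H) * (θ : P' → ℂ) (j w)) fun θ _ => by
        obtain ⟨n, hn⟩ := resMult_nat χ (Φ θ : IrrCharacter H)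
        have h := Char.IsCharacter.nsmul (Char.IsCharacter.comp (Char.isCharacter_irr θ) j) n
        convert h using 1
        funext w
        simp [hn]
    convert hsum using 1
    funext w
    simp [g, Finset.sum_apply]
  let u : P → H := fun w => ⟨(w : G), hPH w.2⟩
  let f' : (w : P) → Set (IrrCharacter (cenZ (u w))) := fun w => (bel hM hP' (j w)).2
  let fG : (w : P) → Set (IrrCharacter (cenZ (w : G))) := fun w => (bel hM hPP w).2
  let σ : P → ℂ := fun w => secPart (u w) (cenZ (u w)) (f' w) χ₀ 1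
  have key : ∀ w : P, cenZ (w : G) ≤ H →
      blockRank 2 (fG w) = 1 ∧ σ w ≠ 0 ∧
      (∀ χ : IrrCharacter G,
        secPart (w : G) (cenZ (w : G)) (fG w) χ 1 = g χ w * σ w) ∧
      ∀ χ φ : IrrCharacter G, secInner 2 χ φ (bel hM hPP w) * (Nat.card P : ℂ)
        = g χ w * conj (g φ w) * (Nat.card (cenZ (w : G)) : ℂ) := by
    intro w hle
    have hiff : ∀ y : H, (y : G) ∈ cenZ ((u w : H) : G) ↔ y ∈ cenZ (u w) :=
      coe_mem_centralizer_iff (R := Subgroup.zpowers (u w)) (by rw [MonoidHom.map_zpowers]; rfl)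
    set φ := nestIso (H := H) hle hiff with hφ
    have hfeq : f' w = irrEquiv φ '' fG w := bc_injective _ (funext fun y =>
      (bc_bel_nest hM hPH hPP hP' hec w hle y).trans (bc_image_nestIso hle hiff _ y).symm)
    have ha' : IsElemOf 2 M fz (bel hM hP' (j w)) :=
      isElemOf_of_below hM hmax' (bel_below hM hP' (j w))
    have hx' : ∃ m : ℕ, orderOf (u w) = 2 ^ m := (mem_elems.1 (ha'.mem hM.1)).1
    have hb' : IsPBlock M (f' w) := (mem_elems.1 (ha'.mem hM.1)).2
    have hind' : IsInducedBlock M (cenZ (u w)) (f' w) fz :=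
      (isBrauerPairOf_iff_induced hM ha'.1.1 ha'.1.2).1 ha'
    have hone : ¬ 2 ∣ orderOf (1 : cenZ (u w)) := FreeAbelianCounts.one_regular hM.1
    have hbel' : bel hM hP' (j w) = (⟨u w, f' w⟩ : BElem H) := rfl
    have hθ : ∀ (θ : IrrCharacter P') (c : cenZ (u w)), ¬ 2 ∣ orderOf c →
        secPart (u w) (cenZ (u w)) (f' w) (Φ θ : IrrCharacter H) c
          = (θ : P' → ℂ) (j w) * secPart (u w) (cenZ (u w)) (f' w) χ₀ c := by
      intro θ c hc
      refine (secPart_star _ χ₀ _ (hΦ θ) hx' hb' hc).trans ?_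
      congr 1
      exact etaOf_bel hM hP' (stable_of_class hM hnil hmax'
        (Char.IsIrrCharacter.isClassFunction θ.2)) (j w)
    have hzero : ∀ (ψ : IrrCharacter H), ψ ∉ fz → ∀ c : cenZ (u w), ¬ 2 ∣ orderOf c →
        secPart (u w) (cenZ (u w)) (f' w) ψ c = 0 := fun ψ hψ c hc =>
      secPart_eq_zero_of_notMem hM (cenZ_eq (u w)) hx' hind' hψ hc
    have hsum : ∀ F : IrrCharacter H → ℂ, (∀ ψ, ψ ∉ fz → F ψ = 0) →
        ∑ ψ : IrrCharacter H, F ψ = ∑ θ : IrrCharacter P', F (Φ θ : IrrCharacter H) := by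
      intro F hF
      rw [← Finset.sum_subset (Finset.subset_univ fz.toFinset) fun ψ _ hψ =>
        hF ψ fun h => hψ (Set.mem_toFinset.2 h), ← Finset.sum_coe_sort]
      exact (Fintype.sum_equiv (Φ.trans (Equiv.subtypeEquivRight fun y =>
        (Set.mem_toFinset (s := fz) (a := y)).symm)) _ _ fun θ => rfl).symm
    have hcardC : Nat.card (Subgroup.centralizer ({j w} : Set P')) = Nat.card P := by
      rw [show Subgroup.centralizer ({j w} : Set P') = ⊤ from eq_top_iff.2 fun v _ =>
        Subgroup.mem_centralizer_singleton_iff.2 (Subtype.ext (Subtype.ext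
          (hab _ v.2 _ (j w).2))), Subgroup.card_top]
      exact Nat.card_congr (Subgroup.subgroupOfEquivOfLe hPH).toEquiv
    have horth : ∑ θ : IrrCharacter P', (θ : P' → ℂ) (j w) * conj ((θ : P' → ℂ) (j w))
        = (Nat.card P : ℂ) := by
      rw [← hcardC, Char.sum_irr_mul_conj, if_pos (IsConj.refl _)]
    set S : ℂ := ∑ c : cenZ (u w) with IsPRegular 2 c,
      secPart (u w) (cenZ (u w)) (f' w) χ₀ c * conj (secPart (u w) (cenZ (u w)) (f' w) χ₀ c)
      with hS_def
    have hS : (Nat.card P : ℂ) * S = (Nat.card (cenZ (u w)) : ℂ) := by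
      have h := ratio_mul_secInner_eq_one hM hnil hmax' hχ₀ h0 (j w)
      rw [hbel', secInner] at h
      rw [ratio, hcardC, show ((j w : P') : H) = u w from rfl, ← cenZ_eq (u w)] at h
      have hne : (Nat.card (cenZ (u w)) : ℂ) ≠ 0 := Char.card_ne_zero
      calc (Nat.card P : ℂ) * S
          = (Nat.card (cenZ (u w)) : ℂ) * ((Nat.card P : ℂ) *
              (Nat.card (cenZ (u w)) : ℂ)⁻¹ * S) := by field_simp
        _ = _ := by rw [h, mul_one]
    have hrank : blockRank 2 (f' w) = 1 := by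
      have h := sum_secInner hM (B := fz) (a := (⟨u w, f' w⟩ : BElem H)) (hbel' ▸ ha')
      simp only [secInner] at h
      rw [Finset.sum_subset (Finset.subset_univ fz.toFinset) (fun ψ _ hψ =>
          Finset.sum_eq_zero fun c hc => by
            rw [hzero ψ (fun h => hψ (Set.mem_toFinset.2 h)) c (Finset.mem_filter.1 hc).2,
              zero_mul]),
        hsum _ (fun ψ hψ => Finset.sum_eq_zero fun c hc => by
          rw [hzero ψ hψ c (Finset.mem_filter.1 hc).2, zero_mul]),
        Finset.sum_congr rfl (g := fun θ : IrrCharacter P' =>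
          (θ : P' → ℂ) (j w) * conj ((θ : P' → ℂ) (j w)) * S) fun θ _ => by
          rw [hS_def, Finset.mul_sum]
          refine Finset.sum_congr rfl fun c hc => ?_
          rw [hθ θ c (Finset.mem_filter.1 hc).2, map_mul]
          ring, ← Finset.sum_mul, horth, hS] at h
      have h2 : (Nat.card (cenZ (u w)) : ℂ) * 1
          = (Nat.card (cenZ (u w)) : ℂ) * (blockRank 2 (f' w) : ℂ) := by rw [mul_one]; exact h
      exact_mod_cast (mul_left_cancel₀ Char.card_ne_zero h2).symm
    have hrank' : blockRank 2 (fG w) = 1 := by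
      rw [← hrank, hfeq, blockRank_image]
    have hσ : σ w ≠ 0 := by
      intro h0'
      obtain ⟨θ₀, hθ₀⟩ := IsPBlock.nonempty hM hb'
      have hS0 : S = 0 := by
        refine Finset.sum_eq_zero fun c hc => ?_
        have h := secPart_prop hM.1 (cenZ_eq (u w)) hrank χ₀ hθ₀ (Finset.mem_filter.1 hc).2
        rw [show secPart (u w) (cenZ (u w)) (f' w) χ₀ 1 = 0 from h0', zero_mul, mul_eq_zero] at h
        rw [h.resolve_right (irr_one_ne_zero θ₀), zero_mul]
      rw [hS0, mul_zero] at hS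
      exact Char.card_ne_zero hS.symm
    have hsec : ∀ (χ : IrrCharacter G) (c : cenZ (u w)), ¬ 2 ∣ orderOf c →
        secPart (w : G) (cenZ (w : G)) (fG w) χ (φ c)
          = g χ w * secPart (u w) (cenZ (u w)) (f' w) χ₀ c := by
      intro χ c hc
      refine (secPart_nest hle hiff (fG w) χ c).trans ?_
      rw [← hfeq, hsum _ fun ψ hψ => by rw [hzero ψ hψ c hc, mul_zero]]
      simp only [g, Finset.sum_mul]
      exact Finset.sum_congr rfl fun θ _ => by rw [hθ θ c hc, ← mul_assoc]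
    refine ⟨hrank', hσ, fun χ => ?_, fun χ ψ => ?_⟩
    · have h := hsec χ 1 hone
      rwa [map_one] at h
    have hreg : ∀ c : cenZ (u w), IsPRegular 2 (φ c) ↔ IsPRegular 2 c := fun c => by
      simp only [IsPRegular, MulEquiv.orderOf_eq]
    have e1 : secInner 2 χ ψ (bel hM hPP w) = g χ w * conj (g ψ w) * S := by
      rw [hS_def, Finset.mul_sum]
      show (∑ c : cenZ (w : G) with IsPRegular 2 c, secPart (w : G) (cenZ (w : G)) (fG w) χ c *
        conj (secPart (w : G) (cenZ (w : G)) (fG w) ψ c)) = _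
      refine (Finset.sum_equiv φ.toEquiv (fun c => ?_) fun c hc => ?_).symm
      · simp [hreg c]
      · have hc' := (Finset.mem_filter.1 hc).2
        rw [show φ.toEquiv c = φ c from rfl, hsec χ c hc', hsec ψ c hc', map_mul]
        ring
    have hcc : Nat.card (cenZ (u w)) = Nat.card (cenZ (w : G)) := Nat.card_congr φ.toEquiv
    rw [e1, ← hcc, ← hS]
    ring
  exact ⟨g, σ, hchar, fun w hle => key w hle⟩

theorem nonempty_columns (hM : IsPModular 2 M) (hmax : IsMaximalBrauerPair 2 M B D eD) (x : D)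
    {P : Subgroup G} (hPeq : D ⊓ cenZ (x : G) = P)
    (hcard : Nat.card P = 2 ^ blockDefect 2 (bel hM hmax.1.1 x).2)
    (hab : ∀ v ∈ P, ∀ w ∈ P, v * w = w * v)
    (hodd : ∀ Q ≤ P.subgroupOf (cenZ (x : G)), ∀ y ∈ Subgroup.normalizer (Q : Set (cenZ (x : G))),
      Odd (orderOf y) → y ∈ Subgroup.centralizer (Q : Set (cenZ (x : G)))) :
    Nonempty (Columns hM hmax.1.1 x P) := by
  obtain ⟨eP, hPP, e', hbel, hmax', hec⟩ := exists_maximal_sub hM hmax x hPeq hcard
  have hPH : P ≤ cenZ (x : G) := hPeq ▸ inf_le_right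
  obtain ⟨g, σ, hchar, key⟩ := exists_nest_columns hM hPH hPP hmax' hec
    (isNilpotent_of_odd hM hmax' hodd) hab
  refine ⟨⟨g, hchar, σ, fun w hw hle => ?_, fun w hle => (key w hle).2.1, fun w hw hle χ => ?_,
    fun w hw hle χ φ => ?_⟩⟩
  · rw [← congrArg (fun a : BElem G => blockRank 2 a.2) (hbel w hw)]
    exact (key w hle).1
  · rw [← congrArg (fun a : BElem G => secPart a.1 (cenZ a.1) a.2 χ 1) (hbel w hw)]
    exact (key w hle).2.2.1 χ
  · rw [classSec, ← congrArg (fun a : BElem G => secInner 2 χ φ a) (hbel w hw)]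
    have h := (key w hle).2.2.2 χ φ
    have h1 : (Nat.card P : ℂ) ≠ 0 := Char.card_ne_zero
    have h2 : (Nat.card (cenZ (w : G)) : ℂ) ≠ 0 := Char.card_ne_zero
    show secInner 2 χ φ (bel hM hPP w) * (Nat.card (cenZ (w : G)) : ℂ)⁻¹ = _
    rw [← div_eq_mul_inv, ← div_eq_mul_inv, div_eq_div_iff h2 h1]
    linear_combination h

namespace Cyc

variable {k : ℕ} {e : ℤ} {a : G} {hM : IsPModular 2 M}

/-- The rotation of order four. -/
def quarter (h : Cyc D k e a) : D := ⟨a ^ 2 ^ (k - 2), D.pow_mem h.a_mem _⟩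

theorem orderOf_quarter (h : Cyc D k e a) : orderOf ((h.quarter : D) : G) = 4 := by
  show orderOf (a ^ 2 ^ (k - 2)) = 4
  rw [orderOf_pow_of_dvd (Nat.two_pow_pos _).ne' (by rw [h.ord_a]; exact pow_dvd_pow 2 (by omega)),
    h.ord_a, Nat.pow_div (by omega) two_pos]
  rw [show k - (k - 2) = 2 by have := h.two_le; omega]
  norm_num

theorem quarter_mem (h : Cyc D k e a) : ((h.quarter : D) : G) ∈ Subgroup.zpowers a :=
  Subgroup.pow_mem _ (Subgroup.mem_zpowers a) _

theorem isRot_quarter (h : Cyc D k e a) : IsRot k a h.quarter := by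
  refine ⟨h.quarter_mem, fun h1 => ?_, fun h1 => ?_⟩
  · have := h.orderOf_quarter; rw [h1, orderOf_one] at this; omega
  · have := h.orderOf_quarter; rw [h1, h.orderOf_z] at this; omega

theorem cenZ_rot_le (h : Cyc D k e a) {w : D} (hw : IsRot k a w) :
    cenZ (w : G) ≤ cenZ ((h.quarter : D) : G) := by
  refine CfsgLib.BrouePuig.centralizer_le_centralizer (Subgroup.zpowers_le.2 ?_)
  obtain ⟨m, -, hm⟩ := (Nat.dvd_prime_pow Nat.prime_two).1
    (h.ord_a ▸ orderOf_dvd_of_mem_zpowers hw.1 : orderOf (w : G) ∣ 2 ^ k)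
  have hm2 : 2 ≤ m := by
    by_contra hlt
    refine h.rot_sq_ne hw ?_
    rw [← pow_two, ← orderOf_dvd_iff_pow_eq_one, hm]
    exact (pow_dvd_pow 2 (show m ≤ 1 by omega)).trans (pow_one 2).dvd
  have ho : orderOf ((w : G) ^ 2 ^ (m - 2)) = orderOf ((h.quarter : D) : G) := by
    rw [h.orderOf_quarter, orderOf_pow_of_dvd (Nat.two_pow_pos _).ne'
      (by rw [hm]; exact pow_dvd_pow 2 (by omega)), hm, Nat.pow_div (by omega) two_pos,
      show m - (m - 2) = 2 by omega]
    norm_num
  have hz := zpowers_eq_of_orderOf_eq (Subgroup.pow_mem _ hw.1 _) h.quarter_mem ho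
  have : ((h.quarter : D) : G) ∈ Subgroup.zpowers ((w : G) ^ 2 ^ (m - 2)) :=
    hz ▸ Subgroup.mem_zpowers _
  exact Subgroup.zpowers_le.2 (Subgroup.pow_mem _ (Subgroup.mem_zpowers _) _) this

theorem zpowers_comm (a : G) : ∀ v ∈ Subgroup.zpowers a, ∀ w ∈ Subgroup.zpowers a, v * w = w * v := by
  intro v hv w hw
  obtain ⟨i, rfl⟩ := Subgroup.mem_zpowers_iff.1 hv
  obtain ⟨j, rfl⟩ := Subgroup.mem_zpowers_iff.1 hw
  rw [← zpow_add, ← zpow_add, add_comm]

/-- The columns at the rotations. -/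
theorem nonempty_rotColumns (h : Cyc D k e a) (hmax : IsMaximalBrauerPair 2 M B D eD) :
    Nonempty (Columns hM hmax.1.1 h.quarter (Subgroup.zpowers a)) := by
  have hr := h.isRot_quarter
  have hPeq : D ⊓ cenZ ((h.quarter : D) : G) = Subgroup.zpowers a :=
    h.inf_centralizer_rot hr.1 hr.2.1 hr.2.2
  refine nonempty_columns hM hmax h.quarter hPeq
    (by rw [Nat.card_zpowers, h.ord_a, h.defect_rot hmax hr]) (zpowers_comm a) ?_
  intro Q hQ y hy hodd
  have hPH : Subgroup.zpowers a ≤ cenZ ((h.quarter : D) : G) := hPeq ▸ inf_le_right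
  refine odd_centralizes_cyclic ?_ ?_ hQ hy hodd
  · exact isCyclic_of_surjective (Subgroup.subgroupOfEquivOfLe hPH).symm.toMonoidHom
      (Subgroup.subgroupOfEquivOfLe hPH).symm.surjective
  · exact IsPGroup.of_equiv (IsPGroup.of_card (n := k) (by rw [Nat.card_zpowers, h.ord_a]))
      (Subgroup.subgroupOfEquivOfLe hPH).symm

/-- The column at an element fused to no element of the cyclic part. -/
theorem nonempty_outColumns (h : Cyc D k e a) (hmax : IsMaximalBrauerPair 2 M B D eD) {x : D}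
    (hx : ¬ Absorbed hM hmax.1.1 a x) :
    Nonempty (Columns hM hmax.1.1 x (D ⊓ cenZ (x : G))) := by
  have hxA : (x : G) ∉ Subgroup.zpowers a := fun hh => hx ⟨x, hh, Fused.refl x⟩
  have hmem : ∀ y ∈ D ⊓ cenZ (x : G),
      y = 1 ∨ y = (x : G) ∨ y = zinv k a ∨ y = (x : G) * zinv k a := by
    intro y hy
    obtain ⟨hyD, hyC⟩ := Subgroup.mem_inf.1 hy
    rw [cenZ_eq, Subgroup.mem_centralizer_singleton_iff] at hyC
    have key : ∀ w ∈ Subgroup.zpowers a, w * (x : G) = (x : G) * w → w = 1 ∨ w = zinv k a := by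
      intro w hw hwx
      obtain ⟨j, rfl⟩ := Subgroup.mem_zpowers_iff.1 hw
      refine h.zpow_fixed ?_
      rw [← h.conj_zpow x.2 hxA j, ← hwx, mul_inv_cancel_right]
    by_cases hyA : y ∈ Subgroup.zpowers a
    · rcases key y hyA hyC with e1 | e1 <;> simp [e1]
    · have hc : Commute ((x : G)⁻¹ * y) (x : G) :=
        Commute.mul_left ((Commute.refl (x : G)).inv_left) hyC
      rcases key _ (h.mul_mem x.2 hyD hxA hyA) hc.eq with e1 | e1
      · exact Or.inr (Or.inl (inv_mul_eq_one.1 e1).symm)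
      · exact Or.inr (Or.inr (Or.inr (by rw [← e1, mul_inv_cancel_left])))
  have hzx : (x : G) * zinv k a = zinv k a * x := h.z_comm x.2
  have hab : ∀ v ∈ D ⊓ cenZ (x : G), ∀ w ∈ D ⊓ cenZ (x : G), v * w = w * v := by
    have c1 : Commute (x : G) (zinv k a) := hzx
    intro v hv w hw
    rcases hmem v hv with rfl | rfl | rfl | rfl <;> rcases hmem w hw with rfl | rfl | rfl | rfl
    all_goals first
      | simp
      | exact c1.eq
      | exact c1.eq.symm
      | exact ((Commute.refl _).mul_right c1).eq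
      | exact ((Commute.refl _).mul_right c1).eq.symm
      | exact (c1.symm.mul_right (Commute.refl _)).eq
      | exact (c1.symm.mul_right (Commute.refl _)).eq.symm
  refine nonempty_columns hM hmax x rfl (by rw [h.card_inf_out hxA, h.defect_out hmax hx]; norm_num)
    hab ?_
  intro Q hQ y hy hodd
  have hxH : (x : G) ∈ cenZ (x : G) := by rw [cenZ_eq, Subgroup.mem_centralizer_singleton_iff]
  have hzH : zinv k a ∈ cenZ (x : G) := by
    rw [cenZ_eq, Subgroup.mem_centralizer_singleton_iff]; exact hzx.symm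
  refine odd_centralizes_four (u := (⟨x, hxH⟩ : cenZ (x : G))) (v := ⟨zinv k a, hzH⟩) ?_ hQ hy ?_
    hodd
  · intro q hq
    rcases hmem _ (Subgroup.mem_subgroupOf.1 hq) with e1 | e1 | e1 | e1
    · exact Or.inl (Subtype.ext e1)
    · exact Or.inr (Or.inl (Subtype.ext e1))
    · exact Or.inr (Or.inr (Or.inl (Subtype.ext e1)))
    · exact Or.inr (Or.inr (Or.inr (Subtype.ext e1)))
  · exact Subtype.ext (Subgroup.mem_centralizer_singleton_iff.1 (cenZ_eq (x : G) ▸ y.2))

end Cyc

end CfsgLib.Blocks.TameDefect
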