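import Cfsg.Agent.Lib.BrouePuig.InertialNested
import Cfsg.Agent.Lib.BrouePuig.LocalRank
import Cfsg.Agent.Lib.BrouePuig.Major
import Cfsg.Agent.Lib.BrauerPairs.NestedPairs
import Cfsg.Agent.Lib.BrauerPairs.Fusion

/-!
# Sections inside the centralizer of an element
-/

set_option autoImplicit false
set_option maxHeartbeats 800000

namespace CfsgLib.Blocks.TameDefect

open Cfsg CfsgLib.Blocks CfsgLib.BrauerPairs CfsgLib.BrouePuig
open scoped Classical ComplexConjugate

universe u

variable {p : ℕ} {M : Ideal AlgInt} {G : Type u} [Group G] [Fintype G]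

/-- In a block of rank one the regular values are proportional to the degrees. -/
theorem regular_prop {K : Type*} [Group K] [Fintype K] (hp : p.Prime)
    {f : Set (IrrCharacter K)} (h1 : blockRank p f = 1) {ψ θ : IrrCharacter K} (hψ : ψ ∈ f)
    (hθ : θ ∈ f) {c : K} (hc : ¬ p ∣ orderOf c) :
    (ψ : K → ℂ) c * (θ : K → ℂ) 1 = (θ : K → ℂ) c * (ψ : K → ℂ) 1 := by
  set v : IrrCharacter K → (K → ℂ) := fun χ => pRegularPart p (χ : K → ℂ)
  set S := Submodule.span ℂ (v '' f)
  have h1' : Module.finrank ℂ S = 1 := h1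
  have hone : IsPRegular p (1 : K) := by
    rw [IsPRegular, orderOf_one]; exact hp.not_dvd_one
  have hval : ∀ χ : IrrCharacter K, ∀ x : K, IsPRegular p x → v χ x = (χ : K → ℂ) x :=
    fun χ x hx => by simp only [v, pRegularPart_apply, if_pos hx]
  have hne : (⟨v θ, Submodule.subset_span ⟨θ, hθ, rfl⟩⟩ : S) ≠ 0 := fun h => by
    have h' : v θ 1 = 0 := congrFun (congrArg Subtype.val h) 1
    rw [hval θ 1 hone] at h'
    exact irr_one_ne_zero θ h'
  obtain ⟨r, hr⟩ := (finrank_eq_one_iff_of_nonzero' _ hne).1 h1'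
    ⟨v ψ, Submodule.subset_span ⟨ψ, hψ, rfl⟩⟩
  have hr' : ∀ x, r * v θ x = v ψ x := fun x => congrFun (congrArg Subtype.val hr) x
  have e1 := hr' c
  have e2 := hr' 1
  rw [hval θ c hc, hval ψ c hc] at e1
  rw [hval θ 1 hone, hval ψ 1 hone] at e2
  rw [← e1, ← e2]
  ring

/-- The contributions of a block of rank one are multiples of one function. -/
theorem secPart_prop (hp : p.Prime) {x : G} {K : Subgroup G}
    (hK : K = Subgroup.centralizer ({x} : Set G)) {f : Set (IrrCharacter K)}
    (h1 : blockRank p f = 1) (χ : IrrCharacter G) {θ : IrrCharacter K} (hθ : θ ∈ f) {c : K}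
    (hc : ¬ p ∣ orderOf c) :
    secPart x K f χ c * (θ : K → ℂ) 1 = secPart x K f χ 1 * (θ : K → ℂ) c := by
  have hx : x ∈ K := by rw [hK, Subgroup.mem_centralizer_singleton_iff]
  have hz : (⟨x, hx⟩ : K) ∈ Subgroup.center K := by
    rw [Subgroup.mem_center_iff]
    intro d
    exact Subtype.ext (Subgroup.mem_centralizer_singleton_iff.1 (hK ▸ d.2))
  rw [secPart_eq_sum_mult (z := ⟨x, hx⟩) rfl hz, secPart_eq_sum_mult (z := ⟨x, hx⟩) rfl hz,
    Finset.sum_mul, Finset.sum_mul]
  refine Finset.sum_congr rfl fun ψ _ => ?_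
  by_cases h : ψ ∈ f
  · have := regular_prop hp h1 h hθ hc
    linear_combination (blockInd f ψ * (resMult χ ψ * centScalar ψ (⟨x, hx⟩ : K))) * this
  · rw [blockInd_of_notMem h]; ring

/-- A subpair of a subgroup is a subpair of the group. -/
theorem below_nest (hM : IsPModular p M) {H : Subgroup G} {Q R : Subgroup G} {Q' R' : Subgroup H}
    (hQ : Q'.map H.subtype = Q) (hR : R'.map H.subtype = R)
    (hC : Subgroup.centralizer (Q : Set G) ≤ H)
    {f : Set (IrrCharacter (Subgroup.centralizer (Q : Set G)))} (hf : IsPBlock M f)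
    {e : Set (IrrCharacter (Subgroup.centralizer (R : Set G)))}
    {f' : Set (IrrCharacter (Subgroup.centralizer (Q' : Set H)))}
    {e' : Set (IrrCharacter (Subgroup.centralizer (R' : Set H)))}
    (hfc : ∀ x : H, subgroupBlockCoeff (Subgroup.centralizer (Q' : Set H)) f' x
      = subgroupBlockCoeff (Subgroup.centralizer (Q : Set G)) f (x : G))
    (hec : ∀ x : H, subgroupBlockCoeff (Subgroup.centralizer (R' : Set H)) e' x
      = subgroupBlockCoeff (Subgroup.centralizer (R : Set G)) e (x : G))
    (h : SubpairLE p M Q' f' R' e') : SubpairLE p M Q f R e := by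
  subst hQ
  subst hR
  exact subpairLE_lift hM hC hf hfc hec h

/-- A normal overpair is a pair of the block of the stabilizer. -/
theorem pairOf_nest {H : Subgroup G} {Q R : Subgroup G} {R' : Subgroup H}
    (hR : R'.map H.subtype = R)
    {f : Set (IrrCharacter (Subgroup.centralizer (Q : Set G)))} (hS : StabHyp p M Q H f)
    {F : Set (IrrCharacter H)} (hF : IsPBlock M F)
    (hFc : ∀ t : H, blockCoeff F t
      = subgroupBlockCoeff (Subgroup.centralizer (Q : Set G)) f (t : G))
    {e : Set (IrrCharacter (Subgroup.centralizer (R : Set G)))}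
    {e' : Set (IrrCharacter (Subgroup.centralizer (R' : Set H)))} (he' : IsPBlock M e')
    (hec : ∀ x : H, subgroupBlockCoeff (Subgroup.centralizer (R' : Set H)) e' x
      = subgroupBlockCoeff (Subgroup.centralizer (R : Set G)) e (x : G))
    (h : IsNormalSubpair p M Q f R e) : IsBrauerPairOf p M F R' e' := by
  subst hR
  have hp : IsPGroup p R' := h.2.1.1.of_injective
    (R'.equivMapOfInjective _ H.subtype_injective).toMonoidHom
    (R'.equivMapOfInjective _ H.subtype_injective).injective
  exact (isBrauerPairOf_stab_iff hS hF hFc hp h.2.2.1 he' h.2.1.2 hec).2 h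

/-- The block of `C(z)` below a maximal pair with `z` central in the defect group, and the maximal
pair of that block over the given one. -/
theorem exists_maximal_nest [Fact p.Prime] (hM : IsPModular p M) {B : Set (IrrCharacter G)}
    {D : Subgroup G} {e : Set (IrrCharacter (Subgroup.centralizer (D : Set G)))}
    (hmax : IsMaximalBrauerPair p M B D e) (z : D) (hDz : D ≤ cenZ (z : G)) :
    blockDefect p (bel hM hmax.1.1 z).2 = blockDefect p B ∧
    ∃ e' : Set (IrrCharacter (Subgroup.centralizer
        (D.subgroupOf (cenZ (z : G)) : Set (cenZ (z : G))))),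
      IsMaximalBrauerPair p M (B := ((bel hM hmax.1.1 z).2 : Set (IrrCharacter (cenZ (z : G)))))
        (D.subgroupOf (cenZ (z : G))) e' ∧
      ∀ x : cenZ (z : G), subgroupBlockCoeff
          (Subgroup.centralizer (D.subgroupOf (cenZ (z : G)) : Set (cenZ (z : G)))) e' x
        = subgroupBlockCoeff (Subgroup.centralizer (D : Set G)) e (x : G) := by
  set hP := hmax.1.1
  have hB : IsPBlock M B := hmax.1.2.1
  have hD := isDefectGroup_of_isMaximal hM hmax
  have hle : SubpairLE p M (Subgroup.zpowers (z : G)) (bel hM hP z).2 D e := bel_below hM hP z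
  have hel : IsElemOf p M B (bel hM hP z) := isElemOf_of_below hM hmax (bel_below hM hP z)
  have hind := (isBrauerPairOf_iff_induced hM hel.1.1 hel.1.2).1 hel
  have hinf : (D ⊓ Subgroup.centralizer ((Subgroup.zpowers (z : G) : Subgroup G) : Set G) :
      Subgroup G) = D := inf_eq_left.2 hDz
  have hzd : blockDefect p (bel hM hP z).2 = blockDefect p B := by
    refine le_antisymm (blockDefect_le_of_induced hM hind) ?_
    have h := card_centralizerIn_le hM hP hle
    rw [hinf, card_defectGroup hM hB hD] at h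
    exact (Nat.pow_le_pow_iff_right hM.1.one_lt).1 h
  refine ⟨hzd, ?_⟩
  have hD' := (isDefectGroup_centralizer_iff hM hP hle).2 (by
    rw [hinf, card_defectGroup hM hB hD]
    exact congrArg (p ^ ·) hzd.symm)
  rw [hinf] at hD'
  have hcd : Subgroup.centralizer (D : Set G) ≤ cenZ (z : G) :=
    CfsgLib.BrouePuig.centralizer_le_centralizer (Subgroup.zpowers_le.2 z.2)
  obtain ⟨e', he', hec⟩ := exists_block_nested hcd
    (coe_mem_centralizer_iff (R := D.subgroupOf (cenZ (z : G)))
      (Subgroup.map_subgroupOf_eq_of_le hDz)) hP.2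
  refine ⟨e', isMaximal_of_defectGroup hM hD' ?_, hec⟩
  have hpair : IsBrauerPair p M (Subgroup.zpowers (z : G)) (bel hM hP z).2 :=
    isBrauerPair_of_subpairLE hle hP
  refine pairOf_nest (Subgroup.map_subgroupOf_eq_of_le hDz)
    ⟨hpair, fun w hw => ?_, le_rfl, Subgroup.centralizer_le_normalizer _,
      fun t ht => bc_fixes_of_mem ht _⟩
    hel.1.2 (fun t => (bc_coe _ _ t).symm) he' hec
    (normal_of_subpairLE hM hP hle (hDz.trans (Subgroup.centralizer_le_normalizer _)))
  obtain ⟨i, rfl⟩ := Subgroup.mem_zpowers_iff.1 hw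
  refine Subgroup.zpow_mem _ ?_ i
  rw [cenZ_eq, Subgroup.mem_centralizer_singleton_iff]

/-- The Brauer elements below the nested pair are the nested Brauer elements. -/
theorem bc_bel_nest [Fact p.Prime] (hM : IsPModular p M) {D H : Subgroup G} (hDH : D ≤ H)
    {e : Set (IrrCharacter (Subgroup.centralizer (D : Set G)))} (hP : IsBrauerPair p M D e)
    {e' : Set (IrrCharacter (Subgroup.centralizer (D.subgroupOf H : Set H)))}
    (hP' : IsBrauerPair p M (D.subgroupOf H) e')
    (hec : ∀ x : H, subgroupBlockCoeff (Subgroup.centralizer (D.subgroupOf H : Set H)) e' x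
      = subgroupBlockCoeff (Subgroup.centralizer (D : Set G)) e (x : G))
    (w : D) (hw : cenZ (w : G) ≤ H) (x : H) :
    subgroupBlockCoeff (cenZ (⟨(w : G), hDH w.2⟩ : H))
        (bel hM hP' (⟨⟨(w : G), hDH w.2⟩, w.2⟩ : D.subgroupOf H)).2 x
      = subgroupBlockCoeff (cenZ (w : G)) (bel hM hP w).2 (x : G) := by
  set w' : D.subgroupOf H := ⟨⟨(w : G), hDH w.2⟩, w.2⟩
  have hmapQ : (Subgroup.zpowers (w' : H)).map H.subtype = Subgroup.zpowers (w : G) := by
    rw [MonoidHom.map_zpowers]; rfl
  have hb' : IsPBlock M (bel hM hP' w').2 :=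
    (isBrauerPair_of_subpairLE (bel_below hM hP' w') hP').2
  obtain ⟨f₁, hf₁, hf₁c⟩ := exists_block_unnested hw (coe_mem_centralizer_iff hmapQ) hb'
  have hle := below_nest hM hmapQ (Subgroup.map_subgroupOf_eq_of_le hDH) hw hf₁ hf₁c hec
    (bel_below hM hP' w')
  have heq : f₁ = (bel hM hP w).2 :=
    (existsUnique_below hM hP (Subgroup.zpowers_le.2 w.2)).unique hle (bel_below hM hP w)
  rw [← heq]
  exact hf₁c x

/-- A contribution in terms of the contributions inside an intermediate subgroup. -/
theorem secPart_nest {H : Subgroup G} {u : H} (hle : cenZ (u : G) ≤ H)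
    (h : ∀ x : H, (x : G) ∈ cenZ (u : G) ↔ x ∈ cenZ u) (f : Set (IrrCharacter (cenZ (u : G))))
    (χ : IrrCharacter G) (c : cenZ u) :
    secPart (u : G) (cenZ (u : G)) f χ (nestIso hle h c)
      = ∑ ψ : IrrCharacter H, resMult χ ψ *
          secPart u (cenZ u) (irrEquiv (nestIso hle h) '' f) ψ c := by
  set φ := nestIso hle h
  have hexp : ∀ x : H, (χ : G → ℂ) (x : G)
      = ∑ ψ : IrrCharacter H, resMult χ ψ * (ψ : H → ℂ) x := by
    intro x
    have h := congrFun (Char.IsClassFunction.eq_sum_irr (ψ := fun k : H => (χ : G → ℂ) (k : G))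
      fun k v => by
        show (χ : G → ℂ) ((v * k * v⁻¹ : H) : G) = _
        rw [Subgroup.coe_mul, Subgroup.coe_mul, Subgroup.coe_inv, irr_conj_apply]) x
    rw [Finset.sum_apply] at h
    simpa [resMult] using h
  simp only [secPart, blockPart_eq_sum, Finset.mul_sum]
  rw [Finset.sum_comm]
  refine Fintype.sum_equiv (irrEquiv φ) _ _ fun η => ?_
  have hb : blockInd (irrEquiv φ '' f) (irrEquiv φ η) = blockInd f η := by
    unfold blockInd
    exact if_congr (irrEquiv φ).injective.mem_set_image rfl rfl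
  have hin : classInner (fun d : cenZ (u : G) => (χ : G → ℂ) ((u : G) * (d : G))) (η : _ → ℂ)
      = ∑ ψ : IrrCharacter H, resMult χ ψ *
          classInner (fun d : cenZ u => (ψ : H → ℂ) (u * (d : H))) (irrEquiv φ η : _ → ℂ) := by
    simp only [Cfsg.classInner, Finset.mul_sum]
    rw [Finset.sum_comm]
    refine (Fintype.sum_equiv φ.toEquiv _ _ fun d => ?_).symm
    rw [Nat.card_congr φ.toEquiv, MulEquiv.toEquiv_eq_coe, EquivLike.coe_coe, irrEquiv_apply,
      show (u : G) * ((φ d : cenZ (u : G)) : G) = ((u * (d : H) : H) : G) from rfl, hexp,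
      Finset.sum_mul, Finset.mul_sum]
    exact Finset.sum_congr rfl fun ψ _ => by ring
  rw [hb, hin, Finset.sum_mul, Finset.mul_sum]
  refine Finset.sum_congr rfl fun ψ _ => ?_
  rw [irrEquiv_apply]
  ring

/-- The kernel of a transported block. -/
theorem blockKernel_image {K K' : Type*} [Group K] [Group K'] [Fintype K] [Fintype K']
    (φ : K ≃* K') (e : Set (IrrCharacter K')) (c s : K) :
    blockKernel (irrEquiv φ '' e) c s = blockKernel e (φ c) (φ s) := by
  unfold blockKernel
  refine (Fintype.sum_equiv (irrEquiv φ) _ _ fun ψ => ?_).symm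
  have hb : blockInd (irrEquiv φ '' e) (irrEquiv φ ψ) = blockInd e ψ := by
    unfold blockInd
    exact if_congr (irrEquiv φ).injective.mem_set_image rfl rfl
  rw [hb, irrEquiv_apply, irrEquiv_apply, map_inv]

/-- Centralizers of elements corresponding under an isomorphism. -/
theorem card_centralizer_equiv {K K' : Type*} [Group K] [Group K'] (φ : K ≃* K') (x : K) :
    Nat.card (Subgroup.centralizer ({φ x} : Set K'))
      = Nat.card (Subgroup.centralizer ({x} : Set K)) :=
  (Nat.card_congr (Equiv.subtypeEquiv φ.toEquiv fun y => by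
    simp [Subgroup.mem_centralizer_singleton_iff, ← map_mul, φ.injective.eq_iff])).symm

end CfsgLib.Blocks.TameDefect
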