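import Cfsg.Agent.Lib.Blocks.TameDefect.CycShape
import Cfsg.Agent.Lib.Blocks.TameDefect.Nested
import Cfsg.Agent.Lib.Blocks.TameDefect.DihedralRank

/-!
# The fusion classes of a defect group with a cyclic subgroup of index two

Representatives of the classes of Brauer elements below a maximal pair, the sum over the Brauer
elements of a block by these classes, and the fully centralized elements.
-/

set_option autoImplicit false
set_option maxHeartbeats 800000

namespace CfsgLib.Blocks.TameDefect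

open Cfsg CfsgLib.Blocks CfsgLib.BrauerPairs CfsgLib.BrouePuig
open scoped Classical ComplexConjugate

universe u

section General

variable {p : ℕ} [Fact p.Prime] {G : Type u} [Group G] [Fintype G] {M : Ideal AlgInt}
  {B : Set (IrrCharacter G)} {D : Subgroup G}
  {eD : Set (IrrCharacter (Subgroup.centralizer (D : Set G)))}

/-- Two elements of the defect group fused in the block. -/
def Fused (hM : IsPModular p M) (hP : IsBrauerPair p M D eD) (x y : D) : Prop :=
  ∃ g : G, act g (bel hM hP x) = bel hM hP y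

variable {hM : IsPModular p M} {hP : IsBrauerPair p M D eD}

theorem Fused.refl (x : D) : Fused hM hP x x := ⟨1, act_one _⟩

theorem Fused.symm {x y : D} (h : Fused hM hP x y) : Fused hM hP y x := by
  obtain ⟨g, hg⟩ := h
  exact ⟨g⁻¹, by rw [← hg, act_inv_act]⟩

theorem Fused.trans {x y w : D} (h : Fused hM hP x y) (h' : Fused hM hP y w) :
    Fused hM hP x w := by
  obtain ⟨g, hg⟩ := h
  obtain ⟨g', hg'⟩ := h'
  exact ⟨g' * g, by rw [act_mul, hg, hg']⟩

theorem Fused.conj_eq {x y : D} (h : Fused hM hP x y) : ∃ g : G, g * (x : G) * g⁻¹ = y := by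
  obtain ⟨g, hg⟩ := h
  exact ⟨g, congrArg Sigma.fst hg⟩

theorem Fused.orderOf_eq {x y : D} (h : Fused hM hP x y) : orderOf (y : G) = orderOf (x : G) := by
  obtain ⟨g, hg⟩ := h.conj_eq
  rw [← hg]
  exact MulEquiv.orderOf_eq (MulAut.conj g) (x : G)

theorem fused_conj (v x : D) : Fused hM hP x (v * x * v⁻¹) := ⟨(v : G), act_bel hM hP v x⟩

/-- Fusion in the sense of the fusion system. -/
theorem fused_of_moves {x : D} {g : G} (hmv : Moves p M D eD (Subgroup.zpowers (x : G)) g) :
    ∃ hy : g * (x : G) * g⁻¹ ∈ D, Fused hM hP x ⟨_, hy⟩ := by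
  obtain ⟨f, hf, hgf⟩ := hmv
  have hgD : g * (x : G) * g⁻¹ ∈ D := hgf.le ⟨x, Subgroup.mem_zpowers _, rfl⟩
  refine ⟨hgD, g, eq_bel hM hP ?_ _ rfl⟩
  rw [pair_act, ← Below.eq hM hP hf (bel_below hM hP x) rfl]
  exact hgf

/-- A function constant on the classes of fused elements is stable. -/
theorem stable_of_fused (hM : IsPModular p M) (hP : IsBrauerPair p M D eD) {ζ : D → ℂ}
    (h : ∀ x y : D, Fused hM hP x y → ζ y = ζ x) : Stable p M D eD ζ := by
  intro w w' g hmv hw
  obtain ⟨hy, hf⟩ := fused_of_moves (hM := hM) (hP := hP) hmv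
  rw [show w' = ⟨_, hy⟩ from Subtype.ext hw.symm]
  exact h _ _ hf

/-- The order of the defect group of an element whose centralizer in `D` is largest in its class. -/
theorem card_inf_cenZ (hM : IsPModular p M) (hmax : IsMaximalBrauerPair p M B D eD) (x : D)
    (h : ∀ y : D, Fused hM hmax.1.1 x y →
      Nat.card (D ⊓ cenZ (y : G) : Subgroup G) ≤ Nat.card (D ⊓ cenZ (x : G) : Subgroup G)) :
    Nat.card (D ⊓ cenZ (x : G) : Subgroup G) = p ^ blockDefect p (bel hM hmax.1.1 x).2 := by
  have hF := isBlockFusionSystemOn_blockFusion hM hmax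
  have hle : SubpairLE p M (Subgroup.zpowers (x : G)) (bel hM hmax.1.1 x).2 D eD :=
    bel_below hM hmax.1.1 x
  refine (isFullyCentralized_iff hM hF hle).1 ⟨Subgroup.zpowers_le.2 x.2, fun R hR => ?_⟩
  obtain ⟨-, g, hmv, rfl⟩ := (isConj_iff_moves hF).1 hR
  obtain ⟨hy, hf⟩ := fused_of_moves (hM := hM) (hP := hmax.1.1) hmv
  rw [map_conj_zpowers]
  have h2 := h _ hf
  unfold Cfsg.FusionSystem.centralizerIn
  exact h2

/-- The maximal pair of the block at an element over the pair below on its centralizer in `D`. -/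
theorem exists_maximal_sub (hM : IsPModular p M) (hmax : IsMaximalBrauerPair p M B D eD) (x : D)
    {P : Subgroup G} (hPeq : D ⊓ cenZ (x : G) = P)
    (hcard : Nat.card P = p ^ blockDefect p (bel hM hmax.1.1 x).2) :
    ∃ (eP : Set (IrrCharacter (Subgroup.centralizer (P : Set G)))) (hPP : IsBrauerPair p M P eP)
      (e' : Set (IrrCharacter (Subgroup.centralizer
        (P.subgroupOf (cenZ (x : G)) : Set (cenZ (x : G)))))),
      (∀ (w : P) (hw : (w : G) ∈ D), bel hM hPP w = bel hM hmax.1.1 ⟨(w : G), hw⟩) ∧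
      IsMaximalBrauerPair p M (B := ((bel hM hmax.1.1 x).2 : Set (IrrCharacter (cenZ (x : G)))))
        (P.subgroupOf (cenZ (x : G))) e' ∧
      ∀ c : cenZ (x : G), subgroupBlockCoeff
          (Subgroup.centralizer (P.subgroupOf (cenZ (x : G)) : Set (cenZ (x : G)))) e' c
        = subgroupBlockCoeff (Subgroup.centralizer (P : Set G)) eP (c : G) := by
  set hP := hmax.1.1
  have hPD : P ≤ D := hPeq ▸ inf_le_left
  have hPC : P ≤ cenZ (x : G) := hPeq ▸ inf_le_right
  have hxP : (x : G) ∈ P := by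
    rw [← hPeq]
    refine Subgroup.mem_inf.2 ⟨x.2, ?_⟩
    rw [cenZ_eq, Subgroup.mem_centralizer_singleton_iff]
  obtain ⟨eP, heP, -⟩ := existsUnique_below hM hP hPD
  have hPP : IsBrauerPair p M P eP := isBrauerPair_of_subpairLE heP hP
  have hbel : ∀ (w : P) (hw : (w : G) ∈ D), bel hM hPP w = bel hM hP ⟨(w : G), hw⟩ :=
    fun w hw => eq_bel hM hP (subpairLE_trans (bel_below hM hPP w) heP) _ rfl
  have hle : SubpairLE p M (Subgroup.zpowers (x : G)) (bel hM hP x).2 D eD := bel_below hM hP x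
  have hle' : Below p M P eP (bel hM hP x).pair := hbel ⟨x, hxP⟩ x.2 ▸ bel_below hM hPP ⟨x, hxP⟩
  have hel : IsElemOf p M B (bel hM hP x) := isElemOf_of_below hM hmax (bel_below hM hP x)
  have hD' := (isDefectGroup_centralizer_iff hM hP hle).2 (by rw [show (D ⊓ Subgroup.centralizer ((Subgroup.zpowers (x : G) : Subgroup G) : Set G)) = P from hPeq]; exact hcard)
  rw [show (D ⊓ Subgroup.centralizer ((Subgroup.zpowers (x : G) : Subgroup G) : Set G)) = P
    from hPeq] at hD'
  have hcd : Subgroup.centralizer (P : Set G) ≤ cenZ (x : G) :=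
    CfsgLib.BrouePuig.centralizer_le_centralizer (Subgroup.zpowers_le.2 hxP)
  obtain ⟨e', he', hec⟩ := exists_block_nested hcd
    (coe_mem_centralizer_iff (R := P.subgroupOf (cenZ (x : G)))
      (Subgroup.map_subgroupOf_eq_of_le hPC)) hPP.2
  refine ⟨eP, hPP, e', hbel, isMaximal_of_defectGroup hM hD' ?_, hec⟩
  have hpair : IsBrauerPair p M (Subgroup.zpowers (x : G)) (bel hM hP x).2 :=
    isBrauerPair_of_subpairLE hle hP
  refine pairOf_nest (Subgroup.map_subgroupOf_eq_of_le hPC)
    ⟨hpair, fun w hw => ?_, le_rfl, Subgroup.centralizer_le_normalizer _,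
      fun t ht => bc_fixes_of_mem ht _⟩
    hel.1.2 (fun t => (bc_coe _ _ t).symm) he' hec
    (normal_of_subpairLE hM hPP hle' (hPC.trans (Subgroup.centralizer_le_normalizer _)))
  obtain ⟨i, rfl⟩ := Subgroup.mem_zpowers_iff.1 hw
  refine Subgroup.zpow_mem _ ?_ i
  rw [cenZ_eq, Subgroup.mem_centralizer_singleton_iff]

/-- A sum over the Brauer elements of a block by classes of fused elements. -/
theorem sum_elems_reps (hM : IsPModular p M) (hmax : IsMaximalBrauerPair p M B D eD) (T : Finset D)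
    (cover : ∀ w : D, ∃ t ∈ T, Fused hM hmax.1.1 w t)
    (inj : ∀ t ∈ T, ∀ t' ∈ T, Fused hM hmax.1.1 t t' → t = t') (F : BElem G → ℂ)
    (hF : ∀ y a, IsElemOf p M B a → F (act y a) = F a) :
    ∑ a : BElem G with IsElemOf p M B a, F a
      = ∑ t ∈ T, (Nat.card G : ℂ) * (Nat.card (cenZ (t : G)) : ℂ)⁻¹ * F (bel hM hmax.1.1 t) := by
  set hP := hmax.1.1
  let O : D → Finset (BElem G) := fun t =>
    (Finset.univ : Finset G).image fun y => act y (bel hM hP t)
  have hel : ∀ t : D, IsElemOf p M B (bel hM hP t) := fun t =>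
    isElemOf_of_below hM hmax (bel_below hM hP t)
  have hset : (Finset.univ.filter fun a : BElem G => IsElemOf p M B a) = T.biUnion O := by
    ext a
    simp only [Finset.mem_filter, Finset.mem_univ, true_and, Finset.mem_biUnion, O,
      Finset.mem_image]
    constructor
    · intro ha
      obtain ⟨x, hx⟩ := (exists_below_iff hM hmax a).2 ha
      obtain ⟨t, ht, g, hg⟩ := cover ⟨x * a.1 * x⁻¹, mem_of_below_act hx⟩
      have hb : act x a = bel hM hP ⟨x * a.1 * x⁻¹, mem_of_below_act hx⟩ := eq_bel hM hP hx _ rfl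
      refine ⟨t, ht, (g * x)⁻¹, ?_⟩
      rw [← hg, ← hb, ← act_mul g x, act_inv_act]
    · rintro ⟨t, -, y, rfl⟩
      exact isElemOf_act y (hel t)
  rw [hset, Finset.sum_biUnion]
  swap
  · intro t ht t' ht' hne
    rw [Function.onFun, Finset.disjoint_left]
    intro a ha ha'
    obtain ⟨y, -, rfl⟩ := Finset.mem_image.1 ha
    obtain ⟨y', -, hy'⟩ := Finset.mem_image.1 ha'
    refine hne (inj t ht t' ht' ⟨y'⁻¹ * y, ?_⟩)
    rw [act_mul, ← hy', act_inv_act]
  refine Finset.sum_congr rfl fun t _ => ?_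
  rw [Finset.sum_congr rfl (g := fun _ => F (bel hM hP t)) fun a ha => by
    obtain ⟨y, -, rfl⟩ := Finset.mem_image.1 ha
    exact hF y _ (hel t), Finset.sum_const, nsmul_eq_mul]
  congr 1
  have hcard : (O t).card * Nat.card (cenZ (t : G)) = Nat.card G := by
    rw [Nat.card_eq_fintype_card (α := G), ← Finset.card_univ,
      Finset.card_eq_sum_card_image (fun y => act y (bel hM hP t)) Finset.univ,
      Finset.sum_const_nat (m := Nat.card (cenZ (t : G))) fun a ha => ?_]
    obtain ⟨y, -, rfl⟩ := Finset.mem_image.1 ha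
    rw [Nat.card_eq_fintype_card, ← Finset.card_univ]
    symm
    refine Finset.card_bij (fun c _ => y * (c : G)) (fun c _ => ?_) (fun c _ d _ h => ?_)
      fun x hx => ?_
    · refine Finset.mem_filter.2 ⟨Finset.mem_univ _, ?_⟩
      have hc : Commute (c : G) (t : G) :=
        Subgroup.mem_centralizer_singleton_iff.1 (cenZ_eq (t : G) ▸ c.2)
      rw [act_mul, act_bel_of_centralizer hM hP t hc]
    · exact Subtype.ext (mul_left_cancel h)
    · refine ⟨⟨y⁻¹ * x, ?_⟩, Finset.mem_univ _, by simp⟩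
      have h := congrArg (act y⁻¹) (Finset.mem_filter.1 hx).2
      rw [act_inv_act, ← act_mul] at h
      have h1 : y⁻¹ * x * (t : G) * (y⁻¹ * x)⁻¹ = (t : G) := congrArg Sigma.fst h
      rw [cenZ_eq, Subgroup.mem_centralizer_singleton_iff]
      exact mul_inv_eq_iff_eq_mul.1 h1
  rw [← hcard, Nat.cast_mul, mul_inv_cancel_right₀ Char.card_ne_zero]

/-- The contribution of a class. -/
noncomputable def classSec (hM : IsPModular p M) (hP : IsBrauerPair p M D eD) (t : D)
    (χ φ : IrrCharacter G) : ℂ :=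
  secInner p χ φ (bel hM hP t) * (Nat.card (cenZ (t : G)) : ℂ)⁻¹

variable (hmax : IsMaximalBrauerPair p M B D eD) {T : Finset D}
  (cover : ∀ w : D, ∃ t ∈ T, Fused hM hmax.1.1 w t)
  (inj : ∀ t ∈ T, ∀ t' ∈ T, Fused hM hmax.1.1 t t' → t = t')

include cover inj in
theorem classInner_eq_sum {η : D → ℂ} (hη : Stable p M D eD η) {χ φ : IrrCharacter G}
    (hφ : φ ∈ B) :
    classInner (star hM (etaOf p M D eD η) χ) (φ : G → ℂ)
      = ∑ t ∈ T, η t * classSec hM hmax.1.1 t χ φ := by
  rw [← star_etaOf_one (hM := hM) hmax hφ, classInner_etaOf hmax,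
    sum_elems_reps hM hmax T cover inj _ fun y a ha => by
      rw [etaOf_act hη, etaOf_act (stable_const 1), secInner_act hM χ φ y ha.1.2],
    Finset.mul_sum]
  refine Finset.sum_congr rfl fun t _ => ?_
  rw [etaOf_bel hM hmax.1.1 hη, etaOf_bel hM hmax.1.1 (stable_const 1), map_one, classSec]
  have hG : (Nat.card G : ℂ) ≠ 0 := Char.card_ne_zero
  field_simp

include cover inj in
theorem sum_classSec_int {η : D → ℂ} (hη : Stable p M D eD η)
    (hgen : IsGeneralizedCharacter D η) {χ φ : IrrCharacter G} (hφ : φ ∈ B) :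
    ∃ m : ℤ, ∑ t ∈ T, η t * classSec hM hmax.1.1 t χ φ = m := by
  obtain ⟨m, hm⟩ := Char.IsGeneralizedCharacter.classInner_int
    (star_isGen (hM := hM) (etaOf_compatible hM hmax hη hgen) χ)
    (Char.IsCharacter.isGeneralizedCharacter (Char.isCharacter_irr φ))
  exact ⟨m, by rw [← classInner_eq_sum hmax cover inj hη hφ, hm]⟩

include cover inj in
theorem sum_classSec {χ φ : IrrCharacter G} (hχ : χ ∈ B) (hφ : φ ∈ B) :
    ∑ t ∈ T, classSec hM hmax.1.1 t χ φ = if χ = φ then 1 else 0 := by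
  have h := classInner_eq_sum hmax cover inj (η := fun _ => (1 : ℂ)) (stable_const 1) (χ := χ) hφ
  rw [star_etaOf_one hmax hχ, Char.classInner_irrCharacter] at h
  rw [h]
  exact Finset.sum_congr rfl fun t _ => (one_mul _).symm

theorem classSec_eq_zero {t : D} {χ : IrrCharacter G} (hχ : χ ∉ B) (φ : IrrCharacter G) :
    classSec hM hmax.1.1 t χ φ = 0 := by
  have hel : IsElemOf p M B (bel hM hmax.1.1 t) :=
    isElemOf_of_below hM hmax (bel_below hM hmax.1.1 t)
  rw [classSec, secInner, Finset.sum_eq_zero fun c hc => ?_, zero_mul]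
  rw [secPart_eq_zero_of_notMem hM (cenZ_eq _) (mem_elems.1 (hel.mem hM.1)).1
    ((isBrauerPairOf_iff_induced hM hel.1.1 hel.1.2).1 hel) hχ (Finset.mem_filter.1 hc).2, zero_mul]

/-- The trace of a class is the rank of its block. -/
theorem sum_classSec_self (t : D) :
    ∑ χ : IrrCharacter G with χ ∈ B, classSec hM hmax.1.1 t χ χ
      = (blockRank p (bel hM hmax.1.1 t).2 : ℂ) := by
  rw [Finset.sum_filter_of_ne (fun χ _ h => by
    by_contra hχ; exact h (classSec_eq_zero hmax hχ χ))]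
  simp only [classSec, ← Finset.sum_mul]
  have hel := isElemOf_of_below hM hmax (bel_below hM hmax.1.1 t)
  have h0 : ∀ χ, χ ∉ B → secInner p χ χ (bel hM hmax.1.1 t) = 0 := fun χ hχ => by
    rw [secInner]
    refine Finset.sum_eq_zero fun c hc => ?_
    rw [secPart_eq_zero_of_notMem hM (cenZ_eq _) (mem_elems.1 (hel.mem hM.1)).1
      ((isBrauerPairOf_iff_induced hM hel.1.1 hel.1.2).1 hel) hχ (Finset.mem_filter.1 hc).2,
      zero_mul]
  rw [← Finset.sum_subset (Finset.subset_univ B.toFinset) (fun χ _ hχ => h0 χ fun h =>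
    hχ (Set.mem_toFinset.2 h)), sum_secInner hM hel]
  have : (Nat.card (cenZ (t : G)) : ℂ) ≠ 0 := Char.card_ne_zero
  show (Nat.card (cenZ (t : G)) : ℂ) * _ * _ = _
  field_simp

include cover inj in
theorem card_eq_sum_rank :
    Nat.card B = ∑ t ∈ T, blockRank p (bel hM hmax.1.1 t).2 := by
  apply Nat.cast_injective (R := ℂ)
  rw [Nat.cast_sum, Finset.sum_congr rfl fun t _ => (sum_classSec_self hmax t).symm,
    Finset.sum_comm, Finset.sum_congr rfl (g := fun _ => (1 : ℂ)) fun χ hχ => by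
      rw [sum_classSec hmax cover inj (Finset.mem_filter.1 hχ).2 (Finset.mem_filter.1 hχ).2,
        if_pos rfl], Finset.sum_const, nsmul_one, Nat.card_eq_fintype_card, Fintype.card_subtype]

end General

namespace Cyc

variable {G : Type u} [Group G] {D : Subgroup G} {k : ℕ} {e : ℤ} {a : G}

/-- The rotations other than the central ones. -/
def IsRot (k : ℕ) (a : G) (w : D) : Prop :=
  (w : G) ∈ Subgroup.zpowers a ∧ (w : G) ≠ 1 ∧ (w : G) ≠ zinv k a

theorem rot_sq_ne (h : Cyc D k e a) {w : D} (hw : IsRot k a w) : (w : G) * w ≠ 1 := fun h2 =>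
  (h.eq_of_sq_zpowers hw.1 h2).elim hw.2.1 hw.2.2

theorem pow_four (h : Cyc D k e a) [Finite G] {x : G} (hx : x ∈ D)
    (hxA : x ∉ Subgroup.zpowers a) : x * x * (x * x) = 1 := by
  rcases h.sq_outside hx hxA with h' | h' <;> rw [h']
  · rw [one_mul]
  · exact h.z_sq

/-- The square of an element of order four is the central involution. -/
theorem sq_eq_z (h : Cyc D k e a) [Finite G] {x : G} (hx : x ∈ D) (h4 : x * x * (x * x) = 1)
    (h2 : x * x ≠ 1) : x * x = zinv k a := by
  by_cases hxA : x ∈ Subgroup.zpowers a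
  · exact (h.eq_of_sq_zpowers (Subgroup.mul_mem _ hxA hxA) h4).resolve_left h2
  · exact (h.sq_outside hx hxA).resolve_left h2

/-- An element outside is central in no larger subgroup than one of order four. -/
theorem card_inf_rot (h : Cyc D k e a) [Finite G] {w : D} (hw : IsRot k a w) :
    Nat.card (D ⊓ cenZ (w : G) : Subgroup G) = 2 ^ k := by
  rw [h.inf_centralizer_rot hw.1 hw.2.1 hw.2.2, Nat.card_zpowers, h.ord_a]

theorem card_inf_out (h : Cyc D k e a) [Fintype G] {w : D}
    (hw : (w : G) ∉ Subgroup.zpowers a) : Nat.card (D ⊓ cenZ (w : G) : Subgroup G) = 4 := by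
  rw [cenZ_eq]
  exact h.card_centralizer_out w.2 hw

theorem conj_rot (h : Cyc D k e a) [Finite G] (b : D) (hb : (b : G) ∉ Subgroup.zpowers a) {w : D}
    (hw : (w : G) ∈ Subgroup.zpowers a) : ((b * w * b⁻¹ : D) : G) = (w : G) ^ e := by
  obtain ⟨j, hj⟩ := Subgroup.mem_zpowers_iff.1 hw
  show (b : G) * w * (b : G)⁻¹ = _
  rw [← hj, h.conj_zpow b.2 hb, ← zpow_mul]

theorem isRot_conj (h : Cyc D k e a) [Finite G] (b : D) (hb : (b : G) ∉ Subgroup.zpowers a)
    {w : D} (hw : IsRot k a w) : IsRot k a (b * w * b⁻¹) := by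
  refine ⟨by rw [h.conj_rot b hb hw.1]; exact Subgroup.zpow_mem _ hw.1 e, fun h1 => hw.2.1 ?_,
    fun h1 => hw.2.2 ?_⟩
  · exact conj_eq_one_iff.1 (show (b : G) * w * (b : G)⁻¹ = 1 from h1)
  · have h2 : (b : G) * w * (b : G)⁻¹ = (b : G) * zinv k a * (b : G)⁻¹ := by
      rw [h.z_comm b.2, mul_inv_cancel_right]; exact h1
    exact mul_left_cancel (mul_right_cancel h2)

theorem conj_rot_ne (h : Cyc D k e a) [Finite G] (b : D) (hb : (b : G) ∉ Subgroup.zpowers a)
    {w : D} (hw : IsRot k a w) : b * w * b⁻¹ ≠ w := by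
  intro he
  have h1 := congrArg Subtype.val he
  rw [h.conj_rot b hb hw.1] at h1
  obtain ⟨j, hj⟩ := Subgroup.mem_zpowers_iff.1 hw.1
  rw [← hj, ← zpow_mul] at h1
  rcases h.zpow_fixed h1.symm with h2 | h2 <;> rw [hj] at h2
  · exact hw.2.1 h2
  · exact hw.2.2 h2

theorem conj_rot_twice (h : Cyc D k e a) [Finite G] (b : D) (hb : (b : G) ∉ Subgroup.zpowers a)
    {w : D} (hw : (w : G) ∈ Subgroup.zpowers a) : b * (b * w * b⁻¹) * b⁻¹ = w := by
  have hbb : (b : G) * b ∈ Subgroup.zpowers a := by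
    rcases h.sq_outside b.2 hb with h' | h' <;> rw [h']
    · exact Subgroup.one_mem _
    · exact h.z_mem_zpowers
  obtain ⟨i, hi⟩ := Subgroup.mem_zpowers_iff.1 hbb
  obtain ⟨j, hj⟩ := Subgroup.mem_zpowers_iff.1 hw
  refine Subtype.ext ?_
  show (b : G) * ((b : G) * w * (b : G)⁻¹) * (b : G)⁻¹ = w
  rw [show (b : G) * ((b : G) * w * (b : G)⁻¹) * (b : G)⁻¹
    = ((b : G) * b) * w * ((b : G) * b)⁻¹ by group, ← hi, ← hj, ← zpow_add, ← zpow_neg, ← zpow_add]
  congr 1
  ring

variable [Fact (Nat.Prime 2)] [Fintype G] {M : Ideal AlgInt} {B : Set (IrrCharacter G)}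
  {eD : Set (IrrCharacter (Subgroup.centralizer (D : Set G)))}
  {hM : IsPModular 2 M}

/-- Fused elements of the cyclic part are conjugate in the defect group. -/
theorem rot_fused (h : Cyc D k e a) (hmax : IsMaximalBrauerPair 2 M B D eD) (u v : D)
    (hu : (u : G) ∈ Subgroup.zpowers a) (hv : (v : G) ∈ Subgroup.zpowers a)
    (hf : Fused hM hmax.1.1 u v) : (v : G) = u ∨ (v : G) = (u : G) ^ e := by
  obtain ⟨y, hy⟩ := hf
  have hF := isBlockFusionSystemOn_blockFusion hM hmax
  set F := blockFusion hM hmax.1.1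
  have hyv : y * (u : G) * y⁻¹ = v := congrArg Sigma.fst hy
  set C := Subgroup.zpowers (u : G)
  have hCeq : Subgroup.zpowers (v : G) = C := (zpowers_eq_of_orderOf_eq hu hv (by
    rw [← hyv]; exact (MulEquiv.orderOf_eq (MulAut.conj y) (u : G)).symm)).symm
  have hCD : C ≤ D := Subgroup.zpowers_le.2 u.2
  have hmap : C.map (MulAut.conj y).toMonoidHom = C := by
    rw [MonoidHom.map_zpowers]
    show Subgroup.zpowers (y * (u : G) * y⁻¹) = C
    rw [hyv, hCeq]
  have hN : y ∈ Subgroup.normalizer (C : Set G) :=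
    CfsgLib.Fsys.mem_normalizer_of_map_le fun x hx => hmap.le ⟨x, hx, rfl⟩
  set f := (bel hM hmax.1.1 u).2
  have hle : SubpairLE 2 M C f D eD := bel_below hM hmax.1.1 u
  have hmoves : Moves 2 M D eD C y := by
    refine ⟨f, hle, ?_⟩
    have h2 := bel_below hM hmax.1.1 v
    rw [← hy, pair_act] at h2
    exact h2
  set α : MulAut C := C.normalizerMonoidHom ⟨y, hN⟩
  have hα : α ∈ F.autGroup C := by
    rw [CfsgLib.Fsys.mem_autGroup hCD, mem_hom_iff hF]
    exact ⟨hCD, y, fun x => rfl, hmoves⟩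
  have hFN : F.IsFullyNormalized C := by
    refine ⟨hCD, fun R _ => Subgroup.card_le_of_le fun x hx => ⟨hx.1, ?_⟩⟩
    refine CfsgLib.Fsys.mem_normalizer_of_map_le fun w hw => ?_
    obtain ⟨i, rfl⟩ := Subgroup.mem_zpowers_iff.1 hw
    obtain ⟨j, hj⟩ := Subgroup.mem_zpowers_iff.1 hu
    by_cases hxA : x ∈ Subgroup.zpowers a
    · obtain ⟨l, rfl⟩ := Subgroup.mem_zpowers_iff.1 hxA
      rw [← hj]
      refine Subgroup.mem_zpowers_iff.2 ⟨i, ?_⟩
      rw [← hj]
      group
    · refine Subgroup.mem_zpowers_iff.2 ⟨i * e, ?_⟩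
      rw [← hj, ← zpow_mul, ← zpow_mul, h.conj_zpow hx.1 hxA]
      congr 1
      ring
  obtain ⟨-, R, hR⟩ := fullyAutomized_of_normalized hM hF hle hFN
  obtain ⟨m, hm⟩ := IsPGroup.iff_orderOf.1 (IsPGroup.of_card (p := 2) h.card) u
  rw [← Subgroup.orderOf_coe] at hm
  have hA2 : IsPGroup 2 (F.autGroup C) := (isPGroup_mulAut_zpowers hm).to_subgroup _
  have htop : (R : Subgroup (F.autGroup C)) = ⊤ :=
    (R.is_maximal' (IsPGroup.of_equiv hA2 Subgroup.topEquiv.symm) le_top).symm
  have hαP : α ∈ Cfsg.autInducedBy D C :=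
    Subgroup.mem_subgroupOf.1 ((hR ▸ htop.symm ▸ Subgroup.mem_top (⟨α, hα⟩ : F.autGroup C)) :
      (⟨α, hα⟩ : F.autGroup C) ∈ (Cfsg.autInducedBy D C).subgroupOf (F.autGroup C))
  obtain ⟨g, hg, hgα⟩ := CfsgLib.Fsys.mem_autInducedBy.1 hαP
  have h1 : (v : G) = g * (u : G) * g⁻¹ := by
    rw [← hgα ⟨u, Subgroup.mem_zpowers _⟩, ← hyv]
    rfl
  obtain ⟨j, hj⟩ := Subgroup.mem_zpowers_iff.1 hu
  by_cases hgA : g ∈ Subgroup.zpowers a
  · left
    obtain ⟨l, rfl⟩ := Subgroup.mem_zpowers_iff.1 hgA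
    rw [h1, ← hj]; group
  · right
    rw [h1, ← hj, h.conj_zpow hg hgA, zpow_mul]

/-- The defect of the block at a rotation. -/
theorem defect_rot (h : Cyc D k e a) (hmax : IsMaximalBrauerPair 2 M B D eD) {w : D}
    (hw : IsRot k a w) : blockDefect 2 (bel hM hmax.1.1 w).2 = k := by
  have hc := card_inf_cenZ hM hmax w fun y hy => ?_
  · rw [h.card_inf_rot hw] at hc
    exact (Nat.pow_right_injective le_rfl hc).symm
  rw [h.card_inf_rot hw]
  by_cases hyA : (y : G) ∈ Subgroup.zpowers a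
  · obtain ⟨g, hg⟩ := hy.conj_eq
    have hr : IsRot k a y := ⟨hyA, fun h1 => hw.2.1 (conj_eq_one_iff.1 (hg.trans h1)), fun h1 => by
      refine h.rot_sq_ne hw (conj_eq_one_iff (a := g).1 ?_)
      rw [show g * ((w : G) * w) * g⁻¹ = (g * (w : G) * g⁻¹) * (g * (w : G) * g⁻¹) by group, hg, h1,
        h.z_sq]⟩
    rw [h.card_inf_rot hr]
  · rw [h.card_inf_out hyA]
    exact Nat.pow_le_pow_right (n := 2) (by omega) h.two_le

/-- An element outside the cyclic part fused into it. -/
def Absorbed (hM : IsPModular 2 M) (hP : IsBrauerPair 2 M D eD) (a : G) (x : D) : Prop :=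
  ∃ w : D, (w : G) ∈ Subgroup.zpowers a ∧ Fused hM hP x w

theorem Absorbed.of_fused {hP : IsBrauerPair 2 M D eD} {x y : D} (hxy : Fused hM hP x y)
    (hy : Absorbed hM hP a y) : Absorbed hM hP a x := by
  obtain ⟨w, hw, hf⟩ := hy
  exact ⟨w, hw, hxy.trans hf⟩

/-- The defect of the block at an element fused to no element of the cyclic part. -/
theorem defect_out (h : Cyc D k e a) (hmax : IsMaximalBrauerPair 2 M B D eD) {x : D}
    (hx : ¬ Absorbed hM hmax.1.1 a x) : blockDefect 2 (bel hM hmax.1.1 x).2 = 2 := by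
  have hxA : (x : G) ∉ Subgroup.zpowers a := fun hh => hx ⟨x, hh, Fused.refl x⟩
  have hc := card_inf_cenZ hM hmax x fun y hy => ?_
  · rw [h.card_inf_out hxA] at hc
    exact (Nat.pow_right_injective (a := 2) le_rfl (show (2 : ℕ) ^ 2 = _ from hc)).symm
  rw [h.card_inf_out hxA, h.card_inf_out fun hh => hx ⟨y, hh, hy⟩]

/-- The representatives of the classes outside the cyclic part. -/
noncomputable def outReps (hM : IsPModular 2 M) (hP : IsBrauerPair 2 M D eD) (a : G) (b b' : D) :
    Finset D :=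
  ({b, b'} : Finset D).filter fun x => ¬ Absorbed hM hP a x ∧ (x = b ∨ ¬ Fused hM hP b x)

theorem card_outReps {hP : IsBrauerPair 2 M D eD} {b b' : D} (hne : b ≠ b') :
    (outReps hM hP a b b').card = (if Absorbed hM hP a b then 0 else 1)
      + (if Absorbed hM hP a b' ∨ Fused hM hP b b' then 0 else 1) := by
  rw [outReps, Finset.filter_insert, Finset.filter_singleton]
  simp only [true_or, and_true, hne.symm, false_or]
  by_cases h1 : Absorbed hM hP a b <;>
    by_cases h2 : Absorbed hM hP a b' <;>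
      by_cases h3 : Fused hM hP b b' <;> simp [h1, h2, h3, hne]

theorem outside_cases (h : Cyc D k e a) (hP : IsBrauerPair 2 M D eD) {b b' : D}
    (hb : (b : G) ∉ Subgroup.zpowers a) (hb' : (b' : G) = (b : G) * a) (x : D)
    (hx : (x : G) ∉ Subgroup.zpowers a) :
    Absorbed hM hP a x ∨ ∃ t ∈ outReps hM hP a b b', Fused hM hP x t := by
  by_cases hxa : Absorbed hM hP a x
  · exact Or.inl hxa
  refine Or.inr ?_
  have key : ∀ y : D, y ∈ ({b, b'} : Finset D) → Fused hM hP x y →
      ∃ t ∈ outReps hM hP a b b', Fused hM hP x t := by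
    intro y hy hf
    have hya : ¬ Absorbed hM hP a y := fun hh => hxa (Absorbed.of_fused hf hh)
    by_cases hby : Fused hM hP b y
    · refine ⟨b, Finset.mem_filter.2 ⟨Finset.mem_insert_self _ _, fun hh => hya ?_, Or.inl rfl⟩,
        hf.trans hby.symm⟩
      exact Absorbed.of_fused hby.symm hh
    · exact ⟨y, Finset.mem_filter.2 ⟨hy, hya, Or.inr hby⟩, hf⟩
  obtain ⟨v, hv, hvx | hvx⟩ := h.outside_class b.2 hb x.2 hx
  · refine key b (Finset.mem_insert_self _ _) ?_
    have := fused_conj (hM := hM) (hP := hP) ⟨v, hv⟩ b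
    rw [show (⟨v, hv⟩ : D) * b * (⟨v, hv⟩ : D)⁻¹ = x from Subtype.ext hvx] at this
    exact this.symm
  · refine key b' (Finset.mem_insert_of_mem (Finset.mem_singleton_self _)) ?_
    have := fused_conj (hM := hM) (hP := hP) ⟨v, hv⟩ b'
    rw [show (⟨v, hv⟩ : D) * b' * (⟨v, hv⟩ : D)⁻¹ = x from Subtype.ext (by
      show v * (b' : G) * v⁻¹ = x
      rw [hb', hvx])] at this
    exact this.symm

/-- The representatives of the pairs of rotations. -/
noncomputable def rotReps (k : ℕ) (a : G) (b : D) : Finset D :=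
  (Finset.univ.filter fun w : D => IsRot k a w).filter fun w =>
    (Fintype.equivFin D w : ℕ) < Fintype.equivFin D (b * w * b⁻¹)

theorem mem_rotReps {b w : D} (hw : w ∈ rotReps k a b) : IsRot k a w :=
  (Finset.mem_filter.1 (Finset.mem_filter.1 hw).1).2

/-- A sum over rotations by pairs. -/
theorem sum_rotReps (h : Cyc D k e a) (b : D) (hb : (b : G) ∉ Subgroup.zpowers a)
    {R : Type*} [CommSemiring R] (F : D → R) (hF : ∀ w, IsRot k a w → F (b * w * b⁻¹) = F w) :
    ∑ w : D with IsRot k a w, F w = 2 * ∑ w ∈ rotReps k a b, F w := by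
  rw [← Finset.sum_filter_add_sum_filter_not (Finset.univ.filter fun w : D => IsRot k a w)
    (fun w => (Fintype.equivFin D w : ℕ) < Fintype.equivFin D (b * w * b⁻¹)), two_mul]
  refine congrArg₂ (· + ·) rfl (Finset.sum_nbij' (fun w => b * w * b⁻¹) (fun w => b * w * b⁻¹)
    ?_ ?_ ?_ ?_ ?_)
  · intro w hw
    simp only [rotReps, Finset.mem_filter, Finset.mem_univ, true_and] at hw ⊢
    refine ⟨h.isRot_conj b hb hw.1, ?_⟩
    rw [h.conj_rot_twice b hb hw.1.1]
    refine lt_of_le_of_ne (le_of_not_gt hw.2) fun he => h.conj_rot_ne b hb hw.1 ?_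
    exact (Fintype.equivFin D).injective (Fin.ext he)
  · intro w hw
    simp only [rotReps, Finset.mem_filter, Finset.mem_univ, true_and] at hw ⊢
    refine ⟨h.isRot_conj b hb hw.1, ?_⟩
    rw [h.conj_rot_twice b hb hw.1.1]
    exact not_lt_of_gt hw.2
  · intro w hw; exact h.conj_rot_twice b hb (Finset.mem_filter.1 (Finset.mem_filter.1 hw).1).2.1
  · intro w hw; exact h.conj_rot_twice b hb (mem_rotReps hw).1
  · intro w hw; exact (hF w (Finset.mem_filter.1 (Finset.mem_filter.1 hw).1).2).symm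

theorem card_isRot (h : Cyc D k e a) :
    (Finset.univ.filter fun w : D => IsRot k a w).card + 2 = 2 ^ k := by
  have hA : (Finset.univ.filter fun w : D => (w : G) ∈ Subgroup.zpowers a).card = 2 ^ k := by
    rw [← Fintype.card_subtype, ← Nat.card_eq_fintype_card, ← h.ord_a, ← Nat.card_zpowers]
    exact Nat.card_congr (Subgroup.subgroupOfEquivOfLe h.zpowers_le).toEquiv
  have hsub : ({⟨1, D.one_mem⟩, ⟨zinv k a, h.z_mem⟩} : Finset D)
      ⊆ Finset.univ.filter fun w : D => (w : G) ∈ Subgroup.zpowers a := by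
    intro w hw
    simp only [Finset.mem_insert, Finset.mem_singleton] at hw
    rcases hw with rfl | rfl
    · exact Finset.mem_filter.2 ⟨Finset.mem_univ _, Subgroup.one_mem _⟩
    · exact Finset.mem_filter.2 ⟨Finset.mem_univ _, h.z_mem_zpowers⟩
  rw [← hA, ← Finset.card_sdiff_add_card_eq_card hsub,
    Finset.card_pair (fun he => h.z_ne_one (congrArg Subtype.val he).symm)]
  congr 2
  ext w
  constructor
  · intro hw
    obtain ⟨-, h1, h2, h3⟩ := Finset.mem_filter.1 hw
    refine Finset.mem_sdiff.2 ⟨Finset.mem_filter.2 ⟨Finset.mem_univ _, h1⟩, fun hm => ?_⟩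
    simp only [Finset.mem_insert, Finset.mem_singleton] at hm
    rcases hm with rfl | rfl
    · exact h2 rfl
    · exact h3 rfl
  · intro hw
    obtain ⟨h1, h2⟩ := Finset.mem_sdiff.1 hw
    refine Finset.mem_filter.2 ⟨Finset.mem_univ _, (Finset.mem_filter.1 h1).2, fun e' => h2 ?_,
      fun e' => h2 ?_⟩
    · exact Finset.mem_insert.2 (Or.inl (Subtype.ext e'))
    · exact Finset.mem_insert.2 (Or.inr (Finset.mem_singleton.2 (Subtype.ext e')))

theorem card_rotReps (h : Cyc D k e a) (b : D) (hb : (b : G) ∉ Subgroup.zpowers a) :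
    (rotReps k a b).card + 1 = 2 ^ (k - 1) := by
  have h1 := h.sum_rotReps b hb (R := ℕ) (fun _ => 1) fun _ _ => rfl
  have h2 := h.card_isRot
  simp only [Finset.sum_const, smul_eq_mul, mul_one] at h1
  rw [← two_pow_mul (show 1 ≤ k by have := h.two_le; omega), h1] at h2
  omega

/-- All representatives. -/
noncomputable def reps (hM : IsPModular 2 M) (hP : IsBrauerPair 2 M D eD) (h : Cyc D k e a)
    (b b' : D) : Finset D :=
  {⟨1, D.one_mem⟩, ⟨zinv k a, h.z_mem⟩} ∪ rotReps k a b ∪ outReps hM hP a b b'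

variable {b b' : D}

theorem outReps_notMem {hP : IsBrauerPair 2 M D eD} {t : D} (ht : t ∈ outReps hM hP a b b') :
    (t : G) ∉ Subgroup.zpowers a := fun hh => (Finset.mem_filter.1 ht).2.1 ⟨t, hh, Fused.refl t⟩

theorem sum_reps (h : Cyc D k e a) {hP : IsBrauerPair 2 M D eD} {R : Type*} [AddCommMonoid R]
    (F : D → R) :
    ∑ t ∈ reps hM hP h b b', F t = F ⟨1, D.one_mem⟩ + F ⟨zinv k a, h.z_mem⟩
      + ∑ t ∈ rotReps k a b, F t + ∑ t ∈ outReps hM hP a b b', F t := by
  rw [reps, Finset.sum_union, Finset.sum_union,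
    Finset.sum_pair (fun he => h.z_ne_one (congrArg Subtype.val he).symm)]
  · rw [Finset.disjoint_left]
    intro t ht hr
    simp only [Finset.mem_insert, Finset.mem_singleton] at ht
    rcases ht with rfl | rfl
    · exact (mem_rotReps hr).2.1 rfl
    · exact (mem_rotReps hr).2.2 rfl
  · rw [Finset.disjoint_left]
    intro t ht ho
    refine outReps_notMem ho ?_
    simp only [Finset.mem_union, Finset.mem_insert, Finset.mem_singleton] at ht
    rcases ht with (rfl | rfl) | ht
    · exact Subgroup.one_mem _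
    · exact h.z_mem_zpowers
    · exact (mem_rotReps ht).1

theorem reps_cover (h : Cyc D k e a) (hP : IsBrauerPair 2 M D eD)
    (hb : (b : G) ∉ Subgroup.zpowers a) (hb' : (b' : G) = (b : G) * a) (x : D) :
    ∃ t ∈ reps hM hP h b b', Fused hM hP x t := by
  have key : ∀ w : D, (w : G) ∈ Subgroup.zpowers a →
      ∃ t ∈ reps hM hP h b b', Fused hM hP w t := by
    intro w hw
    by_cases h1 : (w : G) = 1
    · refine ⟨w, ?_, Fused.refl w⟩
      rw [show w = ⟨1, D.one_mem⟩ from Subtype.ext h1]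
      simp [reps]
    by_cases hz : (w : G) = zinv k a
    · refine ⟨w, ?_, Fused.refl w⟩
      rw [show w = ⟨zinv k a, h.z_mem⟩ from Subtype.ext hz]
      simp [reps]
    have hr : IsRot k a w := ⟨hw, h1, hz⟩
    rcases lt_or_gt_of_ne (fun he : (Fintype.equivFin D w : ℕ) = Fintype.equivFin D (b * w * b⁻¹) =>
      h.conj_rot_ne b hb hr ((Fintype.equivFin D).injective (Fin.ext he)).symm) with hlt | hlt
    · exact ⟨w, Finset.mem_union_left _ (Finset.mem_union_right _ (Finset.mem_filter.2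
        ⟨Finset.mem_filter.2 ⟨Finset.mem_univ _, hr⟩, hlt⟩)), Fused.refl w⟩
    · exact ⟨b * w * b⁻¹, Finset.mem_union_left _ (Finset.mem_union_right _ (Finset.mem_filter.2
        ⟨Finset.mem_filter.2 ⟨Finset.mem_univ _, h.isRot_conj b hb hr⟩,
          by rwa [h.conj_rot_twice b hb hw]⟩)), fused_conj b w⟩
  by_cases hxA : (x : G) ∈ Subgroup.zpowers a
  · exact key x hxA
  rcases h.outside_cases hP hb hb' x hxA with ⟨w, hw, hf⟩ | ⟨t, ht, hf⟩
  · obtain ⟨t, ht, hf'⟩ := key w hw
    exact ⟨t, ht, hf.trans hf'⟩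
  · exact ⟨t, Finset.mem_union_right _ ht, hf⟩

theorem reps_inj (h : Cyc D k e a) (hmax : IsMaximalBrauerPair 2 M B D eD)
    (hb : (b : G) ∉ Subgroup.zpowers a) :
    ∀ t ∈ reps hM hmax.1.1 h b b', ∀ t' ∈ reps hM hmax.1.1 h b b',
      Fused hM hmax.1.1 t t' → t = t' := by
  intro t ht t' ht' hf
  have hout : ∀ u v : D, u ∈ outReps hM hmax.1.1 a b b' → v ∈ reps hM hmax.1.1 h b b' →
      Fused hM hmax.1.1 u v → v ∈ outReps hM hmax.1.1 a b b' := by
    intro u v hu hv huv
    simp only [reps, Finset.mem_union, Finset.mem_insert, Finset.mem_singleton] at hv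
    rcases hv with ((rfl | rfl) | hv) | hv
    · exact absurd ⟨_, Subgroup.one_mem _, huv⟩ (Finset.mem_filter.1 hu).2.1
    · exact absurd ⟨_, h.z_mem_zpowers, huv⟩ (Finset.mem_filter.1 hu).2.1
    · exact absurd ⟨_, (mem_rotReps hv).1, huv⟩ (Finset.mem_filter.1 hu).2.1
    · exact hv
  by_cases hto : t ∈ outReps hM hmax.1.1 a b b'
  · have hto' := hout t t' hto ht' hf
    obtain ⟨hm, -, h1⟩ := Finset.mem_filter.1 hto
    obtain ⟨hm', -, h1'⟩ := Finset.mem_filter.1 hto'
    simp only [Finset.mem_insert, Finset.mem_singleton] at hm hm'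
    rcases hm with rfl | rfl <;> rcases hm' with e' | e'
    · exact e'.symm
    · exact (h1'.elim (fun e => e.symm) fun hn => absurd hf hn)
    · rcases h1 with e | hn
      · exact e.trans e'.symm
      · exact absurd (e' ▸ hf.symm) hn
    · exact e'.symm
  have hto' : t' ∉ outReps hM hmax.1.1 a b b' := fun hh => hto (hout t' t hh ht hf.symm)
  have hA : ∀ u ∈ reps hM hmax.1.1 h b b', u ∉ outReps hM hmax.1.1 a b b' →
      (u : G) ∈ Subgroup.zpowers a := by
    intro u hu hn
    simp only [reps, Finset.mem_union, Finset.mem_insert, Finset.mem_singleton] at hu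
    rcases hu with ((rfl | rfl) | hu) | hu
    · exact Subgroup.one_mem _
    · exact h.z_mem_zpowers
    · exact (mem_rotReps hu).1
    · exact absurd hu hn
  rcases h.rot_fused hmax t t' (hA t ht hto) (hA t' ht' hto') hf with e1 | e1
  · exact Subtype.ext e1.symm
  have hconj : b * t * b⁻¹ = t' := Subtype.ext ((h.conj_rot b hb (hA t ht hto)).trans e1.symm)
  by_cases hr : IsRot k a t
  · have hr' : IsRot k a t' := hconj ▸ h.isRot_conj b hb hr
    have hmem : ∀ u ∈ reps hM hmax.1.1 h b b', u ∉ outReps hM hmax.1.1 a b b' → IsRot k a u →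
        u ∈ rotReps k a b := by
      intro u hu hn hru
      simp only [reps, Finset.mem_union, Finset.mem_insert, Finset.mem_singleton] at hu
      rcases hu with ((rfl | rfl) | hu) | hu
      · exact absurd rfl hru.2.1
      · exact absurd rfl hru.2.2
      · exact hu
      · exact absurd hu hn
    have h1 := (Finset.mem_filter.1 (hmem t ht hto hr)).2
    have h2 := (Finset.mem_filter.1 (hmem t' ht' hto' hr')).2
    rw [← hconj, h.conj_rot_twice b hb hr.1] at h2
    exact absurd h1 (not_lt_of_gt h2)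
  · have hfix : b * t * b⁻¹ = t := by
      refine Subtype.ext (mul_inv_eq_iff_eq_mul.2 ?_)
      by_cases h1 : (t : G) = 1
      · simp [h1]
      · have hz : (t : G) = zinv k a := by
          by_contra hz; exact hr ⟨hA t ht hto, h1, hz⟩
        rw [Subgroup.coe_mul, hz]; exact h.z_comm b.2
    exact hfix.symm.trans hconj

end Cyc

end CfsgLib.Blocks.TameDefect
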