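import Cfsg.Agent.Lib.Blocks.TameDefect.CycFusion
import Cfsg.Agent.Lib.Blocks.TwoMajor

/-!
# The normalised contributions of a class

The contribution of a class times the order of its defect group is an element of a ring of roots of
unity; at a major involution it is an integer whose `2`-part is given by the heights.
-/

set_option autoImplicit false
set_option maxHeartbeats 800000

namespace CfsgLib.Blocks.TameDefect

open Cfsg CfsgLib.Blocks CfsgLib.BrauerPairs CfsgLib.BrouePuig CfsgLib.Blocks.TwoPowerTrace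
open scoped Classical ComplexConjugate

universe u

variable {G : Type u} [Group G] [Fintype G] {M : Ideal AlgInt} {B : Set (IrrCharacter G)}
  {D : Subgroup G} {eD : Set (IrrCharacter (Subgroup.centralizer (D : Set G)))}
  [Fact (Nat.Prime 2)]

/-- The contribution of a class times the order of its defect group. -/
noncomputable def scaledSec (hM : IsPModular 2 M) (hP : IsBrauerPair 2 M D eD) (t : D)
    (χ φ : IrrCharacter G) : ℂ :=
  classSec hM hP t χ φ * (2 : ℂ) ^ blockDefect 2 (bel hM hP t).2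

variable {hM : IsPModular 2 M}

theorem conj_classSec {hP : IsBrauerPair 2 M D eD} (t : D) (χ φ : IrrCharacter G) :
    conj (classSec hM hP t χ φ) = classSec hM hP t φ χ := by
  simp only [classSec, secInner, map_mul, map_sum, map_inv₀, map_natCast, Complex.conj_conj]
  congr 1
  exact Finset.sum_congr rfl fun c _ => mul_comm _ _

theorem conj_scaledSec {hP : IsBrauerPair 2 M D eD} (t : D) (χ φ : IrrCharacter G) :
    conj (scaledSec hM hP t χ φ) = scaledSec hM hP t φ χ := by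
  rw [scaledSec, map_mul, conj_classSec, map_pow, map_ofNat, scaledSec]

variable (hmax : IsMaximalBrauerPair 2 M B D eD) (t : D)

include hmax in
theorem exists_order : ∃ j : ℕ, orderOf (t : G) = 2 ^ j := by
  obtain ⟨j, hj⟩ := IsPGroup.iff_orderOf.1 hmax.1.1.1 t
  exact ⟨j, by rwa [Subgroup.orderOf_coe]⟩

theorem scaledSec_eq_contrib (χ φ : IrrCharacter G) :
    scaledSec hM hmax.1.1 t χ φ
      = contrib 2 (bel hM hmax.1.1 t).1 (cenZ (bel hM hmax.1.1 t).1) (bel hM hmax.1.1 t).2 χ φ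
        / (2 : ℂ) ^ minDegVal 2 (bel hM hmax.1.1 t).2 := by
  have hel := isElemOf_of_below hM hmax (bel_below hM hmax.1.1 t)
  have h := secInner_eq_contrib hM χ φ hel.1.2
  have hd := blockDefect_add_min (p := 2) (IsPBlock.nonempty hM hel.1.2)
  rw [pPartCard, ← hd, Nat.cast_pow, pow_add, Nat.cast_ofNat] at h
  have hK : (Nat.card (cenZ (bel hM hmax.1.1 t).1) : ℂ) ≠ 0 := Char.card_ne_zero
  rw [scaledSec, classSec]
  show _ * (Nat.card (cenZ (bel hM hmax.1.1 t).1) : ℂ)⁻¹ * _ = _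
  field_simp
  linear_combination h

theorem sum_scaledSec_sq (χ : IrrCharacter G) :
    ∑ φ : IrrCharacter G, scaledSec hM hmax.1.1 t χ φ * scaledSec hM hmax.1.1 t φ χ
      = (2 : ℂ) ^ blockDefect 2 (bel hM hmax.1.1 t).2 * scaledSec hM hmax.1.1 t χ χ := by
  have hel := isElemOf_of_below hM hmax (bel_below hM hmax.1.1 t)
  have h := sum_contrib_mul hM (cenZ_eq (bel hM hmax.1.1 t).1) (mem_elems.1 (hel.mem hM.1)).1
    hel.1.2 χ
  have hd := blockDefect_add_min (p := 2) (IsPBlock.nonempty hM hel.1.2)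
  simp only [scaledSec_eq_contrib hmax t, div_mul_div_comm, ← Finset.sum_div]
  rw [h, contrib]
  rw [pPartCard, ← hd, Nat.cast_pow, pow_add, Nat.cast_ofNat]
  field_simp

theorem scaledSec_eq_zero {χ : IrrCharacter G} (hχ : χ ∉ B) (φ : IrrCharacter G) :
    scaledSec hM hmax.1.1 t χ φ = 0 := by
  rw [scaledSec, classSec_eq_zero hmax hχ, zero_mul]

theorem scaledSec_eq_zero' {φ : IrrCharacter G} (hφ : φ ∉ B) (χ : IrrCharacter G) :
    scaledSec hM hmax.1.1 t χ φ = 0 := by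
  rw [← conj_scaledSec, scaledSec_eq_zero hmax t hφ, map_zero]

theorem scaledSec_mem_adjoin (χ φ : IrrCharacter G) {ζ : ℂ} {j : ℕ}
    (hζ : IsPrimitiveRoot ζ (2 ^ j)) (ht : (t : G) ^ 2 ^ j = 1) :
    scaledSec hM hmax.1.1 t χ φ ∈ Algebra.adjoin ℤ ({ζ} : Set ℂ) := by
  haveI : NeZero (2 ^ j) := ⟨pow_ne_zero _ two_ne_zero⟩
  obtain ⟨z, hzx, hz⟩ := center_zpowers_mem (bel hM hmax.1.1 t).1
  rw [scaledSec_eq_contrib hmax t]
  have h := contrib_div_mem_adjoin hM hzx hz (b := (bel hM hmax.1.1 t).2) χ φ hζ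
    (show z ^ 2 ^ j = 1 from Subtype.ext (by rw [Subgroup.coe_pow, hzx]; exact ht))
  rwa [Nat.cast_ofNat] at h

theorem scaledSec_not_LI {χ φ : IrrCharacter G} (hχ : χ ∈ B) (hφ : φ ∈ B)
    (hχ0 : degVal 2 χ = minDegVal 2 B) (hφ0 : degVal 2 φ = minDegVal 2 B) :
    ¬ MemLocalIdeal M (scaledSec hM hmax.1.1 t χ φ) := by
  obtain ⟨z, hzx, hz⟩ := center_zpowers_mem (bel hM hmax.1.1 t).1
  have hel := isElemOf_of_below hM hmax (bel_below hM hmax.1.1 t)
  obtain ⟨j, hj⟩ := exists_order hmax t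
  rw [scaledSec_eq_contrib hmax t]
  have h := contrib_not_LI_of_min hM ((isBrauerPairOf_iff_induced hM hel.1.1 hel.1.2).1 hel) hzx hz
    (k := j) (Subtype.ext (by
      rw [Subgroup.coe_pow, hzx, Subgroup.coe_one, ← hj]; exact pow_orderOf_eq_one _)) hχ hφ hχ0 hφ0
  rwa [Nat.cast_ofNat] at h

theorem sum_scaledSec_self :
    ∑ χ : IrrCharacter G, scaledSec hM hmax.1.1 t χ χ
      = (blockRank 2 (bel hM hmax.1.1 t).2 : ℂ)
          * (2 : ℂ) ^ blockDefect 2 (bel hM hmax.1.1 t).2 := by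
  rw [← sum_classSec_self hmax t, Finset.sum_mul, Finset.sum_filter]
  refine Finset.sum_congr rfl fun χ _ => ?_
  split_ifs with h
  · rfl
  · exact scaledSec_eq_zero hmax t h χ

/-- The contributions of a major class of an element of order at most two. -/
theorem exists_major (hmaj : blockDefect 2 (bel hM hmax.1.1 t).2 = blockDefect 2 B)
    (ht : (t : G) * t = 1) :
    ∃ C : IrrCharacter G → IrrCharacter G → ℤ,
      (∀ χ φ, scaledSec hM hmax.1.1 t χ φ = C χ φ) ∧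
      (∀ χ φ, C χ φ = C φ χ) ∧
      (∀ χ, ∑ φ, C χ φ ^ 2 = 2 ^ blockDefect 2 B * C χ χ) ∧
      (∀ χ ∈ B, TwoMajor.ht B χ = 0 → 1 ≤ C χ χ ∧
        ∀ φ ∈ B, ∃ o, Odd o ∧ C χ φ = 2 ^ TwoMajor.ht B φ * o) ∧
      (∀ χ ∈ B, TwoMajor.ht B χ ≠ 0 →
        2 ^ (TwoMajor.ht B χ + 1) ≤ C χ χ ∧ 2 ^ (TwoMajor.ht B χ + 1) ∣ C χ χ) := by
  have hneg : IsPrimitiveRoot (-1 : ℂ) (2 ^ (0 + 1)) := by
    rw [zero_add, pow_one]
    exact IsPrimitiveRoot.neg_one 0 (by norm_num)
  have hint : ∀ z : ℂ, z ∈ Algebra.adjoin ℤ ({(-1 : ℂ)} : Set ℂ) → ∃ m : ℤ, z = m := by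
    intro z hz
    obtain ⟨a, rfl⟩ := exists_coeffs hneg hz
    exact ⟨a 0, by simp⟩
  choose C hC using fun χ φ => hint _ (scaledSec_mem_adjoin hmax t χ φ hneg
    (by rw [zero_add, pow_one, pow_two]; exact ht))
  have hsym : ∀ χ φ, C χ φ = C φ χ := fun χ φ => by
    have h := conj_scaledSec (hM := hM) (hP := hmax.1.1) t χ φ
    rw [hC, hC, map_intCast] at h
    exact_mod_cast h
  have hsq : ∀ χ, ∑ φ, C χ φ ^ 2 = 2 ^ blockDefect 2 B * C χ χ := by
    intro χ
    have h := sum_scaledSec_sq (hM := hM) hmax t χ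
    simp only [hC, hmaj] at h
    rw [Finset.sum_congr rfl fun φ _ => by rw [hsym φ χ]] at h
    simp only [pow_two]
    exact_mod_cast h
  have hnn : ∀ χ, 0 ≤ C χ χ := fun χ =>
    nonneg_of_mul_nonneg_right ((hsq χ) ▸ Finset.sum_nonneg fun φ _ => sq_nonneg _)
      (pow_pos two_pos _)
  have hel := isElemOf_of_below hM hmax (bel_below hM hmax.1.1 t)
  obtain ⟨z, hzx, hz⟩ := center_zpowers_mem (bel hM hmax.1.1 t).1
  -- the scaled values
  have hscaled : ∀ φ, ∃ w : IrrCharacter G → ℤ,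
      (∀ θ ∈ B, C θ φ = 2 ^ TwoMajor.ht B θ * w θ) ∧
      ∀ θ ∈ B, ∀ θ' ∈ B, Even (w θ) → Even (w θ') := by
    intro φ
    obtain ⟨w, hw, hcongr⟩ := MajorContrib.exists_scaled hM
      ((isBrauerPairOf_iff_induced hM hel.1.1 hel.1.2).1 hel) hmaj hzx hz φ
    have hex : ∀ θ ∈ B, ∃ v : ℤ, w θ = v ∧ C θ φ = 2 ^ TwoMajor.ht B θ * v := by
      intro θ hθ
      obtain ⟨hLR, he⟩ := hw θ hθ
      rw [Nat.cast_ofNat, ← scaledSec_eq_contrib hmax t, hC] at he
      have he' : (C θ φ : ℂ) / (2 : ℂ) ^ TwoMajor.ht B θ = w θ := by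
        rw [he, TwoMajor.ht, mul_div_cancel_left₀ _ (pow_ne_zero _ (two_ne_zero' ℂ))]
      have hmem := div_two_pow_mem hM hneg (TwoMajor.ht B θ) (z := (C θ φ : ℂ))
        (intCast_mem _ _) (he' ▸ hLR)
      rw [he'] at hmem
      obtain ⟨v, hv⟩ := hint _ hmem
      refine ⟨v, hv, ?_⟩
      rw [hv, div_eq_iff (pow_ne_zero _ (two_ne_zero' ℂ)), mul_comm] at he'
      exact_mod_cast he'
    choose v hv hv' using hex
    refine ⟨fun θ => if hθ : θ ∈ B then v θ hθ else 0, fun θ hθ => ?_, fun θ hθ θ' hθ' hev => ?_⟩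
    · simp only [dif_pos hθ]; exact hv' θ hθ
    · simp only [dif_pos hθ] at hev
      simp only [dif_pos hθ']
      rw [even_iff_two_dvd]
      have hI : MemLocalIdeal M (w θ) := by
        rw [hv θ hθ, LI.intCast_iff hM]; exact_mod_cast hev.two_dvd
      have h := hcongr θ hθ θ' hθ' hI
      rw [hv θ' hθ', LI.intCast_iff hM] at h
      exact_mod_cast h
  have hdeg : ∀ χ ∈ B, TwoMajor.ht B χ = 0 → degVal 2 χ = minDegVal 2 B := fun χ hχ h => by
    have := minDegVal_le (p := 2) hχ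
    simp only [TwoMajor.ht] at h
    omega
  have hexact : ∀ χ ∈ B, TwoMajor.ht B χ = 0 →
      ∀ φ ∈ B, ∃ o, Odd o ∧ C χ φ = 2 ^ TwoMajor.ht B φ * o := by
    intro χ hχ h0 φ hφ
    obtain ⟨w, hw, hcongr⟩ := hscaled χ
    refine ⟨w φ, Int.not_even_iff_odd.1 fun hev => ?_, by rw [hsym, hw φ hφ]⟩
    have h1 := hcongr φ hφ χ hχ hev
    refine scaledSec_not_LI (hM := hM) hmax t hχ hχ (hdeg χ hχ h0) (hdeg χ hχ h0) ?_
    rw [hC, LI.intCast_iff hM, hw χ hχ, h0, pow_zero, one_mul]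
    exact_mod_cast h1.two_dvd
  refine ⟨C, hC, hsym, hsq, fun χ hχ h0 => ⟨?_, hexact χ hχ h0⟩, fun χ hχ hh => ?_⟩
  · obtain ⟨o, ho, he⟩ := hexact χ hχ h0 χ hχ
    rw [h0, pow_zero, one_mul] at he
    have := hnn χ
    obtain ⟨r, hr⟩ := ho
    omega
  obtain ⟨χ₀, hχ₀, h00⟩ := exists_degVal_eq_min (p := 2) (IsPBlock.nonempty hM hmax.1.2.1)
  have h00' : TwoMajor.ht B χ₀ = 0 := by simp [TwoMajor.ht, h00]
  obtain ⟨o, ho, he⟩ := hexact χ₀ hχ₀ h00' χ hχ
  obtain ⟨w, hw, hcongr⟩ := hscaled χ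
  have hev : Even (w χ₀) := by
    have h1 := hw χ₀ hχ₀
    rw [h00', pow_zero, one_mul, he] at h1
    rw [← h1, Int.even_mul]
    exact Or.inl (Even.pow_of_ne_zero even_two hh)
  obtain ⟨r, hr⟩ := hcongr χ₀ hχ₀ χ hχ hev
  have hCd : C χ χ = 2 ^ (TwoMajor.ht B χ + 1) * r := by rw [hw χ hχ, hr, pow_succ]; ring
  have hpos : 0 < C χ χ := by
    refine lt_of_le_of_ne (hnn χ) fun h0' => ?_
    have h1 := hsq χ
    rw [← h0', mul_zero, Finset.sum_eq_zero_iff_of_nonneg fun φ _ => sq_nonneg _] at h1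
    have h2 := pow_eq_zero_iff two_ne_zero |>.1 (h1 χ₀ (Finset.mem_univ _))
    rw [hsym, he] at h2
    rcases mul_eq_zero.1 h2 with h3 | h3
    · exact pow_ne_zero _ two_ne_zero h3
    · rw [h3] at ho; exact Int.not_odd_zero ho
  rw [hCd] at hpos ⊢
  exact ⟨le_mul_of_one_le_right (by positivity) (pos_of_mul_pos_right hpos (by positivity)),
    dvd_mul_right _ _⟩

end CfsgLib.Blocks.TameDefect
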