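import Cfsg.Agent.Lib.Blocks.TameDefect.CycColumns
import Cfsg.Agent.Lib.Blocks.TameDefect.CycCoeff
import Cfsg.Agent.Lib.Blocks.TameDefect.CycMajor

/-!
# The weights at the rotations

The sum of the contributions of a character at the classes of rotations is a spread of integral
coefficients; it is odd at height zero, and at most four characters have height zero.
-/

set_option autoImplicit false
set_option maxHeartbeats 800000

namespace CfsgLib.Blocks.TameDefect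

open Cfsg CfsgLib.Blocks CfsgLib.BrauerPairs CfsgLib.BrouePuig CfsgLib.Blocks.TwoPowerTrace
open scoped Classical ComplexConjugate

universe u

namespace Cyc

variable {G : Type u} [Group G] {D : Subgroup G} {m : ℕ} {e : ℤ} {a : G}

/-- The rotation with the given index. -/
noncomputable def rotA (a : G) (i : ZMod (2 ^ (m + 1))) : Subgroup.zpowers a :=
  ⟨a ^ i.val, Subgroup.pow_mem _ (Subgroup.mem_zpowers a) _⟩

/-- The rotation as an element of the defect group. -/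
noncomputable def rotD (h : Cyc D (m + 1) e a) (i : ZMod (2 ^ (m + 1))) : D :=
  ⟨a ^ i.val, D.pow_mem h.a_mem _⟩

theorem rot_intCast (h : Cyc D (m + 1) e a) (l : ℤ) :
    a ^ ((l : ZMod (2 ^ (m + 1))).val) = a ^ l := by
  haveI : NeZero (2 ^ (m + 1)) := ⟨pow_ne_zero _ two_ne_zero⟩
  rw [← zpow_natCast, zpow_eq_zpow_iff_modEq, h.ord_a, ← ZMod.intCast_eq_intCast_iff, Int.cast_natCast,
    ZMod.natCast_zmod_val]

theorem rot_mul (h : Cyc D (m + 1) e a) (i : ZMod (2 ^ (m + 1))) :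
    a ^ ((e : ZMod (2 ^ (m + 1))) * i).val = (a ^ i.val) ^ e := by
  haveI : NeZero (2 ^ (m + 1)) := ⟨pow_ne_zero _ two_ne_zero⟩
  rw [← zpow_natCast a i.val, ← zpow_mul, ← h.rot_intCast, mul_comm (i.val : ℤ), Int.cast_mul,
    Int.cast_natCast, ZMod.natCast_zmod_val]

theorem rot_injective (h : Cyc D (m + 1) e a) :
    Function.Injective fun i : ZMod (2 ^ (m + 1)) => a ^ i.val := by
  haveI : NeZero (2 ^ (m + 1)) := ⟨pow_ne_zero _ two_ne_zero⟩
  intro i j hij
  refine ZMod.val_injective _ (pow_injOn_Iio_orderOf ?_ ?_ hij)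
  · rw [Set.mem_Iio, h.ord_a]; exact i.val_lt
  · rw [Set.mem_Iio, h.ord_a]; exact j.val_lt

theorem rot_one (a : G) : a ^ (1 : ZMod (2 ^ (m + 1))).val = a := by
  haveI : Fact (1 < 2 ^ (m + 1)) := ⟨Nat.one_lt_two_pow (Nat.succ_ne_zero m)⟩
  rw [ZMod.val_one, pow_one]

theorem isRot_rotD (h : Cyc D (m + 1) e a) (i : ZMod (2 ^ (m + 1))) :
    IsRot (m + 1) a (h.rotD i) ↔ i ≠ 0 ∧ i ≠ ((2 ^ m : ℕ) : ZMod (2 ^ (m + 1))) := by
  haveI : NeZero (2 ^ (m + 1)) := ⟨pow_ne_zero _ two_ne_zero⟩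
  have h1 : a ^ i.val = 1 ↔ i = 0 := by
    rw [← h.rot_injective.eq_iff (a := i) (b := 0)]
    simp
  have h2 : a ^ i.val = zinv (m + 1) a ↔ i = ((2 ^ m : ℕ) : ZMod (2 ^ (m + 1))) := by
    rw [← h.rot_injective.eq_iff (a := i)]
    simp only [zinv, Nat.add_sub_cancel]
    rw [ZMod.val_natCast_of_lt (by rw [pow_succ]; have := Nat.two_pow_pos m; omega)]
  simp only [IsRot, rotD, ne_eq, h1, h2]
  exact ⟨fun hh => hh.2, fun hh => ⟨Subgroup.pow_mem _ (Subgroup.mem_zpowers a) _, hh⟩⟩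

theorem exists_rotD (h : Cyc D (m + 1) e a) [Finite G] {w : D}
    (hw : (w : G) ∈ Subgroup.zpowers a) : ∃ i, h.rotD i = w := by
  obtain ⟨l, hl⟩ := Subgroup.mem_zpowers_iff.1 hw
  exact ⟨(l : ZMod (2 ^ (m + 1))), Subtype.ext (by rw [← hl]; exact h.rot_intCast l)⟩

theorem eps_kind (h : Cyc D (m + 1) e a) :
    (e : ZMod (2 ^ (m + 1))) = -1 ∨
      (2 ≤ m ∧ (e : ZMod (2 ^ (m + 1))) = ((2 ^ m : ℕ) : ZMod (2 ^ (m + 1))) - 1) := by
  rcases h.kind with rfl | ⟨hk, rfl⟩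
  · left; simp
  · exact Or.inr ⟨by omega, by push_cast; simp⟩

variable [Fintype G] [Fact (Nat.Prime 2)] {M : Ideal AlgInt} {B : Set (IrrCharacter G)}
  {eD : Set (IrrCharacter (Subgroup.centralizer (D : Set G)))}
  {hM : IsPModular 2 M}

section

variable (h : Cyc D (m + 1) e a) (hmax : IsMaximalBrauerPair 2 M B D eD)
  (C : Columns hM hmax.1.1 h.quarter (Subgroup.zpowers a))

include h hmax in
theorem rot_rank {w : D} (hw : IsRot (m + 1) a w) :
    blockRank 2 (bel hM hmax.1.1 w).2 = 1 := by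
  obtain ⟨C⟩ := h.nonempty_rotColumns (hM := hM) hmax
  exact C.rank ⟨(w : G), hw.1⟩ w.2 (h.cenZ_rot_le hw)

theorem rot_classSec {i : ZMod (2 ^ (m + 1))} (hi : IsRot (m + 1) a (h.rotD i))
    (χ φ : IrrCharacter G) :
    classSec hM hmax.1.1 (h.rotD i) χ φ
      = C.g χ (rotA a i) * conj (C.g φ (rotA a i)) * ((2 ^ (m + 1) : ℕ) : ℂ)⁻¹ := by
  have h1 := C.cls (rotA a i) (h.rotD i).2 (h.cenZ_rot_le hi) χ φ
  rw [Nat.card_zpowers, h.ord_a] at h1
  exact h1

theorem rot_scaled {i : ZMod (2 ^ (m + 1))} (hi : IsRot (m + 1) a (h.rotD i))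
    (χ φ : IrrCharacter G) :
    scaledSec hM hmax.1.1 (h.rotD i) χ φ = C.g χ (rotA a i) * conj (C.g φ (rotA a i)) := by
  have h2 : ((2 : ℂ) ^ (m + 1)) ≠ 0 := pow_ne_zero _ two_ne_zero
  rw [scaledSec, h.rot_classSec hmax C hi, h.defect_rot hmax hi, Nat.cast_pow, Nat.cast_ofNat,
    inv_mul_cancel_right₀ h2]

theorem rot_zero {i : ZMod (2 ^ (m + 1))} (hi : IsRot (m + 1) a (h.rotD i))
    {χ : IrrCharacter G} (hχ : χ ∉ B) : C.g χ (rotA a i) = 0 := by
  have h1 := h.rot_scaled hmax C hi χ χ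
  rw [scaledSec_eq_zero hmax _ hχ, eq_comm, Complex.mul_conj] at h1
  exact Complex.normSq_eq_zero.1 (by exact_mod_cast h1)

theorem rot_norm {i : ZMod (2 ^ (m + 1))} (hi : IsRot (m + 1) a (h.rotD i)) :
    ∑ χ : IrrCharacter G, C.g χ (rotA a i) * conj (C.g χ (rotA a i))
      = ((2 ^ (m + 1) : ℕ) : ℂ) := by
  rw [← Finset.sum_congr rfl fun χ _ => h.rot_scaled hmax C hi χ χ,
    sum_scaledSec_self hmax, h.rot_rank hmax hi, h.defect_rot hmax hi]
  push_cast
  ring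

theorem rot_orth {i l : ZMod (2 ^ (m + 1))} (hi : IsRot (m + 1) a (h.rotD i))
    (hl : IsRot (m + 1) a (h.rotD l)) (h1 : l ≠ i)
    (h2 : l ≠ (e : ZMod (2 ^ (m + 1))) * i) :
    ∑ χ : IrrCharacter G, C.g χ (rotA a i) * conj (C.g χ (rotA a l)) = 0 := by
  have hel : ∀ t : D, bel hM hmax.1.1 t ∈ elems 2 M G := fun t =>
    (isElemOf_of_below hM hmax (bel_below hM hmax.1.1 t)).mem hM.1
  have h0 := FreeAbelianCounts.sum_secPart_orth hM (hel (h.rotD i)) (hel (h.rotD l)) fun y hy => by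
    rcases h.rot_fused hmax (h.rotD i) (h.rotD l) hi.1 hl.1 ⟨y, hy⟩ with e1 | e1
    · exact h1 (h.rot_injective e1)
    · exact h2 (h.rot_injective (e1.trans (h.rot_mul i).symm))
  refine (mul_eq_zero.1 (Eq.trans ?_ h0)).resolve_right (mul_ne_zero
    (C.scal_ne (rotA a i) (h.cenZ_rot_le hi))
    ((map_ne_zero (starRingEnd ℂ)).2 (C.scal_ne (rotA a l) (h.cenZ_rot_le hl))))
  rw [Finset.sum_mul]
  refine Finset.sum_congr rfl fun χ _ => ?_
  have s1 : secPart (bel hM hmax.1.1 (h.rotD i)).1 (cenZ (bel hM hmax.1.1 (h.rotD i)).1)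
      (bel hM hmax.1.1 (h.rotD i)).2 χ 1 = C.g χ (rotA a i) * C.scal (rotA a i) :=
    C.sec (rotA a i) (h.rotD i).2 (h.cenZ_rot_le hi) χ
  have s2 : secPart (bel hM hmax.1.1 (h.rotD l)).1 (cenZ (bel hM hmax.1.1 (h.rotD l)).1)
      (bel hM hmax.1.1 (h.rotD l)).2 χ 1 = C.g χ (rotA a l) * C.scal (rotA a l) :=
    C.sec (rotA a l) (h.rotD l).2 (h.cenZ_rot_le hl) χ
  rw [s1, s2, map_mul]
  ring

include hmax in
theorem classSec_conj_eq (b w : D) (χ φ : IrrCharacter G) :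
    classSec hM hmax.1.1 (b * w * b⁻¹) χ φ = classSec hM hmax.1.1 w χ φ := by
  have hel := isElemOf_of_below hM hmax (bel_below hM hmax.1.1 w)
  rw [classSec, classSec, ← act_bel hM hmax.1.1 b w, secInner_act hM χ φ _ hel.1.2]
  congr 2
  rw [Nat.cast_inj, cenZ_eq, cenZ_eq]
  exact card_centralizer_conj (b : G) (w : G)

theorem rot_invariant {i : ZMod (2 ^ (m + 1))} (hi : IsRot (m + 1) a (h.rotD i))
    (χ φ : IrrCharacter G) :
    C.g χ (rotA a ((e : ZMod (2 ^ (m + 1))) * i))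
        * conj (C.g φ (rotA a ((e : ZMod (2 ^ (m + 1))) * i)))
      = C.g χ (rotA a i) * conj (C.g φ (rotA a i)) := by
  obtain ⟨b, hb, hbA⟩ := h.exists_outside
  have he : (⟨b, hb⟩ : D) * h.rotD i * (⟨b, hb⟩ : D)⁻¹
      = h.rotD ((e : ZMod (2 ^ (m + 1))) * i) :=
    Subtype.ext ((h.conj_rot ⟨b, hb⟩ hbA hi.1).trans (h.rot_mul i).symm)
  have hi' : IsRot (m + 1) a (h.rotD ((e : ZMod (2 ^ (m + 1))) * i)) :=
    he ▸ h.isRot_conj ⟨b, hb⟩ hbA hi
  have h1 := classSec_conj_eq (hM := hM) hmax (⟨b, hb⟩ : D) (h.rotD i) χ φ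
  rw [he, h.rot_classSec hmax C hi, h.rot_classSec hmax C hi'] at h1
  exact mul_right_cancel₀ (inv_ne_zero (Nat.cast_ne_zero.2 (pow_ne_zero _ two_ne_zero))) h1

end

/-- The values of a character of the cyclic group by its coefficients. -/
theorem exists_coeffs_char (h : Cyc D (m + 1) e a) {ω : ℂ}
    (hω : IsPrimitiveRoot ω (2 ^ (m + 1))) {f : Subgroup.zpowers a → ℂ}
    (hf : IsCharacter (Subgroup.zpowers a) f) :
    ∃ N : ZMod (2 ^ (m + 1)) → ℤ, ∀ i, f (rotA a i) = colVal hω N i := by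
  haveI : NeZero (2 ^ (m + 1)) := ⟨pow_ne_zero _ two_ne_zero⟩
  obtain ⟨d, ρ, hρ⟩ := hf
  obtain ⟨μ, hμ, hpow⟩ := Char.exists_eigenvalues ρ
    (⟨a, Subgroup.mem_zpowers a⟩ : Subgroup.zpowers a)
  rw [Subgroup.orderOf_mk, h.ord_a] at hμ
  choose l hl hlt using fun t => hω.eq_pow_of_pow_eq_one (hμ t)
  refine ⟨fun j => ((Finset.univ.filter fun t => ((l t : ℕ) : ZMod (2 ^ (m + 1))) = j).card : ℤ),
    fun i => ?_⟩
  have he : rotA a i = (⟨a, Subgroup.mem_zpowers a⟩ : Subgroup.zpowers a) ^ i.val :=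
    Subtype.ext (by simp [rotA])
  rw [he, ← hρ, hpow, colVal, ← Finset.sum_fiberwise (s := Finset.univ)
    (g := fun t => ((l t : ℕ) : ZMod (2 ^ (m + 1))))]
  refine Finset.sum_congr rfl fun j _ => ?_
  rw [Finset.sum_congr rfl (g := fun _ => zchar hω (i * j)) fun t ht => ?_, Finset.sum_const,
    nsmul_eq_mul]
  · push_cast; rfl
  · rw [← (Finset.mem_filter.1 ht).2, ← ZMod.natCast_zmod_val i, ← Nat.cast_mul, zchar_natCast,
      mul_comm, pow_mul, hlt, ZMod.natCast_zmod_val]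

/-- The weights at the rotations. -/
theorem exists_rho (h : Cyc D (m + 1) e a) (hmax : IsMaximalBrauerPair 2 M B D eD) (b : D)
    (hb : (b : G) ∉ Subgroup.zpowers a) :
    ∃ ρ : IrrCharacter G → ℤ,
      (∀ χ, 2 * ((2 : ℂ) ^ (m + 1) * ∑ t ∈ rotReps (m + 1) a b, classSec hM hmax.1.1 t χ χ)
        = 2 * (ρ χ : ℂ)) ∧
      (∀ χ, ρ χ = 0 → ∀ φ, ∀ t ∈ rotReps (m + 1) a b, classSec hM hmax.1.1 t χ φ = 0) ∧
      (∀ χ, 0 ≤ ρ χ) ∧
      (∀ χ, 2 ≤ m → (Odd (ρ χ) → ρ χ = 2 ^ m - 1 ∨ 2 * (2 : ℤ) ^ m - 1 ≤ ρ χ) ∧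
        (Even (ρ χ) → ρ χ = 0 ∨ 2 * (2 : ℤ) ^ m - 4 ≤ ρ χ)) ∧
      (∀ χ ∈ B, TwoMajor.ht B χ = 0 → Odd (ρ χ)) ∧
      (Finset.univ.filter fun χ : IrrCharacter G => χ ∈ B ∧ TwoMajor.ht B χ = 0).card ≤ 4 := by
  haveI : NeZero (2 ^ (m + 1)) := ⟨pow_ne_zero _ two_ne_zero⟩
  have hm : 1 ≤ m := by have := h.two_le; omega
  obtain ⟨C⟩ := h.nonempty_rotColumns (hM := hM) hmax
  set ω : ℂ := Complex.exp (2 * Real.pi * Complex.I / (2 ^ (m + 1) : ℕ))
  have hω : IsPrimitiveRoot ω (2 ^ (m + 1)) := Complex.isPrimitiveRoot_exp _ (NeZero.ne _)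
  obtain ⟨τ, hτ⟩ := exists_coeff_zero hω
  choose N hN using fun χ => h.exists_coeffs_char hω (C.char χ)
  obtain ⟨q, hq⟩ : ∃ q : ZMod (2 ^ (m + 1)), q = ((2 ^ m : ℕ) : ZMod (2 ^ (m + 1))) := ⟨_, rfl⟩
  obtain ⟨ε, hεdef⟩ : ∃ ε : ZMod (2 ^ (m + 1)), ε = (e : ZMod (2 ^ (m + 1))) := ⟨_, rfl⟩
  have hε : ε = -1 ∨ (2 ≤ m ∧ ε = ((2 ^ m : ℕ) : ZMod (2 ^ (m + 1))) - 1) := hεdef ▸ h.eps_kind
  have hqq : q * q = 0 := by
    rw [hq, ← Nat.cast_mul, ← pow_add, ZMod.natCast_eq_zero_iff]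
    exact pow_dvd_pow 2 (by omega)
  have hq2 : q + q = 0 := hq ▸ half_add_half
  have hq0 : q ≠ 0 := by
    rw [hq, ne_eq, ZMod.natCast_eq_zero_iff]
    exact fun hd => absurd (Nat.le_of_dvd (Nat.two_pow_pos m) hd)
      (by rw [pow_succ]; have := Nat.two_pow_pos m; omega)
  have hrot : ∀ i, IsRot (m + 1) a (h.rotD i) ↔ i ≠ 0 ∧ i ≠ q := fun i => hq ▸ h.isRot_rotD i
  set Eb : Fin (2 ^ m) → ZMod (2 ^ (m + 1)) := fun i => ((2 * (i : ℕ) : ℕ) : ZMod (2 ^ (m + 1)))
  set Ob : Fin (2 ^ m) → ZMod (2 ^ (m + 1)) := fun i => ((2 * (i : ℕ) + 1 : ℕ) : ZMod (2 ^ (m + 1)))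
  let ρ : IrrCharacter G → ℤ := fun χ => spread (N χ ∘ Eb) + spread (N χ ∘ Ob)
  -- the split into parity classes
  have hsplit : ∀ (R : Type) [AddCommMonoid R] (F : ZMod (2 ^ (m + 1)) → R),
      ∑ j, F j = ∑ i, F (Eb i) + ∑ i, F (Ob i) := by
    intro R _ F
    have hEO : Function.Bijective (Sum.elim Eb Ob) := by
      rw [Fintype.bijective_iff_injective_and_card]
      refine ⟨?_, by simp only [Fintype.card_sum, Fintype.card_fin, ZMod.card]; rw [pow_succ]; ring⟩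
      have hinj : ∀ x y : ℕ, x < 2 ^ (m + 1) → y < 2 ^ (m + 1) →
          (x : ZMod (2 ^ (m + 1))) = y → x = y := fun x y hx hy hxy => by
        rw [← ZMod.val_natCast_of_lt hx, ← ZMod.val_natCast_of_lt hy, hxy]
      rintro (x | x) (y | y) hxy <;>
        have := hinj _ _ (by have := x.2; rw [pow_succ]; omega)
          (by have := y.2; rw [pow_succ]; omega) hxy
      · rw [Fin.ext (show (x : ℕ) = y by omega)]
      · omega
      · omega
      · rw [Fin.ext (show (x : ℕ) = y by omega)]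
    rw [← Fintype.sum_equiv (Equiv.ofBijective _ hEO) (fun s => F (Sum.elim Eb Ob s)) F
      fun s => rfl, Fintype.sum_sum_type]
    rfl
  have hcard : Fintype.card (Fin (2 ^ m)) = 2 ^ m := Fintype.card_fin _
  have heven : Even (Fintype.card (Fin (2 ^ m))) := by
    rw [hcard]; exact Nat.even_pow.2 ⟨even_two, by omega⟩
  -- values and sums
  have hgsum : ∀ χ, ∑ i : ZMod (2 ^ (m + 1)), C.g χ (rotA a i) * conj (C.g χ (rotA a i))
      = ((2 ^ (m + 1) : ℕ) : ℂ) * ∑ j, (N χ j : ℂ) ^ 2 := by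
    intro χ
    simp only [hN, colVal, map_sum, map_mul, map_intCast, conj_zchar, Finset.sum_mul_sum]
    rw [Finset.sum_comm, Finset.mul_sum]
    refine Finset.sum_congr rfl fun j _ => ?_
    rw [Finset.sum_comm, Finset.sum_eq_single j]
    · rw [Finset.sum_congr rfl (g := fun i => (N χ j : ℂ) ^ 2 * zchar hω (i * 0)) fun i _ => by
        rw [show (N χ j : ℂ) * zchar hω (i * j) * ((N χ j : ℂ) * zchar hω (-(i * j)))
          = (N χ j : ℂ) ^ 2 * (zchar hω (i * j) * zchar hω (-(i * j))) by ring,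
          ← AddChar.map_add_eq_mul, add_neg_cancel, mul_zero], ← Finset.mul_sum, zchar_sum,
        if_pos rfl]
      ring
    · intro j' _ hne
      rw [Finset.sum_congr rfl (g := fun i =>
        (N χ j : ℂ) * (N χ j' : ℂ) * zchar hω (i * (j - j'))) fun i _ => by
        rw [mul_sub, sub_eq_add_neg, AddChar.map_add_eq_mul]; ring, ← Finset.mul_sum, zchar_sum,
        if_neg (sub_ne_zero.2 (Ne.symm hne)), mul_zero]
    · exact fun hh => absurd (Finset.mem_univ _) hh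
  have hzq : ∀ i : Fin (2 ^ m), zchar hω (q * Eb i) = 1 ∧ zchar hω (q * Ob i) = -1 := by
    intro i
    have hEq : q * Eb i = 0 := by
      simp only [Eb]; push_cast
      linear_combination (((i : ℕ) : ZMod (2 ^ (m + 1)))) * hq2
    refine ⟨by rw [hEq, AddChar.map_zero_eq_one], ?_⟩
    have hOq : q * Ob i = q := by
      simp only [Ob]; push_cast
      linear_combination (((i : ℕ) : ZMod (2 ^ (m + 1)))) * hq2
    rw [hOq, hq, zchar_half]
  have hg0 : ∀ χ, C.g χ (rotA a (0 : ZMod (2 ^ (m + 1)))) = ((∑ i, N χ (Eb i) : ℤ) : ℂ)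
      + ((∑ i, N χ (Ob i) : ℤ) : ℂ) := fun χ => by
    rw [hN, colVal, hsplit ℂ]
    simp [AddChar.map_zero_eq_one]
  have hgq : ∀ χ, C.g χ (rotA a q) = ((∑ i, N χ (Eb i) : ℤ) : ℂ)
      - ((∑ i, N χ (Ob i) : ℤ) : ℂ) := fun χ => by
    rw [hN, colVal, hsplit ℂ, Finset.sum_congr rfl fun i _ => by rw [(hzq i).1],
      Finset.sum_congr rfl (s₁ := (Finset.univ : Finset (Fin (2 ^ m))))
        (f := fun i => (N χ (Ob i) : ℂ) * zchar hω (q * Ob i)) fun i _ => by rw [(hzq i).2]]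
    simp [sub_eq_add_neg]
  have hρC : ∀ χ, ∑ w : D with IsRot (m + 1) a w, (2 : ℂ) ^ (m + 1) * classSec hM hmax.1.1 w χ χ
      = 2 * (ρ χ : ℂ) := by
    intro χ
    have hset : (Finset.univ.filter fun w : D => IsRot (m + 1) a w)
        = ((Finset.univ.erase (0 : ZMod (2 ^ (m + 1)))).erase q).image h.rotD := by
      ext w
      simp only [Finset.mem_image, Finset.mem_erase, Finset.mem_univ, and_true]
      constructor
      · intro hw
        obtain ⟨i, rfl⟩ := h.exists_rotD (Finset.mem_filter.1 hw).2.1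
        exact ⟨i, ((hrot i).1 (Finset.mem_filter.1 hw).2).symm, rfl⟩
      · rintro ⟨i, hi, rfl⟩
        exact Finset.mem_filter.2 ⟨Finset.mem_univ _, (hrot i).2 hi.symm⟩
    rw [hset, Finset.sum_image fun i _ l _ hil => h.rot_injective (congrArg Subtype.val hil),
      Finset.sum_congr rfl (g := fun i => C.g χ (rotA a i) * conj (C.g χ (rotA a i))) fun i hi => ?_]
    · rw [Finset.sum_erase_eq_sub (Finset.mem_erase.2 ⟨hq0, Finset.mem_univ _⟩),
        Finset.sum_erase_eq_sub (Finset.mem_univ _), hgsum, hg0, hgq, hsplit ℂ]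
      simp only [ρ, spread, hcard, Function.comp_apply, map_add, map_sub, map_intCast]
      push_cast
      rw [pow_succ]
      ring
    · simp only [Finset.mem_erase] at hi
      rw [h.rot_classSec hmax C ((hrot i).2 ⟨hi.2.1, hi.1⟩), mul_comm, mul_assoc, Nat.cast_pow,
        Nat.cast_ofNat, inv_mul_cancel₀ (pow_ne_zero _ two_ne_zero), mul_one]
  have hinv : ∀ χ φ w, IsRot (m + 1) a w →
      classSec hM hmax.1.1 (b * w * b⁻¹) χ φ = classSec hM hmax.1.1 w χ φ := fun χ φ w _ =>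
    classSec_conj_eq hmax b w χ φ
  have hρ1 : ∀ χ, 2 * ((2 : ℂ) ^ (m + 1) * ∑ t ∈ rotReps (m + 1) a b, classSec hM hmax.1.1 t χ χ)
      = 2 * (ρ χ : ℂ) := fun χ => by
    rw [← hρC χ, ← Finset.mul_sum, h.sum_rotReps b hb _ (hinv χ χ)]
    ring
  -- the zero case
  have hzero : ∀ χ, ρ χ = 0 → ∀ φ, ∀ t ∈ rotReps (m + 1) a b,
      classSec hM hmax.1.1 t χ φ = 0 := by
    intro χ h0 φ t ht
    have hN0 : ∀ i l, N χ (Eb i) = N χ (Eb l) ∧ N χ (Ob i) = N χ (Ob l) := by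
      have h1 := spread_nonneg (N χ ∘ Eb)
      have h2 := spread_nonneg (N χ ∘ Ob)
      simp only [ρ] at h0
      have key : ∀ x : Fin (2 ^ m) → ℤ, spread x = 0 → ∀ i l, x i = x l := fun x hx i l => by
        have h3 := two_mul_spread x
        rw [hx, mul_zero, eq_comm, Finset.sum_eq_zero_iff_of_nonneg fun i _ =>
          Finset.sum_nonneg fun j _ => sq_nonneg _] at h3
        have h4 := (Finset.sum_eq_zero_iff_of_nonneg fun j _ => sq_nonneg _).1
          (h3 i (Finset.mem_univ _)) l (Finset.mem_univ _)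
        exact sub_eq_zero.1 (pow_eq_zero_iff two_ne_zero |>.1 h4)
      exact fun i l => ⟨key (N χ ∘ Eb) (by omega) i l, key (N χ ∘ Ob) (by omega) i l⟩
    obtain ⟨i, rfl⟩ := h.exists_rotD (mem_rotReps ht).1
    obtain ⟨hi0, hiq⟩ := (hrot i).1 (mem_rotReps ht)
    suffices hz : C.g χ (rotA a i) = 0 by
      rw [h.rot_classSec hmax C (mem_rotReps ht), hz, zero_mul, zero_mul]
    -- multiply by the step of a parity class
    have hi2 : i + i ≠ 0 := by
      intro hh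
      refine h.rot_sq_ne (mem_rotReps ht) ?_
      show a ^ i.val * a ^ i.val = 1
      rw [← pow_add, ← zpow_natCast, ← h.rot_intCast, Int.cast_natCast, Nat.cast_add,
        ZMod.natCast_zmod_val, hh, ZMod.val_zero, pow_zero]
    have hconst : ∀ j, N χ (j + 2) = N χ j := by
      intro j
      have hj : ∀ j : ZMod (2 ^ (m + 1)), (∃ x, Eb x = j) ∨ ∃ x, Ob x = j := fun j => by
        have hv : j.val < 2 ^ m * 2 := by rw [← pow_succ]; exact j.val_lt
        rcases Nat.even_or_odd' j.val with ⟨x, hx | hx⟩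
        · exact Or.inl ⟨⟨x, by omega⟩, by simp only [Eb]; rw [← hx, ZMod.natCast_zmod_val]⟩
        · exact Or.inr ⟨⟨x, by omega⟩, by simp only [Ob]; rw [← hx, ZMod.natCast_zmod_val]⟩
      have hp : ∀ (x y : Fin (2 ^ m)), Eb x + 2 ≠ Ob y ∧ Ob x + 2 ≠ Eb y := by
        intro x y
        constructor <;> intro hh <;>
          have hh' := congrArg (ZMod.castHom (dvd_pow_self 2 (Nat.succ_ne_zero m)) (ZMod 2)) hh <;>
          simp only [Eb, Ob, map_add, map_natCast, map_ofNat] at hh' <;> push_cast at hh' <;>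
          simp only [show (2 : ZMod 2) = 0 from rfl, zero_mul, zero_add, add_zero] at hh'
        · exact zero_ne_one hh'
        · exact zero_ne_one hh'.symm
      rcases hj j with ⟨x, rfl⟩ | ⟨x, rfl⟩
      · rcases hj (Eb x + 2) with ⟨y, hy⟩ | ⟨y, hy⟩
        · rw [← hy]; exact (hN0 y x).1
        · exact absurd hy.symm (hp x y).1
      · rcases hj (Ob x + 2) with ⟨y, hy⟩ | ⟨y, hy⟩
        · exact absurd hy.symm (hp x y).2
        · rw [← hy]; exact (hN0 y x).2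
    have hshift : C.g χ (rotA a i) = zchar hω (i + i) * C.g χ (rotA a i) := by
      rw [hN, colVal, Finset.mul_sum]
      refine (Fintype.sum_equiv (Equiv.addRight 2) _ _ fun j => ?_).symm
      simp only [Equiv.coe_addRight, hconst]
      rw [← mul_assoc, mul_comm (zchar hω (i + i)), mul_assoc, ← AddChar.map_add_eq_mul]
      congr 2
      ring
    by_contra hne
    refine hi2 ?_
    have h1 : zchar hω (i + i) = 1 := mul_right_cancel₀ hne (hshift.symm.trans (one_mul _).symm)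
    rw [← ZMod.natCast_zmod_val (i + i), zchar_natCast, hω.pow_eq_one_iff_dvd] at h1
    rw [← ZMod.natCast_zmod_val (i + i), ZMod.natCast_eq_zero_iff]
    exact h1
  -- parity at height zero
  have hρpar : ∀ χ, ((ρ χ : ℤ) : ZMod 2) = ((∑ j, N χ j : ℤ) : ZMod 2) := fun χ => by
    simp only [ρ, Int.cast_add, spread_parity heven, hsplit ℤ (N χ), Function.comp_apply]
  have h1r : IsRot (m + 1) a (h.rotD 1) := by
    refine (hrot 1).2 ⟨?_, ?_⟩
    · haveI : Fact (1 < 2 ^ (m + 1)) := ⟨Nat.one_lt_two_pow (Nat.succ_ne_zero m)⟩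
      exact one_ne_zero
    · intro hh
      have h2 : (1 : ZMod (2 ^ (m + 1))) + 1 = 0 := by rw [hh]; exact hq2
      rw [← Nat.cast_one (R := ZMod (2 ^ (m + 1))), ← Nat.cast_add, ZMod.natCast_eq_zero_iff] at h2
      have := Nat.le_of_dvd two_pos h2
      have : 2 ^ 2 ≤ 2 ^ (m + 1) := Nat.pow_le_pow_right two_pos (by omega)
      omega
  have hcongr : ∀ χ, MemLocalIdeal M (C.g χ (rotA a (1 : ZMod (2 ^ (m + 1))))
      - ((∑ j, N χ j : ℤ) : ℂ)) := by
    intro χ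
    rw [hN, colVal, Int.cast_sum, ← Finset.sum_sub_distrib]
    refine LI.sum hM fun j _ => ?_
    rw [show (N χ j : ℂ) * zchar hω (1 * j) - (N χ j : ℂ)
      = (N χ j : ℂ) * (zchar hω (1 * j) - 1) by ring]
    refine LI.mul_left hM (LR.intCast hM _) (LI.root_sub_one hM (k := m + 1) ?_)
    rw [← ZMod.natCast_zmod_val (1 * j), zchar_natCast, ← pow_mul, mul_comm, pow_mul, hω.pow_eq_one,
      one_pow]
  have hzLR : ∀ χ (i : ZMod (2 ^ (m + 1))), MemLocalRing M (C.g χ (rotA a i)) := by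
    intro χ (i : ZMod (2 ^ (m + 1)))
    rw [hN, colVal]
    refine LR.sum hM fun j _ => LR.mul hM (LR.intCast hM _) (LR.of_isIntegral hM
      (CfsgLib.Char.isIntegral_of_pow_eq_one (n := 2 ^ (m + 1)) (NeZero.ne _) ?_))
    rw [← ZMod.natCast_zmod_val (i * j), zchar_natCast, ← pow_mul, mul_comm, pow_mul,
      hω.pow_eq_one, one_pow]
  have hdeg : ∀ χ ∈ B, TwoMajor.ht B χ = 0 → degVal 2 χ = minDegVal 2 B := fun χ hχ h0 => by
    have := minDegVal_le (p := 2) hχ
    simp only [TwoMajor.ht] at h0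
    omega
  have hunit : ∀ χ ∈ B, TwoMajor.ht B χ = 0 →
      ¬ MemLocalIdeal M (C.g χ (rotA a (1 : ZMod (2 ^ (m + 1))))) := by
    intro χ hχ h0 hI
    refine scaledSec_not_LI (hM := hM) hmax (h.rotD 1) hχ hχ (hdeg χ hχ h0) (hdeg χ hχ h0) ?_
    rw [h.rot_scaled hmax C h1r]
    refine LI.mul_right hM hI ?_
    rw [hN, colVal, map_sum]
    refine LR.sum hM fun j _ => ?_
    rw [map_mul, map_intCast, conj_zchar]
    refine LR.mul hM (LR.intCast hM _) (LR.of_isIntegral hM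
      (CfsgLib.Char.isIntegral_of_pow_eq_one (n := 2 ^ (m + 1)) (NeZero.ne _) ?_))
    rw [← ZMod.natCast_zmod_val (-(1 * j)), zchar_natCast, ← pow_mul, mul_comm, pow_mul,
      hω.pow_eq_one, one_pow]
  have hsodd : ∀ χ ∈ B, TwoMajor.ht B χ = 0 → Odd (∑ j, N χ j) := by
    intro χ hχ h0
    by_contra hev
    refine hunit χ hχ h0 ?_
    have h2 : MemLocalIdeal M ((∑ j, N χ j : ℤ) : ℂ) := (LI.intCast_iff hM _).2 (by
      exact_mod_cast (Int.not_odd_iff_even.1 hev).two_dvd)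
    have := LI.add hM (hcongr χ) h2
    rwa [sub_add_cancel] at this
  refine ⟨ρ, hρ1, hzero, fun χ => add_nonneg (spread_nonneg _) (spread_nonneg _), fun χ hm2 => ?_,
    fun χ hχ h0 => ?_, ?_⟩
  · -- the cases
    have h4 : 4 ∣ Fintype.card (Fin (2 ^ m)) := by
      rw [hcard]; exact (pow_dvd_pow 2 hm2 : 2 ^ 2 ∣ 2 ^ m)
    have c1 := spread_cases h4 (N χ ∘ Eb)
    have c2 := spread_cases h4 (N χ ∘ Ob)
    rw [hcard, Nat.cast_pow, Nat.cast_ofNat] at c1 c2
    have h1 := spread_nonneg (N χ ∘ Eb)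
    have h2 := spread_nonneg (N χ ∘ Ob)
    have hbig : (4 : ℤ) ≤ 2 ^ m := by
      calc (4 : ℤ) = 2 ^ 2 := by norm_num
        _ ≤ _ := pow_le_pow_right₀ (by norm_num) hm2
    simp only [ρ]
    rcases Int.even_or_odd (spread (N χ ∘ Eb)) with p1 | p1 <;>
      rcases Int.even_or_odd (spread (N χ ∘ Ob)) with p2 | p2
    · refine ⟨fun ho => absurd (p1.add p2) (Int.not_even_iff_odd.2 ho), fun _ => ?_⟩
      rcases c1.2 p1 with e1 | e1 <;> rcases c2.2 p2 with e2 | e2 <;> omega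
    · refine ⟨fun _ => ?_, fun he => absurd he (Int.not_even_iff_odd.2 (p1.add_odd p2))⟩
      rcases c1.2 p1 with e1 | e1 <;> rcases c2.1 p2 with e2 | e2 <;> omega
    · refine ⟨fun _ => ?_, fun he => absurd he (Int.not_even_iff_odd.2 (p1.add_even p2))⟩
      rcases c1.1 p1 with e1 | e1 <;> rcases c2.2 p2 with e2 | e2 <;> omega
    · refine ⟨fun ho => absurd (p1.add_odd p2) (Int.not_even_iff_odd.2 ho), fun _ => ?_⟩
      rcases c1.1 p1 with e1 | e1 <;> rcases c2.1 p2 with e2 | e2 <;> omega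
  · rw [← ZMod.intCast_eq_one_iff_odd, hρpar, ZMod.intCast_eq_one_iff_odd]
    exact hsodd χ hχ h0
  -- at most four characters of height zero
  obtain ⟨χ₁, hχ₁, h10⟩ := exists_degVal_eq_min (p := 2) (IsPBlock.nonempty hM hmax.1.2.1)
  have h10' : TwoMajor.ht B χ₁ = 0 := by simp [TwoMajor.ht, h10]
  have hee : ε * ε = 1 := eps_mul_self hε
  have heq : ε * q = q := by
    rcases hε with h' | ⟨-, h'⟩
    · linear_combination q * h' - hq2
    · rw [← hq] at h'; linear_combination q * h' + hqq - hq2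
  have heps : IsRot (m + 1) a (h.rotD ε) := by
    refine (hrot ε).2 ⟨fun hh => ?_, fun hh => ?_⟩
    · rw [hh, zero_mul] at hee
      haveI : Fact (1 < 2 ^ (m + 1)) := ⟨Nat.one_lt_two_pow (Nat.succ_ne_zero m)⟩
      exact zero_ne_one hee
    · have h1 := hee
      rw [hh, hqq] at h1
      haveI : Fact (1 < 2 ^ (m + 1)) := ⟨Nat.one_lt_two_pow (Nat.succ_ne_zero m)⟩
      exact zero_ne_one h1
  obtain ⟨u₁, hu₁⟩ : ∃ u, u = C.g χ₁ (rotA a (1 : ZMod (2 ^ (m + 1)))) := ⟨_, rfl⟩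
  have hu1ne : u₁ ≠ 0 := hu₁ ▸ ne_zero_of_not_LI hM (hunit χ₁ hχ₁ h10')
  have hinv1 : ∀ χ φ : IrrCharacter G, C.g χ (rotA a ε) * conj (C.g φ (rotA a ε))
      = C.g χ (rotA a (1 : ZMod (2 ^ (m + 1)))) * conj (C.g φ (rotA a (1 : ZMod (2 ^ (m + 1))))) :=
    fun χ φ => by
      have := h.rot_invariant hmax C h1r χ φ
      rwa [← hεdef, mul_one] at this
  obtain ⟨r, hr⟩ : ∃ r, r = C.g χ₁ (rotA a ε) / u₁ := ⟨_, rfl⟩
  have hrnorm : r * conj r = 1 := by
    rw [hr, map_div₀, div_mul_div_comm, hinv1, ← hu₁,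
      div_self (mul_ne_zero hu1ne ((map_ne_zero (starRingEnd ℂ)).2 hu1ne))]
  have hrne : r ≠ 0 := fun hh => by rw [hh, zero_mul] at hrnorm; exact zero_ne_one hrnorm
  have hrel : ∀ χ, C.g χ (rotA a ε) = r * C.g χ (rotA a (1 : ZMod (2 ^ (m + 1)))) := by
    intro χ
    have h1 := hinv1 χ χ₁
    have hre : C.g χ₁ (rotA a ε) = r * u₁ := by rw [hr, div_mul_cancel₀ _ hu1ne]
    rw [hre, ← hu₁, map_mul, ← mul_assoc] at h1
    have h2 := mul_right_cancel₀ ((map_ne_zero (starRingEnd ℂ)).2 hu1ne) h1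
    calc C.g χ (rotA a ε) = C.g χ (rotA a ε) * (r * conj r) := by rw [hrnorm, mul_one]
      _ = r * (C.g χ (rotA a ε) * conj r) := by ring
      _ = _ := by rw [h2]
  have hmem : ∀ χ (i : ZMod (2 ^ (m + 1))), C.g χ (rotA a i) ∈ Algebra.adjoin ℤ ({ω} : Set ℂ) ∧
      conj (C.g χ (rotA a i)) ∈ Algebra.adjoin ℤ ({ω} : Set ℂ) := by
    intro χ (i : ZMod (2 ^ (m + 1)))
    have hz : ∀ x, zchar hω x ∈ Algebra.adjoin ℤ ({ω} : Set ℂ) := fun x => by
      rw [← ZMod.natCast_zmod_val x, zchar_natCast]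
      exact pow_mem (Algebra.self_mem_adjoin_singleton ℤ ω) _
    rw [hN, colVal, map_sum]
    refine ⟨sum_mem fun j _ => Subalgebra.mul_mem _ (intCast_mem _ _) (hz _), sum_mem fun j _ => ?_⟩
    rw [map_mul, map_intCast, conj_zchar]
    exact Subalgebra.mul_mem _ (intCast_mem _ _) (hz _)
  have hrmem : r ∈ Algebra.adjoin ℤ ({ω} : Set ℂ) := by
    have hnr : (2 : ℂ) ^ (m + 1) * r ∈ Algebra.adjoin ℤ ({ω} : Set ℂ) := by
      have e1 : (2 : ℂ) ^ (m + 1) * r = ∑ χ : IrrCharacter G,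
          C.g χ (rotA a ε) * conj (C.g χ (rotA a (1 : ZMod (2 ^ (m + 1))))) := by
        rw [Finset.sum_congr rfl fun χ _ => by rw [hrel χ, mul_assoc], ← Finset.mul_sum,
          h.rot_norm hmax C h1r, mul_comm]
        push_cast; rfl
      rw [e1]
      exact sum_mem fun χ _ => Subalgebra.mul_mem _ (hmem χ ε).1 (hmem χ _).2
    have h2ne : (2 : ℂ) ^ (m + 1) ≠ 0 := pow_ne_zero _ two_ne_zero
    have := div_two_pow_mem hM hω (m + 1) hnr (by
      rw [mul_div_cancel_left₀ _ h2ne, hr, div_eq_mul_inv]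
      exact LR.mul hM (hzLR _ _) (LR.inv hM (hu₁ ▸ hzLR _ _) (hu₁ ▸ hunit χ₁ hχ₁ h10')))
    rwa [mul_div_cancel_left₀ _ h2ne] at this
  obtain ⟨s, hs⟩ := exists_shift hω hτ hrmem hrnorm
  have hsym : ∀ χ j, opp (N χ) (ε * j - s) = opp (N χ) j := fun χ =>
    opp_symm hω hτ hε (N χ) (by rw [← hN, ← hN, hrel, hs])
  obtain ⟨j₀, hj₀⟩ := exists_fixed hε hm (N χ₁) (hsym χ₁) (hsodd χ₁ hχ₁ h10')
  -- odd indices
  have hsign : ∀ i, zchar hω (i * q) = 1 ∨ zchar hω (i * q) = -1 := fun i => by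
    apply mul_self_eq_one_iff.1
    rw [← AddChar.map_add_eq_mul, ← mul_add, hq2, mul_zero, AddChar.map_zero_eq_one]
  have hoddrot : ∀ i, zchar hω (i * q) = -1 → IsRot (m + 1) a (h.rotD i) := by
    intro i hi
    refine (hrot i).2 ⟨fun hh => ?_, fun hh => ?_⟩ <;> rw [hh] at hi
    · rw [zero_mul, AddChar.map_zero_eq_one] at hi; norm_num at hi
    · rw [hqq, AddChar.map_zero_eq_one] at hi; norm_num at hi
  have hneg_zchar : ∀ i, zchar hω (-(i * q)) = zchar hω (i * q) := fun i => by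
    congr 1
    rw [neg_eq_iff_add_eq_zero, ← mul_add, hq2, mul_zero]
  have hreflect : ∀ χ i, zchar hω (i * q) = -1 →
      C.g χ (rotA a (ε * i)) = zchar hω (-(ε * i * s)) * C.g χ (rotA a i) := by
    intro χ i hi
    have hhalf : ∀ l, zchar hω (l * q) = -1 → (2 : ℂ) * C.g χ (rotA a l)
        = ∑ j, (opp (N χ) j : ℂ) * zchar hω (l * j) := by
      intro l hl
      have hshift : ∑ j, (N χ (j + q) : ℂ) * zchar hω (l * j) = - C.g χ (rotA a l) := by
        rw [hN, colVal, ← Finset.sum_neg_distrib]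
        refine Fintype.sum_equiv (Equiv.addRight q) _ _ fun j => ?_
        simp only [Equiv.coe_addRight, mul_add, AddChar.map_add_eq_mul, hl]
        ring
      simp only [opp, ← hq, Int.cast_sub, sub_mul, Finset.sum_sub_distrib, hshift]
      rw [hN, colVal]
      ring
    have hiq : zchar hω (ε * i * q) = -1 := by rw [mul_comm ε i, mul_assoc, heq, hi]
    apply mul_left_cancel₀ (two_ne_zero' ℂ)
    rw [mul_left_comm, hhalf _ hiq, hhalf _ hi, Finset.mul_sum]
    let E : ZMod (2 ^ (m + 1)) ≃ ZMod (2 ^ (m + 1)) :=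
      Equiv.mk (fun x => ε * x - s) (fun x => ε * (x + s))
        (fun x => by show ε * (ε * x - s + s) = x; rw [sub_add_cancel, ← mul_assoc, hee, one_mul])
        (fun x => by show ε * (ε * (x + s)) - s = x
                     rw [← mul_assoc, hee, one_mul, add_sub_cancel_right])
    refine (Fintype.sum_equiv E _ _ fun j => ?_).symm
    show _ = (opp (N χ) (ε * j - s) : ℂ) * zchar hω (ε * i * (ε * j - s))
    rw [hsym, show ε * i * (ε * j - s) = i * j + -(ε * i * s) by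
      linear_combination (i * j) * hee, AddChar.map_add_eq_mul]
    ring
  let K : ZMod (2 ^ (m + 1)) → ℂ := fun i =>
    zchar hω (-(i * j₀)) * (1 - zchar hω (-(i * q)))
  have hK : ∀ i, zchar hω (i * q) = 1 → K i = 0 := fun i hi => by
    simp only [K, hneg_zchar, hi, sub_self, mul_zero]
  have hK' : ∀ i, zchar hω (i * q) = -1 → K i = 2 * zchar hω (-(i * j₀)) := fun i hi => by
    simp only [K, hneg_zchar, hi]; ring
  have hKc : ∀ χ, ((2 ^ (m + 1) : ℕ) : ℂ) * (opp (N χ) j₀ : ℂ)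
      = ∑ i, C.g χ (rotA a i) * K i := by
    intro χ
    have hinvN : ∀ x, ∑ i, C.g χ (rotA a i) * zchar hω (-(i * x))
        = ((2 ^ (m + 1) : ℕ) : ℂ) * (N χ x : ℂ) := by
      intro x
      simp only [hN, colVal, Finset.sum_mul]
      rw [Finset.sum_comm, Finset.sum_eq_single x]
      · rw [Finset.sum_congr rfl (g := fun i => (N χ x : ℂ) * zchar hω (i * 0)) fun i _ => by
          rw [mul_assoc, ← AddChar.map_add_eq_mul, add_neg_cancel, mul_zero], ← Finset.mul_sum,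
          zchar_sum, if_pos rfl]
        ring
      · intro y _ hne
        rw [Finset.sum_congr rfl (g := fun i => (N χ y : ℂ) * zchar hω (i * (y - x))) fun i _ => by
          rw [mul_assoc, ← AddChar.map_add_eq_mul, mul_sub, sub_eq_add_neg], ← Finset.mul_sum,
          zchar_sum, if_neg (sub_ne_zero.2 hne), mul_zero]
      · exact fun hh => absurd (Finset.mem_univ _) hh
    rw [opp, ← hq, Int.cast_sub, mul_sub, ← hinvN, ← hinvN, ← Finset.sum_sub_distrib]
    refine Finset.sum_congr rfl fun i _ => ?_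
    simp only [K, mul_add, neg_add, AddChar.map_add_eq_mul]
    ring
  have hinner : ∀ i, ∑ l, ∑ χ : IrrCharacter G,
      C.g χ (rotA a i) * K i * conj (C.g χ (rotA a l) * K l)
      = ((2 ^ (m + 1) : ℕ) : ℂ) * (4 * (1 - zchar hω (i * q))) := by
    intro i
    rcases hsign i with hi | hi
    · rw [hi, sub_self, mul_zero, mul_zero]
      exact Finset.sum_eq_zero fun l _ => Finset.sum_eq_zero fun χ _ => by rw [hK i hi]; ring
    have hir := hoddrot i hi
    have hne : ε * i ≠ i := by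
      intro hh
      obtain ⟨b', hb', hbA⟩ := h.exists_outside
      refine h.conj_rot_ne ⟨b', hb'⟩ hbA hir (Subtype.ext ((h.conj_rot ⟨b', hb'⟩ hbA hir.1).trans ?_))
      show (a ^ i.val) ^ e = a ^ i.val
      rw [← h.rot_mul, ← hεdef, hh]
    have heiq : zchar hω (ε * i * q) = -1 := by rw [mul_comm ε i, mul_assoc, heq, hi]
    rw [← Finset.sum_subset (Finset.subset_univ {i, ε * i}) fun l _ hl => ?_, Finset.sum_pair hne.symm]
    · have t1 : ∑ χ : IrrCharacter G, C.g χ (rotA a i) * K i * conj (C.g χ (rotA a i) * K i)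
          = ((2 ^ (m + 1) : ℕ) : ℂ) * 4 := by
        rw [Finset.sum_congr rfl (g := fun χ => (K i * conj (K i)) *
          (C.g χ (rotA a i) * conj (C.g χ (rotA a i)))) fun χ _ => by rw [map_mul]; ring,
          ← Finset.mul_sum, h.rot_norm hmax C hir, hK' i hi, map_mul, map_ofNat, conj_zchar,
          neg_neg, show ∀ x y : ℂ, 2 * x * (2 * y) = 4 * (x * y) by intros; ring,
          ← AddChar.map_add_eq_mul, neg_add_cancel, AddChar.map_zero_eq_one]
        ring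
      have t2 : ∑ χ : IrrCharacter G,
          C.g χ (rotA a i) * K i * conj (C.g χ (rotA a (ε * i)) * K (ε * i))
          = ((2 ^ (m + 1) : ℕ) : ℂ) * 4 := by
        rw [Finset.sum_congr rfl (g := fun χ =>
          (K i * conj (zchar hω (-(ε * i * s)) * K (ε * i))) *
          (C.g χ (rotA a i) * conj (C.g χ (rotA a i)))) fun χ _ => by
            rw [hreflect χ i hi]; simp only [K, map_mul]; ring,
          ← Finset.mul_sum, h.rot_norm hmax C hir, hK' i hi, hK' _ heiq]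
        simp only [map_mul, map_ofNat, conj_zchar, neg_neg]
        rw [show ∀ x y z : ℂ, 2 * x * (y * (2 * z)) = 4 * (x * (y * z)) by intros; ring,
          ← AddChar.map_add_eq_mul, ← AddChar.map_add_eq_mul,
          show -(i * j₀) + (ε * i * s + ε * i * j₀) = 0 by
            have : s = ε * j₀ - j₀ := by linear_combination -hj₀
            rw [this]
            linear_combination (i * j₀) * hee, AddChar.map_zero_eq_one]
        ring
      rw [t1, t2, hi]
      ring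
    · simp only [Finset.mem_insert, Finset.mem_singleton, not_or] at hl
      rcases hsign l with hl' | hl'
      · exact Finset.sum_eq_zero fun χ _ => by rw [hK l hl']; simp
      · rw [Finset.sum_congr rfl (g := fun χ => (K i * conj (K l)) *
          (C.g χ (rotA a i) * conj (C.g χ (rotA a l)))) fun χ _ => by rw [map_mul]; ring,
          ← Finset.mul_sum, h.rot_orth hmax C hir (hoddrot l hl') hl.1 (hεdef ▸ hl.2), mul_zero]
  have hsum4 : ∑ χ : IrrCharacter G, opp (N χ) j₀ ^ 2 = 4 := by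
    apply Int.cast_injective (α := ℂ)
    have hne : ((2 ^ (m + 1) : ℕ) : ℂ) ≠ 0 := Nat.cast_ne_zero.2 (NeZero.ne _)
    apply mul_left_cancel₀ (mul_ne_zero hne hne)
    have hcc : ∀ χ, ((2 ^ (m + 1) : ℕ) : ℂ) * ((2 ^ (m + 1) : ℕ) : ℂ)
        * ((opp (N χ) j₀ ^ 2 : ℤ) : ℂ) = ∑ i, ∑ l,
          C.g χ (rotA a i) * K i * conj (C.g χ (rotA a l) * K l) := by
      intro χ
      rw [← Finset.sum_mul_sum, ← map_sum, ← hKc χ, map_mul, map_natCast, map_intCast]
      push_cast; ring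
    rw [Int.cast_sum, Finset.mul_sum, Finset.sum_congr rfl fun χ _ => hcc χ, Finset.sum_comm,
      Finset.sum_congr rfl fun i _ => (Finset.sum_comm.trans (hinner i)), ← Finset.mul_sum,
      ← Finset.mul_sum, Finset.sum_sub_distrib, zchar_sum, if_neg hq0, sub_zero, Finset.sum_const,
      Finset.card_univ, ZMod.card, nsmul_one]
    push_cast
    ring
  -- the parity at the fixed point
  have hpar : ∀ χ, ((opp (N χ) j₀ : ℤ) : ZMod 2) = ((∑ j, N χ j : ℤ) : ZMod 2) := fun χ =>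
    opp_fixed_parity hε hm (N χ) (hsym χ) hj₀
  rw [show (4 : ℕ) = (4 : ℤ).toNat from rfl]
  refine Int.le_toNat (by norm_num) |>.2 ?_
  rw [← hsum4, Finset.card_eq_sum_ones, Nat.cast_sum]
  refine le_trans (Finset.sum_le_sum (g := fun χ => opp (N χ) j₀ ^ 2) fun χ hχ => ?_)
    (Finset.sum_le_sum_of_subset_of_nonneg (Finset.subset_univ _) fun χ _ _ => sq_nonneg _)
  obtain ⟨hχB, hχ0⟩ := (Finset.mem_filter.1 hχ).2
  have hodd : Odd (opp (N χ) j₀) := by
    rw [← ZMod.intCast_eq_one_iff_odd, hpar, ZMod.intCast_eq_one_iff_odd]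
    exact hsodd χ hχB hχ0
  obtain ⟨x, hx⟩ := hodd
  rw [hx]
  push_cast
  rcases le_or_gt 0 x with hx0 | hx0 <;> nlinarith

end Cyc

end CfsgLib.Blocks.TameDefect
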