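import Cfsg.Agent.Lib.Blocks.TameDefect.Shape
import Mathlib.GroupTheory.SpecificGroups.Quaternion

/-!
# Two-groups of maximal class given by their cyclic subgroup of index two
-/

set_option autoImplicit false
set_option maxHeartbeats 800000

namespace CfsgLib.Blocks.TameDefect

variable {G : Type*} [Group G]

/-- `D` has order `2 ^ (k + 1)`, `a` generates a cyclic subgroup of index two and the elements
outside act on it as `a ↦ a ^ e`: dihedral, semidihedral or quaternion. -/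
structure Cyc (D : Subgroup G) (k : ℕ) (e : ℤ) (a : G) : Prop where
  two_le : 2 ≤ k
  a_mem : a ∈ D
  ord_a : orderOf a = 2 ^ k
  card : Nat.card D = 2 ^ (k + 1)
  conj : ∀ x ∈ D, x ∉ Subgroup.zpowers a → x * a * x⁻¹ = a ^ e
  kind : e = -1 ∨ (3 ≤ k ∧ e = 2 ^ (k - 1) - 1)

namespace Cyc

variable {D : Subgroup G} {k : ℕ} {e : ℤ} {a : G}

theorem e_odd (h : Cyc D k e a) : (4 : ℤ) ∣ e + 1 := by
  rcases h.kind with rfl | ⟨hk, rfl⟩
  · simp
  · rw [sub_add_cancel, show (4 : ℤ) = 2 ^ 2 by norm_num]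
    exact pow_dvd_pow 2 (by omega)

theorem zpowers_le (h : Cyc D k e a) : Subgroup.zpowers a ≤ D := Subgroup.zpowers_le.2 h.a_mem

theorem z_mem (h : Cyc D k e a) : zinv k a ∈ D := D.pow_mem h.a_mem _

theorem z_mem_zpowers (_h : Cyc D k e a) : zinv k a ∈ Subgroup.zpowers a :=
  Subgroup.pow_mem _ (Subgroup.mem_zpowers a) _

theorem card_eq (h : Cyc D k e a) : Nat.card D = 4 * 2 ^ (k - 1) := by
  rw [h.card, pow_succ, ← two_pow_mul (show 1 ≤ k by have := h.two_le; omega)]; ring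

theorem ord_eq (h : Cyc D k e a) : orderOf a = 2 * 2 ^ (k - 1) := by
  rw [h.ord_a, mul_comm, two_pow_mul (show 1 ≤ k by have := h.two_le; omega)]

theorem z_sq (h : Cyc D k e a) : zinv k a * zinv k a = 1 := by
  rw [zinv, ← pow_add, ← two_mul, mul_comm, two_pow_mul (by have := h.two_le; omega), ← h.ord_a,
    pow_orderOf_eq_one]

theorem z_ne_one (h : Cyc D k e a) : zinv k a ≠ 1 :=
  pow_ne_one_of_lt_orderOf (Nat.two_pow_pos _).ne' (by
    rw [h.ord_a]; exact Nat.pow_lt_pow_right (by omega) (by have := h.two_le; omega))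

theorem orderOf_z (h : Cyc D k e a) : orderOf (zinv k a) = 2 :=
  orderOf_eq_prime (by rw [pow_two]; exact h.z_sq) h.z_ne_one

theorem index_two (h : Cyc D k e a) [Finite G] :
    ((Subgroup.zpowers a).subgroupOf D).index = 2 := by
  have h1 := Subgroup.card_mul_index ((Subgroup.zpowers a).subgroupOf D)
  rw [Nat.card_congr (Subgroup.subgroupOfEquivOfLe h.zpowers_le).toEquiv, Nat.card_zpowers,
    h.ord_a, h.card, pow_succ] at h1
  exact Nat.eq_of_mul_eq_mul_left (Nat.two_pow_pos k) h1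

theorem mul_mem (h : Cyc D k e a) [Finite G] {x y : G} (hx : x ∈ D) (hy : y ∈ D)
    (hxA : x ∉ Subgroup.zpowers a) (hyA : y ∉ Subgroup.zpowers a) :
    x⁻¹ * y ∈ Subgroup.zpowers a := by
  have := (Subgroup.mul_mem_iff_of_index_two (H := (Subgroup.zpowers a).subgroupOf D) h.index_two
    (a := (⟨x, hx⟩ : D)⁻¹) (b := ⟨y, hy⟩)).2 (by simp [Subgroup.mem_subgroupOf, hxA, hyA])
  simpa [Subgroup.mem_subgroupOf] using this

theorem exists_outside (h : Cyc D k e a) [Finite G] : ∃ b ∈ D, b ∉ Subgroup.zpowers a := by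
  by_contra hh
  push Not at hh
  have := Subgroup.card_le_of_le (show D ≤ Subgroup.zpowers a from hh)
  rw [Nat.card_zpowers, h.ord_a, h.card, pow_succ] at this
  have := Nat.two_pow_pos k
  omega

theorem exists_eq (h : Cyc D k e a) [Finite G] {b x : G} (hb : b ∈ D)
    (hbA : b ∉ Subgroup.zpowers a) (hx : x ∈ D) (hxA : x ∉ Subgroup.zpowers a) :
    ∃ i : ℤ, x = b * a ^ i := by
  obtain ⟨i, hi⟩ := Subgroup.mem_zpowers_iff.1 (h.mul_mem hb hx hbA hxA)
  exact ⟨i, by rw [hi, mul_inv_cancel_left]⟩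

theorem conj_zpow (h : Cyc D k e a) {x : G} (hx : x ∈ D) (hxA : x ∉ Subgroup.zpowers a) (j : ℤ) :
    x * a ^ j * x⁻¹ = a ^ (j * e) := by
  rw [← _root_.conj_zpow, h.conj x hx hxA, ← zpow_mul, mul_comm]

theorem half (h : Cyc D k e a) (t : ℤ) :
    a ^ ((2 : ℤ) ^ (k - 1) * t) = 1 ∨ a ^ ((2 : ℤ) ^ (k - 1) * t) = zinv k a := by
  have e' : a ^ ((2 : ℤ) ^ (k - 1) * t) = zinv k a ^ t := by
    rw [zpow_mul, zinv, ← zpow_natCast a (2 ^ (k - 1))]; norm_cast
  have hz2 : zinv k a ^ (2 : ℤ) = 1 := by rw [zpow_two]; exact h.z_sq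
  rcases Int.even_or_odd' t with ⟨m, rfl | rfl⟩
  · left; rw [e', zpow_mul, hz2, one_zpow]
  · right; rw [e', zpow_add, zpow_mul, hz2, one_zpow, one_mul, zpow_one]

/-- The fixed points of the action. -/
theorem zpow_fixed (h : Cyc D k e a) {j : ℤ} (hj : a ^ j = a ^ (j * e)) :
    a ^ j = 1 ∨ a ^ j = zinv k a := by
  rw [zpow_eq_zpow_iff_modEq, h.ord_a, Int.modEq_iff_dvd] at hj
  obtain ⟨u, hu⟩ := h.e_odd
  have h2 : ((2 : ℤ) ^ (k - 1) * 2) ∣ 2 * ((2 * u - 1) * j) := by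
    have e' : ((2 : ℤ) ^ (k - 1) * 2) = ((2 ^ k : ℕ) : ℤ) := by
      rw [← two_pow_mul (show 1 ≤ k by have := h.two_le; omega)]; push_cast; rfl
    rw [e']
    convert hj using 1
    linear_combination (-j) * hu
  rw [mul_comm ((2 : ℤ) ^ (k - 1))] at h2
  have h3 := Int.dvd_of_mul_dvd_mul_left two_ne_zero h2
  have hcop : IsCoprime ((2 : ℤ) ^ (k - 1)) (2 * u - 1) := IsCoprime.pow_left ⟨u, -1, by ring⟩
  obtain ⟨t, ht⟩ := hcop.dvd_of_dvd_mul_left h3
  rw [ht]; exact h.half t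

theorem eq_of_sq_zpowers (h : Cyc D k e a) {x : G} (hx : x ∈ Subgroup.zpowers a)
    (h2 : x * x = 1) : x = 1 ∨ x = zinv k a := by
  obtain ⟨i, rfl⟩ := Subgroup.mem_zpowers_iff.1 hx
  rw [← zpow_add, ← orderOf_dvd_iff_zpow_eq_one, h.ord_a,
    ← two_pow_mul (show 1 ≤ k by have := h.two_le; omega), ← mul_two] at h2
  push_cast at h2
  obtain ⟨t, ht⟩ := Int.dvd_of_mul_dvd_mul_right two_ne_zero h2
  rw [ht]; exact h.half t

/-- Squares of the elements outside the cyclic part. -/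
theorem sq_outside (h : Cyc D k e a) [Finite G] {x : G} (hx : x ∈ D)
    (hxA : x ∉ Subgroup.zpowers a) : x * x = 1 ∨ x * x = zinv k a := by
  have hsq : x * x ∈ Subgroup.zpowers a := by
    simpa using h.mul_mem (D.inv_mem hx) hx (fun hh => hxA (by simpa using hh)) hxA
  obtain ⟨j, hj⟩ := Subgroup.mem_zpowers_iff.1 hsq
  rw [← hj]
  refine h.zpow_fixed ?_
  rw [← h.conj_zpow hx hxA, hj]
  group

theorem z_comm (h : Cyc D k e a) {x : G} (hx : x ∈ D) :
    x * zinv k a = zinv k a * x := by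
  by_cases hxA : x ∈ Subgroup.zpowers a
  · obtain ⟨i, rfl⟩ := Subgroup.mem_zpowers_iff.1 hxA
    exact (((Commute.refl a).zpow_left i).pow_right _).eq
  · refine mul_inv_eq_iff_eq_mul.1 ?_
    rw [zinv, ← zpow_natCast, h.conj_zpow hx hxA, zpow_eq_zpow_iff_modEq, h.ord_a,
      Int.modEq_iff_dvd]
    obtain ⟨u, hu⟩ := h.e_odd
    refine ⟨1 - 2 * u, ?_⟩
    have e' : ((2 ^ k : ℕ) : ℤ) = 2 ^ (k - 1) * 2 := by
      rw [← two_pow_mul (show 1 ≤ k by have := h.two_le; omega)]; push_cast; rfl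
    push_cast at e' ⊢
    rw [e']
    linear_combination -((2 : ℤ) ^ (k - 1)) * hu

theorem cenZ_z_le (h : Cyc D k e a) :
    D ≤ Subgroup.centralizer ((Subgroup.zpowers (zinv k a) : Subgroup G) : Set G) := by
  intro x hx
  rw [Subgroup.mem_centralizer_iff]
  rintro y hy
  obtain ⟨i, rfl⟩ := Subgroup.mem_zpowers_iff.1 hy
  exact ((show Commute x (zinv k a) from h.z_comm hx).zpow_right i).eq.symm

/-- The centralizer in `D` of an element outside the cyclic part has order four. -/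
theorem card_centralizer_out (h : Cyc D k e a) [Finite G] {x : G} (hx : x ∈ D)
    (hxA : x ∉ Subgroup.zpowers a) :
    Nat.card (D ⊓ Subgroup.centralizer ({x} : Set G) : Subgroup G) = 4 := by
  classical
  have hset : ((D ⊓ Subgroup.centralizer ({x} : Set G) : Subgroup G) : Set G)
      = (↑({1, zinv k a, x, x * zinv k a} : Finset G) : Set G) := by
    have key : ∀ w ∈ Subgroup.zpowers a, w * x = x * w → w = 1 ∨ w = zinv k a := by
      intro w hw hwx
      obtain ⟨j, rfl⟩ := Subgroup.mem_zpowers_iff.1 hw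
      refine h.zpow_fixed ?_
      rw [← h.conj_zpow hx hxA j, ← hwx, mul_inv_cancel_right]
    ext y
    simp only [Finset.coe_insert, Finset.coe_singleton, Set.mem_insert_iff, Set.mem_singleton_iff,
      SetLike.mem_coe, Subgroup.mem_inf, Subgroup.mem_centralizer_singleton_iff]
    constructor
    · rintro ⟨hyD, hxy⟩
      by_cases hyA : y ∈ Subgroup.zpowers a
      · rcases key y hyA hxy with h1 | h1
        · exact Or.inl h1
        · exact Or.inr (Or.inl h1)
      · have hc : Commute (x⁻¹ * y) x :=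
          Commute.mul_left ((Commute.refl x).inv_left) hxy
        rcases key _ (h.mul_mem hx hyD hxA hyA) hc.eq with h1 | h1
        · exact Or.inr (Or.inr (Or.inl (by rw [inv_mul_eq_one] at h1; exact h1.symm)))
        · exact Or.inr (Or.inr (Or.inr (by rw [← h1, mul_inv_cancel_left])))
    · rintro (rfl | rfl | rfl | rfl)
      · exact ⟨D.one_mem, by rw [one_mul, mul_one]⟩
      · exact ⟨h.z_mem, (h.z_comm hx).symm⟩
      · exact ⟨hx, rfl⟩
      · exact ⟨D.mul_mem hx h.z_mem, by rw [mul_assoc, ← h.z_comm hx]⟩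
  rw [← SetLike.coe_sort_coe, Nat.card_coe_set_eq, hset, Set.ncard_coe_finset]
  have hz := h.z_mem_zpowers
  have n1 : (1 : G) ≠ zinv k a := h.z_ne_one.symm
  have n2 : (1 : G) ≠ x := fun e => hxA (e ▸ Subgroup.one_mem _)
  have n3 : (1 : G) ≠ x * zinv k a := fun e => hxA (by
    rw [eq_inv_of_mul_eq_one_left e.symm]; exact Subgroup.inv_mem _ hz)
  have n4 : zinv k a ≠ x := fun e => hxA (e ▸ hz)
  have n5 : zinv k a ≠ x * zinv k a := fun e => hxA (by
    rw [show x = 1 from mul_right_cancel (e.symm.trans (one_mul _).symm)]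
    exact Subgroup.one_mem _)
  have n6 : x ≠ x * zinv k a := fun e => h.z_ne_one (mul_eq_left.1 e.symm)
  simp [n1, n2, n3, n4, n5, n6]

/-- The centralizer in `D` of a rotation other than the two central ones. -/
theorem inf_centralizer_rot (h : Cyc D k e a) {w : G} (hw : w ∈ Subgroup.zpowers a)
    (h1 : w ≠ 1) (hz : w ≠ zinv k a) :
    D ⊓ Subgroup.centralizer ((Subgroup.zpowers w : Subgroup G) : Set G) = Subgroup.zpowers a := by
  refine le_antisymm (fun x hx => ?_) (le_inf h.zpowers_le fun x hx => ?_)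
  · by_contra hxA
    obtain ⟨j, rfl⟩ := Subgroup.mem_zpowers_iff.1 hw
    have hc : x * a ^ j * x⁻¹ = a ^ j := mul_inv_eq_iff_eq_mul.2
      (Subgroup.mem_centralizer_iff.1 hx.2 (a ^ j) (Subgroup.mem_zpowers _)).symm
    rw [h.conj_zpow hx.1 hxA] at hc
    rcases h.zpow_fixed hc.symm with e' | e'
    · exact h1 e'
    · exact hz e'
  · refine Subgroup.mem_centralizer_iff.2 fun y hy => ?_
    obtain ⟨i, rfl⟩ := Subgroup.mem_zpowers_iff.1 hx
    obtain ⟨j, rfl⟩ := Subgroup.mem_zpowers_iff.1 hw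
    obtain ⟨t, rfl⟩ := Subgroup.mem_zpowers_iff.1 hy
    exact ((((Commute.refl a).zpow_zpow j i)).zpow_left t).eq

/-- The two classes outside the cyclic part. -/
theorem outside_class (h : Cyc D k e a) [Finite G] {b x : G} (hb : b ∈ D)
    (hbA : b ∉ Subgroup.zpowers a) (hx : x ∈ D) (hxA : x ∉ Subgroup.zpowers a) :
    ∃ v ∈ D, v * b * v⁻¹ = x ∨ v * (b * a) * v⁻¹ = x := by
  obtain ⟨i, rfl⟩ := h.exists_eq hb hbA hx hxA
  obtain ⟨d, hd⟩ : ∃ d : ℤ, e - 1 = 2 * d ∧ IsCoprime ((2 : ℤ) ^ (k - 1)) d := by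
    obtain ⟨u, hu⟩ := h.e_odd
    exact ⟨2 * u - 1, by linarith, IsCoprime.pow_left ⟨u, -1, by ring⟩⟩
  obtain ⟨s, t, hst⟩ := hd.2
  have hbc : ∀ j : ℤ, b⁻¹ * a ^ j * b = a ^ (j * e) := fun j => by
    have := h.conj_zpow (D.inv_mem hb) (fun hh => hbA (by simpa using hh)) j
    rwa [inv_inv] at this
  have hshift : ∀ r m : ℤ, a ^ (m * t) * (b * a ^ r) * (a ^ (m * t))⁻¹ = b * a ^ (r + 2 * m) := by
    intro r m
    calc a ^ (m * t) * (b * a ^ r) * (a ^ (m * t))⁻¹
        = b * ((b⁻¹ * a ^ (m * t) * b) * a ^ r * a ^ (-(m * t))) := by rw [zpow_neg]; group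
      _ = b * a ^ (r + m * t * (e - 1)) := by rw [hbc, ← zpow_add, ← zpow_add]; ring_nf
      _ = b * a ^ (r + 2 * m) := by
        congr 1
        rw [zpow_eq_zpow_iff_modEq, h.ord_a, Int.modEq_iff_dvd]
        refine ⟨m * s, ?_⟩
        rw [← two_pow_mul (show 1 ≤ k by have := h.two_le; omega)]
        push_cast
        linear_combination (-m * t) * hd.1 - 2 * m * hst
  rcases Int.even_or_odd' i with ⟨m, rfl | rfl⟩
  · refine ⟨a ^ (m * t), D.zpow_mem h.a_mem _, Or.inl ?_⟩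
    have := hshift 0 m
    rwa [zpow_zero, mul_one, zero_add] at this
  · refine ⟨a ^ (m * t), D.zpow_mem h.a_mem _, Or.inr ?_⟩
    have := hshift 1 m
    rwa [zpow_one, add_comm] at this

theorem subgroupOf (h : Cyc D k e a) {K : Subgroup G} (hK : D ≤ K) :
    Cyc (D.subgroupOf K) k e (⟨a, hK h.a_mem⟩ : K) where
  two_le := h.two_le
  a_mem := h.a_mem
  ord_a := by rw [Subgroup.orderOf_mk, h.ord_a]
  card := by rw [Nat.card_congr (Subgroup.subgroupOfEquivOfLe hK).toEquiv, h.card]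
  conj := fun x hx hxA => Subtype.ext (by
    have := h.conj (x : G) hx fun hh => hxA (by
      obtain ⟨i, hi⟩ := Subgroup.mem_zpowers_iff.1 hh
      exact Subgroup.mem_zpowers_iff.2 ⟨i, Subtype.ext (by simpa using hi)⟩)
    simpa using this)
  kind := h.kind

/-- The conjugation rule from one element outside the cyclic part. -/
theorem of_one [Finite G] {D : Subgroup G} {k : ℕ} {e : ℤ} {a b : G} (hk : 2 ≤ k) (ha : a ∈ D)
    (hord : orderOf a = 2 ^ k) (hcard : Nat.card D = 2 ^ (k + 1)) (hb : b ∈ D)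
    (hbA : b ∉ Subgroup.zpowers a) (hconj : b * a * b⁻¹ = a ^ e)
    (hkind : e = -1 ∨ (3 ≤ k ∧ e = 2 ^ (k - 1) - 1)) : Cyc D k e a := by
  refine ⟨hk, ha, hord, hcard, fun x hx hxA => ?_, hkind⟩
  have hle : Subgroup.zpowers a ≤ D := Subgroup.zpowers_le.2 ha
  have hidx : ((Subgroup.zpowers a).subgroupOf D).index = 2 := by
    have h1 := Subgroup.card_mul_index ((Subgroup.zpowers a).subgroupOf D)
    rw [Nat.card_congr (Subgroup.subgroupOfEquivOfLe hle).toEquiv, Nat.card_zpowers,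
      hord, hcard, pow_succ] at h1
    exact Nat.eq_of_mul_eq_mul_left (Nat.two_pow_pos k) h1
  have hm : b⁻¹ * x ∈ Subgroup.zpowers a := by
    have := (Subgroup.mul_mem_iff_of_index_two (H := (Subgroup.zpowers a).subgroupOf D) hidx
      (a := (⟨b, hb⟩ : D)⁻¹) (b := ⟨x, hx⟩)).2 (by simp [Subgroup.mem_subgroupOf, hxA, hbA])
    simpa [Subgroup.mem_subgroupOf] using this
  obtain ⟨i, hi⟩ := Subgroup.mem_zpowers_iff.1 hm
  rw [show x = b * a ^ i by rw [hi, mul_inv_cancel_left], ← hconj]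
  group

end Cyc

/-- A semidihedral subgroup. -/
theorem exists_cyc_semidihedral [Finite G] {D : Subgroup G} {n : ℕ} (hn : 4 ≤ n)
    (hcard : Nat.card D = 2 ^ n) (h : Cfsg.IsQuasiDihedral D) :
    ∃ a b : G, Cyc D (n - 1) (2 ^ (n - 2) - 1) a ∧ b ∈ D ∧ b ∉ Subgroup.zpowers a ∧ b * b = 1 ∧
      b * a * (b * a) = zinv (n - 1) a := by
  obtain ⟨m, hm, hcard', x, y, hx, hy, hyx⟩ := h
  have hmn : m = n - 1 := by
    have := Nat.pow_right_injective le_rfl (hcard'.symm.trans hcard)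
    omega
  subst hmn
  rw [show n - 1 - 1 = n - 2 by omega] at hyx
  have hsq : (y : G) * y = 1 := by
    have := pow_orderOf_eq_one y
    rw [hy, pow_two] at this
    exact congrArg Subtype.val this
  have hxG : orderOf (x : G) = 2 ^ (n - 1) := by rw [Subgroup.orderOf_coe, hx]
  have hconj : (y : G) * x * (y : G)⁻¹ = (x : G) ^ ((2 : ℤ) ^ (n - 2) - 1) := by
    have h' := congrArg Subtype.val hyx
    simp only [Subgroup.coe_mul, Subgroup.coe_inv, SubmonoidClass.coe_pow] at h'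
    rw [h', ← zpow_natCast, Nat.cast_sub Nat.one_le_two_pow]
    push_cast
    rfl
  have hyA : (y : G) ∉ Subgroup.zpowers (x : G) := by
    intro hmem
    obtain ⟨i, hi⟩ := Subgroup.mem_zpowers_iff.1 hmem
    rw [← hi, (Commute.zpow_self (x : G) i).eq, mul_inv_cancel_right] at hconj
    nth_rewrite 1 [← zpow_one (x : G)] at hconj
    rw [zpow_eq_zpow_iff_modEq, hxG, Int.modEq_iff_dvd, show n - 1 = n - 2 + 1 by omega] at hconj
    obtain ⟨c, hc⟩ := hconj
    push_cast at hc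
    rw [pow_succ] at hc
    have h4 : (4 : ℤ) ≤ 2 ^ (n - 2) := by
      calc (4 : ℤ) = 2 ^ 2 := by norm_num
        _ ≤ _ := pow_le_pow_right₀ (by norm_num) (by omega)
    rcases le_or_gt c 0 with hc0 | hc0 <;> nlinarith
  refine ⟨x, y, Cyc.of_one (b := (y : G)) (by omega) x.2 hxG (by rw [hcard]; congr 1; omega) y.2 hyA
    hconj (Or.inr ⟨by omega, by rw [show n - 1 - 1 = n - 2 by omega]⟩), y.2, hyA, hsq, ?_⟩
  have hy' : (y : G)⁻¹ = y := inv_eq_of_mul_eq_one_right hsq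
  calc (y : G) * x * (y * x) = (y : G) * x * (y : G)⁻¹ * x := by rw [hy']; group
    _ = _ := by
      rw [hconj, zinv, show n - 1 - 1 = n - 2 by omega, ← zpow_add_one, sub_add_cancel,
        ← zpow_natCast]
      push_cast
      rfl

/-- A quaternion subgroup. -/
theorem exists_cyc_quaternion [Finite G] {D : Subgroup G} {n : ℕ} (hn : 3 ≤ n)
    (h : Nonempty (D ≃* QuaternionGroup (2 ^ (n - 2)))) :
    ∃ a b : G, Cyc D (n - 1) (-1) a ∧ b ∈ D ∧ b ∉ Subgroup.zpowers a ∧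
      b * b = zinv (n - 1) a ∧ b * a * (b * a) = zinv (n - 1) a := by
  obtain ⟨φ⟩ := h
  haveI : NeZero (2 ^ (n - 2)) := ⟨by positivity⟩
  set x : D := φ.symm (QuaternionGroup.a 1)
  set y : D := φ.symm (QuaternionGroup.xa 0)
  have hx : orderOf x = 2 * 2 ^ (n - 2) :=
    (orderOf_injective φ.symm.toMonoidHom φ.symm.injective _).trans QuaternionGroup.orderOf_a_one
  have hpow : 2 * 2 ^ (n - 2) = 2 ^ (n - 1) := by rw [← pow_succ']; congr 1; omega
  have hxG : orderOf (x : G) = 2 ^ (n - 1) := by rw [Subgroup.orderOf_coe, hx, hpow]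
  have hcard : Nat.card D = 2 ^ (n - 1 + 1) := by
    rw [Nat.card_congr φ.toEquiv, Nat.card_eq_fintype_card, QuaternionGroup.card, pow_succ, ← hpow]
    ring
  have hz : zinv (n - 1) (x : G) = ((φ.symm (QuaternionGroup.a (2 ^ (n - 2) : ℕ)) : D) : G) := by
    rw [zinv, show n - 1 - 1 = n - 2 by omega, ← SubmonoidClass.coe_pow]
    congr 1
    rw [← map_pow, QuaternionGroup.a_one_pow]
  have hyA : (y : G) ∉ Subgroup.zpowers (x : G) := by
    intro hmem
    obtain ⟨i, hi⟩ := Subgroup.mem_zpowers_iff.1 hmem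
    have h := congrArg φ (show x ^ i = y from Subtype.ext (by rw [Subgroup.coe_zpow]; exact hi))
    rw [map_zpow, φ.apply_symm_apply, φ.apply_symm_apply] at h
    have : ∀ j : ℤ, ∃ t, (QuaternionGroup.a (1 : ZMod (2 * 2 ^ (n - 2)))) ^ j
        = QuaternionGroup.a t := by
      intro j
      obtain ⟨m, rfl | rfl⟩ := Int.eq_nat_or_neg j
      · exact ⟨m, by rw [zpow_natCast, QuaternionGroup.a_one_pow]⟩
      · exact ⟨-(m : ZMod (2 * 2 ^ (n - 2))), by
          rw [zpow_neg, zpow_natCast, QuaternionGroup.a_one_pow]; rfl⟩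
    obtain ⟨t, ht⟩ := this i
    rw [ht] at h
    cases h
  have hsq : ∀ j : ZMod (2 * 2 ^ (n - 2)),
      ((φ.symm (QuaternionGroup.xa j) : D) : G) * ((φ.symm (QuaternionGroup.xa j) : D) : G)
        = zinv (n - 1) (x : G) := by
    intro j
    rw [hz, ← Subgroup.coe_mul, ← map_mul, QuaternionGroup.xa_mul_xa]
    simp
  have hconj : (y : G) * x * (y : G)⁻¹ = (x : G) ^ (-1 : ℤ) := by
    rw [← Subgroup.coe_inv, ← Subgroup.coe_mul, ← Subgroup.coe_mul, ← Subgroup.coe_zpow]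
    congr 1
    rw [zpow_neg_one, ← map_inv, ← map_mul, ← map_mul, ← map_inv]
    congr 1
    rw [eq_inv_iff_mul_eq_one]
    show QuaternionGroup.xa 0 * QuaternionGroup.a 1 * QuaternionGroup.xa (_ + 0) * QuaternionGroup.a 1 = 1
    simp only [QuaternionGroup.xa_mul_a, QuaternionGroup.xa_mul_xa, QuaternionGroup.a_mul_a,
      QuaternionGroup.one_def]
    congr 1
    have h0 : ((2 ^ (n - 2) : ℕ) : ZMod (2 * 2 ^ (n - 2))) + (2 ^ (n - 2) : ℕ) = 0 := by
      rw [← Nat.cast_add, ← two_mul, ZMod.natCast_self]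
    push_cast at h0 ⊢
    linear_combination h0
  refine ⟨x, y, Cyc.of_one (b := (y : G)) (by omega) x.2 hxG hcard y.2 hyA hconj (Or.inl rfl), y.2,
    hyA, hsq 0, ?_⟩
  rw [show (y : G) * (x : G) = ((φ.symm (QuaternionGroup.xa 1) : D) : G) by
    rw [← Subgroup.coe_mul, ← map_mul, QuaternionGroup.xa_mul_a, zero_add]]
  exact hsq 1

end CfsgLib.Blocks.TameDefect
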