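import Cfsg.Agent.Lib.Blocks.TameDefect.CycFusion
import Cfsg.Agent.Lib.Blocks.TwoPowerTrace
import Cfsg.Agent.Lib.Char.Induced
import Cfsg.Agent.Lib.Char.Linear

/-!
# A stable character of a defect group with a cyclic subgroup of index two

The character induced from a faithful linear character of the cyclic part plus its determinant
takes the values three and minus one at the identity and the central involution and is stable.
-/

set_option autoImplicit false
set_option maxHeartbeats 800000

namespace CfsgLib.Blocks.TameDefect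

open Cfsg CfsgLib.Blocks CfsgLib.BrauerPairs CfsgLib.BrouePuig CfsgLib.Blocks.TwoPowerTrace
open scoped Classical

universe u

namespace Cyc

variable {G : Type u} [Group G] [Fintype G] [Fact (Nat.Prime 2)] {D : Subgroup G} {k : ℕ} {e : ℤ}
  {a : G} {M : Ideal AlgInt} {B : Set (IrrCharacter G)}
  {eD : Set (IrrCharacter (Subgroup.centralizer (D : Set G)))}

/-- A faithful linear character of the cyclic part, extended by zero. -/
theorem exists_linear (h : Cyc D k e a) :
    ∃ φ : Subgroup.zpowers a →* ℂˣ, ∃ T : G → ℂ,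
      (∀ w : Subgroup.zpowers a, T (w : G) = (φ w : ℂ)) ∧
      (∀ v ∈ Subgroup.zpowers a, ∀ w ∈ Subgroup.zpowers a, T (v * w) = T v * T w) ∧
      T 1 = 1 ∧ T (zinv k a) = -1 := by
  obtain ⟨j, hj⟩ : ∃ j, k = j + 1 := ⟨k - 1, by have := h.two_le; omega⟩
  have hω : IsPrimitiveRoot (Complex.exp (2 * Real.pi * Complex.I / (2 ^ (j + 1) : ℕ)))
      (2 ^ (j + 1)) := Complex.isPrimitiveRoot_exp _ (pow_ne_zero _ two_ne_zero)
  obtain ⟨ζ, hζ⟩ := hω.isUnit (pow_ne_zero _ two_ne_zero)
  set g : Subgroup.zpowers a := ⟨a, Subgroup.mem_zpowers a⟩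
  have hgen : ∀ x : Subgroup.zpowers a, x ∈ Subgroup.zpowers g := fun x => by
    obtain ⟨i, hi⟩ := Subgroup.mem_zpowers_iff.1 x.2
    exact Subgroup.mem_zpowers_iff.2 ⟨i, Subtype.ext (by simpa [g] using hi)⟩
  have hord : orderOf ζ ∣ orderOf g := by
    rw [← orderOf_units, hζ, ← hω.eq_orderOf, Subgroup.orderOf_mk, h.ord_a, hj]
  let φ : Subgroup.zpowers a →* ℂˣ := monoidHomOfForallMemZpowers hgen hord
  let T : G → ℂ := fun w => if hw : w ∈ Subgroup.zpowers a then ((φ ⟨w, hw⟩ : ℂˣ) : ℂ) else 0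
  have hT : ∀ w : Subgroup.zpowers a, T (w : G) = (φ w : ℂ) := fun w => dif_pos w.2
  have hz : zinv k a = ((g ^ 2 ^ (k - 1) : Subgroup.zpowers a) : G) := by
    rw [Subgroup.coe_pow]; rfl
  refine ⟨φ, T, hT, fun v hv w hw => ?_, ?_, ?_⟩
  · rw [show v * w = ((⟨v, hv⟩ * ⟨w, hw⟩ : Subgroup.zpowers a) : G) from rfl, hT,
      show T v = (φ ⟨v, hv⟩ : ℂ) from hT ⟨v, hv⟩, show T w = (φ ⟨w, hw⟩ : ℂ) from hT ⟨w, hw⟩,
      map_mul, Units.val_mul]
  · rw [show (1 : G) = ((1 : Subgroup.zpowers a) : G) from rfl, hT, map_one, Units.val_one]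
  · rw [hz, hT, map_pow, Units.val_pow_eq_pow_val,
      show φ g = ζ from monoidHomOfForallMemZpowers_apply_gen hgen hord, hζ, hj,
      Nat.add_sub_cancel]
    exact pow_half hω

/-- The stable character. -/
theorem exists_eta (h : Cyc D k e a) (hM : IsPModular 2 M)
    (hmax : IsMaximalBrauerPair 2 M B D eD) :
    ∃ η : D → ℂ, Stable 2 M D eD η ∧ IsGeneralizedCharacter D η ∧ η ⟨1, D.one_mem⟩ = 3 ∧
      η ⟨zinv k a, h.z_mem⟩ = -1 := by
  obtain ⟨φ, T, hT, hmul, hT1, hTz⟩ := h.exists_linear
  have hz := h.z_mem_zpowers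
  -- the determinant
  let E : D → ℂ := fun w =>
    if (w : G) ∈ (Subgroup.zpowers a) then T w * T ((w : G) ^ e) else -T ((w : G) * w)
  have hsqA : ∀ x : D, (x : G) ∉ (Subgroup.zpowers a) → (x : G) * x ∈ (Subgroup.zpowers a) ∧ ((x : G) * x) ^ e = (x : G) * x := by
    intro x hx
    rcases h.sq_outside x.2 hx with h' | h' <;> rw [h']
    · exact ⟨(Subgroup.zpowers a).one_mem, one_zpow e⟩
    · refine ⟨hz, ?_⟩
      obtain ⟨u, hu⟩ := h.e_odd
      rw [show e = 2 * (2 * u - 1) + 1 by linarith, zpow_add, zpow_mul, zpow_two, h.z_sq, one_zpow,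
        one_mul, zpow_one]
  have hcomm : ∀ v ∈ (Subgroup.zpowers a), ∀ w ∈ (Subgroup.zpowers a), Commute v w := by
    intro v hv w hw
    obtain ⟨i, rfl⟩ := Subgroup.mem_zpowers_iff.1 hv
    obtain ⟨j, rfl⟩ := Subgroup.mem_zpowers_iff.1 hw
    exact ((Commute.refl a).zpow_zpow i j)
  have hmem_mul : ∀ (u : G), u ∈ (Subgroup.zpowers a) → ∀ x : D, ((x : G) ∉ (Subgroup.zpowers a)) → (x : G) * u ∉ (Subgroup.zpowers a) := fun u hu x hx hh =>
    hx (by simpa using (Subgroup.zpowers a).mul_mem hh ((Subgroup.zpowers a).inv_mem hu))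
  have hEmul : ∀ x y : D, E (x * y) = E x * E y := by
    intro x y
    have hxy : ((x * y : D) : G) = (x : G) * y := rfl
    by_cases hx : (x : G) ∈ (Subgroup.zpowers a) <;> by_cases hy : (y : G) ∈ (Subgroup.zpowers a)
    · simp only [E, hxy, if_pos hx, if_pos hy, if_pos ((Subgroup.zpowers a).mul_mem hx hy)]
      rw [hmul _ hx _ hy, (hcomm _ hx _ hy).mul_zpow,
        hmul _ ((Subgroup.zpowers a).zpow_mem hx e) _ ((Subgroup.zpowers a).zpow_mem hy e)]
      ring
    · have hn : (x : G) * y ∉ (Subgroup.zpowers a) := fun hh => hy (by simpa using (Subgroup.zpowers a).mul_mem ((Subgroup.zpowers a).inv_mem hx) hh)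
      simp only [E, hxy, if_pos hx, if_neg hy, if_neg hn]
      have hc : (y : G) * x * (y : G)⁻¹ = (x : G) ^ e := by
        obtain ⟨i, hi⟩ := Subgroup.mem_zpowers_iff.1 hx
        rw [← hi, h.conj_zpow y.2 hy, zpow_mul]
      rw [show (x : G) * y * ((x : G) * y) = (x : G) * ((y : G) * x * (y : G)⁻¹) * ((y : G) * y) by
        group, hc, hmul _ ((Subgroup.zpowers a).mul_mem hx ((Subgroup.zpowers a).zpow_mem hx e)) _ (hsqA y hy).1,
        hmul _ hx _ ((Subgroup.zpowers a).zpow_mem hx e)]
      ring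
    · have hn := hmem_mul _ hy x hx
      simp only [E, hxy, if_neg hx, if_pos hy, if_neg hn]
      have hc : (x : G) * y * (x : G)⁻¹ = (y : G) ^ e := by
        obtain ⟨i, hi⟩ := Subgroup.mem_zpowers_iff.1 hy
        rw [← hi, h.conj_zpow x.2 hx, zpow_mul]
      rw [show (x : G) * y * ((x : G) * y) = ((x : G) * y * (x : G)⁻¹) * ((x : G) * x) * y by group,
        hc, hmul _ ((Subgroup.zpowers a).mul_mem ((Subgroup.zpowers a).zpow_mem hy e) (hsqA x hx).1) _ hy,
        hmul _ ((Subgroup.zpowers a).zpow_mem hy e) _ (hsqA x hx).1]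
      ring
    · have hu := h.mul_mem x.2 y.2 hx hy
      set u := (x : G)⁻¹ * y
      obtain ⟨hs, hse⟩ := hsqA x hx
      have hin : (x : G) * y = (x : G) * x * u := by simp [u, mul_assoc]
      have hm : (x : G) * y ∈ (Subgroup.zpowers a) := hin ▸ (Subgroup.zpowers a).mul_mem hs hu
      have hc : (x : G) * u * (x : G)⁻¹ = u ^ e := by
        obtain ⟨i, hi⟩ := Subgroup.mem_zpowers_iff.1 hu
        rw [← hi, h.conj_zpow x.2 hx, zpow_mul]
      have hyy : (y : G) * y = u ^ e * ((x : G) * x) * u := by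
        rw [← hc, show (y : G) = (x : G) * u by simp [u]]
        group
      simp only [E, hxy, if_neg hx, if_neg hy, if_pos hm]
      rw [hyy, hin, (hcomm _ hs _ hu).mul_zpow, hse, hmul _ hs _ hu,
        hmul _ hs _ ((Subgroup.zpowers a).zpow_mem hu e), hmul _ ((Subgroup.zpowers a).mul_mem ((Subgroup.zpowers a).zpow_mem hu e) hs) _ hu,
        hmul _ ((Subgroup.zpowers a).zpow_mem hu e) _ hs]
      ring
  have hE1 : E 1 = 1 := by
    simp only [E, OneMemClass.coe_one, if_pos (Subgroup.zpowers a).one_mem, one_zpow, hT1, mul_one]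
  let Ehom : D →* ℂ := { toFun := E, map_one' := hE1, map_mul' := hEmul }
  have hEchar : IsCharacter D E := by
    have := CfsgLib.Char.isCharacter_hom (Ehom.toHomUnits)
    convert this using 1
    funext w
    rw [MonoidHom.coe_toHomUnits]
    rfl
  -- the induced character
  set H : Subgroup D := (Subgroup.zpowers a).subgroupOf D
  let θ : H → ℂ := fun x => (φ ⟨((x : D) : G), x.2⟩ : ℂ)
  have hθ : IsCharacter H θ :=
    CfsgLib.Char.isCharacter_hom (φ.comp
      { toFun := fun x : H => (⟨((x : D) : G), x.2⟩ : (Subgroup.zpowers a)), map_one' := rfl,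
        map_mul' := fun _ _ => rfl })
  have hind : IsCharacter D (Cfsg.indFun H θ) := CfsgLib.Char.IsCharacter.indFun H hθ
  have hindval : ∀ w : D, Cfsg.indFun H θ w
      = if (w : G) ∈ (Subgroup.zpowers a) then T w + T ((w : G) ^ e) else 0 := by
    intro w
    rw [CfsgLib.Char.indFun_def]
    split_ifs with hw
    · have hterm : ∀ x : D, Cfsg.extendByZero H θ (x⁻¹ * w * x)
          = if (x : G) ∈ (Subgroup.zpowers a) then T w else T ((w : G) ^ e) := by
        intro x
        have hval : (((x⁻¹ * w * x : D)) : G)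
            = if (x : G) ∈ (Subgroup.zpowers a) then (w : G) else (w : G) ^ e := by
          show (x : G)⁻¹ * w * x = _
          split_ifs with hxA
          · rw [(hcomm _ ((Subgroup.zpowers a).inv_mem hxA) _ hw).eq, inv_mul_cancel_right]
          · obtain ⟨i, hi⟩ := Subgroup.mem_zpowers_iff.1 hw
            have := h.conj_zpow (D.inv_mem x.2) (fun hh => hxA (by simpa using hh)) i
            rw [inv_inv] at this
            rw [← hi, this, zpow_mul]
        have hmem : (((x⁻¹ * w * x : D)) : G) ∈ (Subgroup.zpowers a) := by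
          rw [hval]; split_ifs
          · exact hw
          · exact (Subgroup.zpowers a).zpow_mem hw e
        rw [CfsgLib.Char.extendByZero_apply_mem H θ (show x⁻¹ * w * x ∈ H from hmem)]
        refine Eq.trans (b := T (((x⁻¹ * w * x : D)) : G)) (hT ⟨_, hmem⟩).symm ?_
        show T (((x⁻¹ * w * x : D)) : G) = _
        rw [hval]; split_ifs <;> rfl
      rw [Finset.sum_congr rfl fun x _ => hterm x, Finset.sum_ite, Finset.sum_const,
        Finset.sum_const, nsmul_eq_mul, nsmul_eq_mul]
      have hH : Nat.card H = 2 ^ k := by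
        rw [Nat.card_congr (Subgroup.subgroupOfEquivOfLe h.zpowers_le).toEquiv, Nat.card_zpowers,
          h.ord_a]
      have hfil : (Finset.univ.filter fun x : D => (x : G) ∈ (Subgroup.zpowers a)).card = 2 ^ k := by
        rw [← hH, Nat.card_eq_fintype_card, ← Fintype.card_subtype]
        rfl
      have hfil' : (Finset.univ.filter fun x : D => ¬ (x : G) ∈ (Subgroup.zpowers a)).card = 2 ^ k := by
        have := Finset.card_filter_add_card_filter_not (s := (Finset.univ : Finset D))
          fun x : D => (x : G) ∈ (Subgroup.zpowers a)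
        rw [hfil, Finset.card_univ, ← Nat.card_eq_fintype_card, h.card, pow_succ] at this
        omega
      rw [hfil, hfil', hH, Nat.cast_pow, Nat.cast_ofNat]
      field_simp
    · refine mul_eq_zero_of_right _ (Finset.sum_eq_zero fun x _ => ?_)
      refine CfsgLib.Char.extendByZero_apply_notMem H θ fun hh => hw ?_
      have hh' : (x : G)⁻¹ * w * x ∈ (Subgroup.zpowers a) := hh
      by_cases hxA : (x : G) ∈ (Subgroup.zpowers a)
      · have := (Subgroup.zpowers a).mul_mem ((Subgroup.zpowers a).mul_mem hxA hh') ((Subgroup.zpowers a).inv_mem hxA)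
        simpa [mul_assoc] using this
      · obtain ⟨i, hi⟩ := Subgroup.mem_zpowers_iff.1 hh'
        have := h.conj_zpow x.2 hxA i
        rw [hi] at this
        exact Subgroup.mem_zpowers_iff.2 ⟨i * e, by rw [← this]; group⟩
  refine ⟨fun w => Cfsg.indFun H θ w + E w, ?_,
    CfsgLib.Char.IsCharacter.isGeneralizedCharacter (CfsgLib.Char.IsCharacter.add hind hEchar), ?_, ?_⟩
  · refine stable_of_fused hM hmax.1.1 fun x y hf => ?_
    have ho := hf.orderOf_eq
    have hpow : ∀ w : G, w * w = 1 ↔ orderOf w ∣ 2 := fun w => by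
      rw [orderOf_dvd_iff_pow_eq_one, pow_two]
    have hsame : (x : G) * x = 1 ↔ (y : G) * y = 1 := by rw [hpow, hpow, ho]
    have mixed : ∀ u v : D, (u : G) ∈ (Subgroup.zpowers a) → (v : G) ∉ (Subgroup.zpowers a) → orderOf (v : G) = orderOf (u : G) →
        Cfsg.indFun H θ u + E u = Cfsg.indFun H θ v + E v := by
      intro u v hu hv huv
      simp only [hindval, E, if_pos hu, if_neg hv, zero_add]
      have h4 := h.pow_four v.2 hv
      rcases h.sq_outside v.2 hv with h2 | h2
      · have hu2 : (u : G) * u = 1 := by rw [hpow, ← huv, ← hpow]; exact h2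
        rcases h.eq_of_sq_zpowers hu hu2 with h1 | h1
        · refine absurd (orderOf_eq_one_iff.1 ?_) (fun h0 : (v : G) = 1 => hv (h0 ▸ (Subgroup.zpowers a).one_mem))
          rw [huv, h1, orderOf_one]
        · obtain ⟨t, ht⟩ := h.e_odd
          rw [h2, h1, hT1, show e = 2 * (2 * t - 1) + 1 by linarith, zpow_add, zpow_mul, zpow_two,
            h.z_sq, one_zpow, one_mul, zpow_one, hTz]
          norm_num
      · have hu2 : (u : G) * u ≠ 1 := by
          rw [Ne, hpow, ← huv, ← hpow, h2]; exact h.z_ne_one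
        have hu4 : (u : G) * u * ((u : G) * u) = 1 := by
          have h4' : (v : G) ^ 4 = 1 := by rw [← h4]; simp [pow_succ, mul_assoc]
          rw [← orderOf_dvd_iff_pow_eq_one, huv, orderOf_dvd_iff_pow_eq_one] at h4'
          rw [← h4']; simp [pow_succ, mul_assoc]
        have huz := h.sq_eq_z u.2 hu4 hu2
        have hinv : (u : G) ^ e = (u : G)⁻¹ := by
          obtain ⟨t, ht⟩ := h.e_odd
          rw [show e = 4 * t + (-1) by linarith, zpow_add, zpow_mul,
            show (u : G) ^ (4 : ℤ) = 1 by rw [← hu4, show (4 : ℤ) = ((4 : ℕ) : ℤ) by norm_num, zpow_natCast]; simp [pow_succ, mul_assoc], one_zpow, one_mul, zpow_neg_one]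
        have e1 : T u * T u = -1 := by rw [← hmul _ hu _ hu, huz, hTz]
        have e2 : T u * T ((u : G)⁻¹) = 1 := by
          rw [← hmul _ hu _ ((Subgroup.zpowers a).inv_mem hu), mul_inv_cancel, hT1]
        rw [h2, hTz, hinv]
        linear_combination (1 - T (u : G)) * e2 + T ((u : G)⁻¹) * e1
    by_cases hx : (x : G) ∈ (Subgroup.zpowers a) <;> by_cases hy : (y : G) ∈ (Subgroup.zpowers a)
    · simp only [hindval, E, if_pos hx, if_pos hy]
      rcases h.rot_fused hmax x y hx hy hf with e1 | e1 <;> rw [e1]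
      have hee : ((x : G) ^ e) ^ e = x := by
        obtain ⟨b, hb, hbA⟩ := h.exists_outside
        have := congrArg (fun w : D => (w : G)) (h.conj_rot_twice (⟨b, hb⟩ : D) hbA hx)
        rw [h.conj_rot ⟨b, hb⟩ hbA (by
          rw [h.conj_rot ⟨b, hb⟩ hbA hx]; exact (Subgroup.zpowers a).zpow_mem hx e), h.conj_rot ⟨b, hb⟩ hbA hx] at this
        exact this
      rw [hee]; ring
    · exact (mixed x y hx hy ho).symm
    · exact mixed y x hy hx ho.symm
    · simp only [hindval, E, if_neg hx, if_neg hy]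
      rcases h.sq_outside x.2 hx with h2 | h2
      · rw [h2, hsame.1 h2]
      · have hy2 : (y : G) * y ≠ 1 := fun hh => h.z_ne_one (h2 ▸ hsame.2 hh)
        rw [h2, (h.sq_outside y.2 hy).resolve_left hy2]
  · simp only [hindval, E, if_pos (Subgroup.zpowers a).one_mem, one_zpow, hT1]
    norm_num
  · obtain ⟨t, ht⟩ := h.e_odd
    simp only [hindval, E, if_pos hz]
    rw [show e = 2 * (2 * t - 1) + 1 by linarith, zpow_add, zpow_mul, zpow_two, h.z_sq, one_zpow,
      one_mul, zpow_one, hTz]
    simp [hz]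

end Cyc

end CfsgLib.Blocks.TameDefect
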