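import Mathlib

/-!
# The weights of the characters of a block with quaternion or semidihedral defect group

For a defect group of order `4 q` with cyclic subgroup of index two every character has a row of
weights: the contributions `c` of the identity, `az` of the central involution, `ρ` of the other
rotations and `q R` at height zero of the remaining subsections. Their sum is `4 q`, and this with
the divisibilities of the first two pins down the heights and the number of characters.
-/

set_option autoImplicit false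

namespace CfsgLib.Blocks.TameDefect

open scoped Classical

variable {ι : Type*} [Fintype ι] {q l lz R : ℕ}

/-- The numerical data. -/
structure Weights (ι : Type*) [Fintype ι] (q l lz R : ℕ) where
  h : ι → ℕ
  c : ι → ℤ
  az : ι → ℤ
  rho : ι → ℤ
  Cz : ι → ι → ℤ
  q_cases : q = 2 ∨ 4 ∣ q ∧ 4 ≤ q
  one_le_l : 1 ≤ l
  sum_c : ∑ x, c x = 4 * q * l
  sum_az : ∑ x, az x = 4 * q * lz
  sum_rho : ∑ x, rho x = 2 * q * (q - 1 : ℤ)
  row : ∀ x, c x + az x + 2 * rho x + (if h x = 0 then (q * R : ℤ) else 0) = 4 * q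
  c_pos : ∀ x, h x = 0 → 1 ≤ c x
  az_pos : ∀ x, h x = 0 → 1 ≤ az x
  c_ge : ∀ x, h x ≠ 0 → 2 ^ (h x + 1) ≤ c x
  az_ge : ∀ x, h x ≠ 0 → 2 ^ (h x + 1) ≤ az x
  rho_pos : ∀ x, h x ≠ 0 → rho x = 0 ∨ 2 * (q : ℤ) - 4 ≤ rho x
  rho_zero : ∀ x, h x = 0 → rho x = q - 1 ∨ 4 ≤ q ∧ 2 * (q : ℤ) - 1 ≤ rho x
  exc : ∀ x, h x ≠ 0 → rho x = 0 → q ∣ 2 ^ h x
  card_h0 : (Finset.univ.filter fun x => h x = 0).card = 4
  Cz_self : ∀ x, Cz x x = az x
  Cz_row : ∀ x, ∑ y, Cz x y ^ 2 = 4 * q * az x
  Cz_exact : ∀ x, h x = 0 → ∀ y, ∃ o, Odd o ∧ Cz x y = 2 ^ h y * o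
  card : Fintype.card ι = l + lz + q + R - 1

namespace Weights

variable (W : Weights ι q l lz R)
include W

theorem two_le : 2 ≤ q := by rcases W.q_cases with h | ⟨-, h⟩ <;> omega

theorem sq_q_ge : q = 2 ∨ 4 ≤ q := W.q_cases.imp_right And.right

/-- The characters of positive height. -/
theorem pos_cases (x : ι) (hx : W.h x ≠ 0) :
    W.c x = 2 ^ (W.h x + 1) ∧ W.az x = 2 ^ (W.h x + 1) ∧
      W.rho x = 2 * q - 2 ^ (W.h x + 1) ∧ (W.h x = 1 ∨ 2 ^ W.h x = q) := by
  have hr := W.row x
  rw [if_neg hx, add_zero] at hr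
  have h1 := W.c_ge x hx
  have h2 := W.az_ge x hx
  have h4 : (4 : ℤ) ≤ 2 ^ (W.h x + 1) := by
    calc (4 : ℤ) = 2 ^ 2 := by norm_num
      _ ≤ _ := pow_le_pow_right₀ (by norm_num) (by omega)
  rcases eq_or_ne (W.rho x) 0 with h0 | h0
  · have hq := Nat.le_of_dvd (Nat.two_pow_pos _) (W.exc x hx h0)
    have hq' : (q : ℤ) ≤ 2 ^ W.h x := by exact_mod_cast hq
    have hp : (2 : ℤ) ^ (W.h x + 1) = 2 * 2 ^ W.h x := by rw [pow_succ]; ring
    have heq : (2 : ℤ) ^ W.h x = q := by linarith
    refine ⟨by linarith, by linarith, by linarith, Or.inr (by exact_mod_cast heq)⟩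
  · have h3 := (W.rho_pos x hx).resolve_left h0
    have he : (2 : ℤ) ^ (W.h x + 1) = 4 := by linarith
    have hh : W.h x = 1 := by
      have : (2 : ℕ) ^ (W.h x + 1) = 2 ^ 2 := by exact_mod_cast he
      have := Nat.pow_right_injective le_rfl this
      omega
    refine ⟨by linarith, by linarith, by linarith, Or.inl hh⟩

/-- The characters of height one when `4 ≤ q`. -/
theorem rho_eq (hq : 4 ≤ q) (x : ι) (hx : W.h x ≠ 0) :
    W.rho x = if W.h x = 1 then 2 * (q : ℤ) - 4 else 0 := by
  obtain ⟨-, -, hr, hh⟩ := W.pos_cases x hx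
  rw [hr]
  split_ifs with h
  · rw [h]; norm_num
  · have h' : (2 : ℤ) ^ W.h x = q := by exact_mod_cast hh.resolve_left h
    rw [pow_succ, h']; ring

/-- The characters of height zero. -/
theorem zero_cases (x : ι) (hx : W.h x = 0) :
    (W.rho x = q - 1 ∧ W.c x + W.az x = 2 * q + 2 - q * R) ∨
      (4 ≤ q ∧ R = 0 ∧ W.rho x = 2 * q - 1 ∧ W.c x = 1 ∧ W.az x = 1) := by
  have hr := W.row x
  rw [if_pos hx] at hr
  have h1 := W.c_pos x hx
  have h2 := W.az_pos x hx
  rcases W.rho_zero x hx with h | ⟨hq, h⟩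
  · exact Or.inl ⟨h, by linarith⟩
  · have hR : R = 0 := by
      by_contra hR
      have : (q : ℤ) ≤ q * R := le_mul_of_one_le_right (by positivity) (by omega)
      have : (4 : ℤ) ≤ q := by exact_mod_cast hq
      linarith
    subst hR
    rw [Nat.cast_zero, mul_zero, add_zero] at hr
    exact Or.inr ⟨hq, rfl, by linarith, by linarith, by linarith⟩

/-- The number of characters of positive height. -/
theorem card_split :
    (Finset.univ.filter fun x => W.h x ≠ 0).card + 4 = l + lz + q + R - 1 := by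
  rw [← W.card, ← Finset.card_univ, ← W.card_h0, add_comm]
  exact Finset.card_filter_add_card_filter_not _

/-- The square sum in the row of a character of height zero. -/
theorem row_ge (x : ι) (hx : W.h x = 0) :
    4 + ∑ y ∈ Finset.univ.filter (fun y => W.h y ≠ 0), (4 : ℤ) ^ W.h y ≤ 4 * q * W.az x := by
  rw [← W.Cz_row x, ← Finset.sum_filter_add_sum_filter_not Finset.univ fun y => W.h y = 0]
  have hy : ∀ y, (4 : ℤ) ^ W.h y ≤ W.Cz x y ^ 2 := by
    intro y
    obtain ⟨o, ho, he⟩ := W.Cz_exact x hx y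
    rw [he, mul_pow, ← pow_mul, mul_comm (W.h y) 2, pow_mul, show (2 : ℤ) ^ 2 = 4 by norm_num]
    refine le_mul_of_one_le_right (by positivity) ?_
    rcases ho with ⟨m, rfl⟩
    rcases le_or_gt 0 m with h | h <;> nlinarith
  refine add_le_add ?_ (Finset.sum_le_sum fun y _ => hy y)
  have h4 : ((Finset.univ.filter fun y => W.h y = 0).card : ℤ) = 4 := by exact_mod_cast W.card_h0
  rw [← h4, Finset.card_eq_sum_ones, Nat.cast_sum]
  refine Finset.sum_le_sum fun y hy' => ?_
  have := hy y
  rw [(Finset.mem_filter.1 hy').2, pow_zero] at this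
  exact_mod_cast this

/-- The number of characters of height one is odd. -/
theorem odd_card_one :
    Odd (Finset.univ.filter fun x => W.h x = 1).card := by
  obtain ⟨x, hx⟩ := Finset.card_pos.1 (show 0 < (Finset.univ.filter fun x => W.h x = 0).card by
    rw [W.card_h0]; norm_num)
  have hx' := (Finset.mem_filter.1 hx).2
  have h2q : 2 ∣ q := by
    rcases W.q_cases with h | ⟨h, -⟩
    · rw [h]
    · exact (show 2 ∣ 4 by norm_num).trans h
  have hz : ((∑ y, W.Cz x y ^ 2 : ℤ) : ZMod 8) = 0 := by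
    rw [W.Cz_row x, ZMod.intCast_zmod_eq_zero_iff_dvd]
    obtain ⟨m, rfl⟩ := h2q
    exact ⟨m * W.az x, by push_cast; ring⟩
  have hy : ∀ y, ((W.Cz x y : ℤ) : ZMod 8) ^ 2
      = (if W.h y = 0 then 1 else 0) + 4 * (if W.h y = 1 then 1 else 0) := by
    intro y
    obtain ⟨o, ⟨m, rfl⟩, he⟩ := W.Cz_exact x hx' y
    rw [he]
    have key : ∀ m : ZMod 8, (2 * m + 1) ^ 2 = 1 := by decide
    push_cast
    rw [mul_pow, key, mul_one, ← pow_mul]
    rcases Nat.lt_or_ge (W.h y) 2 with h2 | h2
    · interval_cases (W.h y) <;> decide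
    · rw [if_neg (by omega), if_neg (by omega)]
      obtain ⟨j, hj⟩ := Nat.exists_eq_add_of_le (show 3 ≤ W.h y * 2 by omega)
      rw [hj, pow_add, show (2 : ZMod 8) ^ 3 = 0 by decide]
      simp
  push_cast at hz
  rw [Finset.sum_congr rfl fun y _ => hy y, Finset.sum_add_distrib, ← Finset.mul_sum,
    Finset.sum_boole, Finset.sum_boole, W.card_h0] at hz
  by_contra he
  obtain ⟨m, hm⟩ := Nat.not_odd_iff_even.1 he
  rw [hm] at hz
  push_cast at hz
  have key : ∀ m : ZMod 8, 4 + 4 * (m + m) ≠ 0 := by decide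
  exact key _ hz

/-- No character of height zero is exceptional, given one more condition. -/
theorem rho_h0 (hRz : R = 0 → 2 ≤ lz) (x : ι) (hx : W.h x = 0) : W.rho x = q - 1 := by
  rcases W.zero_cases x hx with ⟨h, -⟩ | ⟨hq, hR, hr, -, haz⟩
  · exact h
  exfalso
  set S0 := Finset.univ.filter fun y => W.h y = 0
  set S := Finset.univ.filter fun y => W.h y ≠ 0
  set n := (Finset.univ.filter fun y => W.h y = 1).card
  have hrow := W.row_ge x hx
  rw [haz] at hrow
  have hq' : (4 : ℤ) ≤ q := by exact_mod_cast hq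
  have hall : ∀ y ∈ S, W.h y = 1 := by
    intro y hy
    by_contra h
    obtain ⟨-, -, -, hh⟩ := W.pos_cases y (Finset.mem_filter.1 hy).2
    have h' : (2 : ℤ) ^ W.h y = q := by exact_mod_cast hh.resolve_left h
    have h1 : (4 : ℤ) ^ W.h y ≤ ∑ z ∈ S, (4 : ℤ) ^ W.h z :=
      Finset.single_le_sum (f := fun z => (4 : ℤ) ^ W.h z) (fun _ _ => by positivity) hy
    rw [show (4 : ℤ) ^ W.h y = q * q by rw [show (4 : ℤ) = 2 * 2 by norm_num, mul_pow, h']] at h1
    nlinarith
  have hSn : S = Finset.univ.filter fun y => W.h y = 1 := by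
    ext y
    simp only [S, Finset.mem_filter, Finset.mem_univ, true_and]
    exact ⟨fun h => hall y (Finset.mem_filter.2 ⟨Finset.mem_univ _, h⟩), fun h => by omega⟩
  have hcard := W.card_split
  rw [show (Finset.univ.filter fun y => W.h y ≠ 0).card = n from congrArg Finset.card hSn] at hcard
  -- the sum over the rotations
  have hsum := W.sum_rho
  rw [← Finset.sum_filter_add_sum_filter_not Finset.univ fun y => W.h y = 0] at hsum
  have hS0 : (3 * ((q : ℤ) - 1)) + (2 * q - 1) ≤ ∑ y ∈ S0, W.rho y := by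
    have hxm : x ∈ S0 := Finset.mem_filter.2 ⟨Finset.mem_univ _, hx⟩
    rw [← Finset.add_sum_erase _ _ hxm, hr, add_comm]
    refine add_le_add le_rfl ?_
    refine le_trans ?_ (Finset.sum_le_sum (f := fun _ => (q : ℤ) - 1) fun y hy => ?_)
    · rw [Finset.sum_const, Finset.card_erase_of_mem hxm, W.card_h0]; simp
    · rcases W.rho_zero y (Finset.mem_filter.1 (Finset.mem_of_mem_erase hy)).2 with h | ⟨-, h⟩
      · exact h.ge
      · linarith
  have hS1 : ∑ y ∈ Finset.univ.filter (fun y => ¬ W.h y = 0), W.rho y = n * (2 * (q : ℤ) - 4) := by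
    rw [show (Finset.univ.filter fun y => ¬ W.h y = 0) = S from rfl, hSn, Finset.sum_congr rfl
      (g := fun _ => 2 * (q : ℤ) - 4) fun y hy => by
        rw [W.rho_eq hq y (by rw [(Finset.mem_filter.1 hy).2]; omega),
          if_pos (Finset.mem_filter.1 hy).2], Finset.sum_const, nsmul_eq_mul]
  rw [hS1] at hsum
  have hodd : Odd n := W.odd_card_one
  have h2 := hRz hR
  have h1 := W.one_le_l
  have hlow : q - 1 ≤ n := by
    obtain ⟨m, hm⟩ := hodd
    obtain ⟨t, ht⟩ := (W.q_cases.resolve_left (by omega)).1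
    omega
  have hlow' : (q : ℤ) - 1 ≤ n := by
    have : ((q - 1 : ℕ) : ℤ) ≤ n := by exact_mod_cast hlow
    rw [Nat.cast_sub (by omega)] at this
    simpa using this
  nlinarith

/-- The exceptional characters, counted. -/
theorem exists_excess (hnorm : ∀ x, W.h x = 0 → W.rho x = q - 1) :
    ∃ E : ℕ, l + lz + R = E + 4 ∧
      ∑ x ∈ Finset.univ.filter (fun x => W.h x ≠ 0), W.az x = 4 * ((q : ℤ) - 1) + 2 * q * E ∧
      ∑ x ∈ Finset.univ.filter (fun x => W.h x ≠ 0), (4 : ℤ) ^ W.h x
        = 4 * ((q : ℤ) - 1) + q ^ 2 * E ∧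
      (4 ≤ q → (Finset.univ.filter fun x => W.h x = 1).card = q - 1) := by
  set S := Finset.univ.filter fun x => W.h x ≠ 0
  have hcard := W.card_split
  have hsum := W.sum_rho
  rw [← Finset.sum_filter_add_sum_filter_not Finset.univ fun y => W.h y = 0,
    Finset.sum_congr rfl (g := fun _ => (q : ℤ) - 1) fun y hy => hnorm y (Finset.mem_filter.1 hy).2,
    Finset.sum_const, W.card_h0] at hsum
  simp only [Nat.ofNat_nsmul_eq_mul] at hsum
  rcases W.sq_q_ge with rfl | hq
  · have hS : 1 ≤ S.card := by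
      obtain ⟨y, hy⟩ := Finset.card_pos.1 W.odd_card_one.pos
      exact Finset.card_pos.2 ⟨y, Finset.mem_filter.2
        ⟨Finset.mem_univ _, by rw [(Finset.mem_filter.1 hy).2]; omega⟩⟩
    have hcard' : S.card + 4 = l + lz + 2 + R - 1 := hcard
    refine ⟨S.card - 1, by omega, ?_, ?_, fun h => absurd h (by norm_num)⟩
    · rw [Finset.sum_congr rfl (g := fun _ => (4 : ℤ)) fun y hy => ?_, Finset.sum_const,
        nsmul_eq_mul, Nat.cast_sub hS]
      · push_cast; ring
      · obtain ⟨-, h2, -, hh⟩ := W.pos_cases y (Finset.mem_filter.1 hy).2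
        have : W.h y = 1 := hh.elim id fun h => Nat.pow_right_injective le_rfl (h.trans (pow_one 2).symm)
        rw [h2, this]; norm_num
    · rw [Finset.sum_congr rfl (g := fun _ => (4 : ℤ)) fun y hy => ?_, Finset.sum_const,
        nsmul_eq_mul, Nat.cast_sub hS]
      · push_cast; ring
      · obtain ⟨-, -, -, hh⟩ := W.pos_cases y (Finset.mem_filter.1 hy).2
        have : W.h y = 1 := hh.elim id fun h => Nat.pow_right_injective le_rfl (h.trans (pow_one 2).symm)
        rw [this, pow_one]
  · have hq' : (4 : ℤ) ≤ q := by exact_mod_cast hq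
    rw [Finset.sum_congr rfl fun y hy => W.rho_eq hq y (Finset.mem_filter.1 hy).2,
      ← Finset.sum_filter, Finset.sum_const, nsmul_eq_mul] at hsum
    have hSn : (Finset.univ.filter fun y => ¬ W.h y = 0).filter (fun y => W.h y = 1)
        = Finset.univ.filter fun y => W.h y = 1 := by
      rw [Finset.filter_filter]
      exact Finset.filter_congr fun y _ => ⟨And.right, fun h => ⟨by omega, h⟩⟩
    rw [hSn] at hsum
    set n := (Finset.univ.filter fun y => W.h y = 1).card
    have hn : (n : ℤ) = q - 1 := mul_right_cancel₀ (b := 2 * (q : ℤ) - 4) (by linarith) (by linarith)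
    have hle : n ≤ S.card := by
      rw [show n = (S.filter fun y => W.h y = 1).card from (congrArg Finset.card hSn).symm]
      exact Finset.card_filter_le _ _
    have hn' : n = q - 1 := by
      have : (n : ℤ) = ((q - 1 : ℕ) : ℤ) := by rw [Nat.cast_sub (by omega)]; simpa using hn
      exact_mod_cast this
    have hrest : (S.filter fun y => ¬ W.h y = 1).card = S.card - n := by
      have := Finset.card_filter_add_card_filter_not (s := S) fun y => W.h y = 1
      rw [show (S.filter fun y => W.h y = 1).card = n from congrArg Finset.card hSn] at this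
      omega
    refine ⟨S.card - n, ?_, ?_, ?_, fun _ => hn'⟩
    · have hS' : S.card + 4 = l + lz + q + R - 1 := hcard
      omega
    all_goals rw [← Finset.sum_filter_add_sum_filter_not S fun y => W.h y = 1]
    · rw [Finset.sum_congr rfl (g := fun _ => (4 : ℤ)) fun y hy => ?_,
        Finset.sum_congr rfl (s₁ := S.filter fun y => ¬ W.h y = 1) (g := fun _ => 2 * (q : ℤ))
          fun y hy => ?_, Finset.sum_const, Finset.sum_const, hrest,
        show (S.filter fun y => W.h y = 1).card = n from congrArg Finset.card hSn, nsmul_eq_mul,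
        nsmul_eq_mul, hn]
      · push_cast; ring
      · obtain ⟨-, h2, -, hh⟩ := W.pos_cases y (Finset.mem_filter.1 (Finset.mem_filter.1 hy).1).2
        have : (2 : ℤ) ^ W.h y = q := by exact_mod_cast hh.resolve_left (Finset.mem_filter.1 hy).2
        rw [h2, pow_succ, this]; ring
      · rw [(W.pos_cases y (Finset.mem_filter.1 (Finset.mem_filter.1 hy).1).2).2.1,
          (Finset.mem_filter.1 hy).2]
        norm_num
    · rw [Finset.sum_congr rfl (g := fun _ => (4 : ℤ)) fun y hy => ?_,
        Finset.sum_congr rfl (s₁ := S.filter fun y => ¬ W.h y = 1) (g := fun _ => (q : ℤ) ^ 2)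
          fun y hy => ?_, Finset.sum_const, Finset.sum_const, hrest,
        show (S.filter fun y => W.h y = 1).card = n from congrArg Finset.card hSn, nsmul_eq_mul,
        nsmul_eq_mul, hn]
      · push_cast; ring
      · obtain ⟨-, -, -, hh⟩ := W.pos_cases y (Finset.mem_filter.1 (Finset.mem_filter.1 hy).1).2
        have : (2 : ℤ) ^ W.h y = q := by exact_mod_cast hh.resolve_left (Finset.mem_filter.1 hy).2
        rw [show (4 : ℤ) = 2 * 2 by norm_num, mul_pow, this]; ring
      · rw [(Finset.mem_filter.1 hy).2, pow_one]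

/-- The bound on the number of exceptional characters. -/
theorem main (hRz : R = 0 → 2 ≤ lz) :
    ∃ E : ℕ, Fintype.card ι = q + 3 + E ∧ l + lz + R = E + 4 ∧
      (lz ≤ 3 → E ≤ 2) ∧ (lz ≤ 2 → E ≤ 1) ∧ (lz ≤ 1 → E = 0) ∧
      (4 ≤ q → (Finset.univ.filter fun x => W.h x = 1).card = q - 1) := by
  have hnorm := W.rho_h0 hRz
  obtain ⟨E, hE, haz, hsq, h1⟩ := W.exists_excess hnorm
  have hq2 : (2 : ℤ) ≤ q := by exact_mod_cast W.two_le
  have htot := W.sum_az
  rw [← Finset.sum_filter_add_sum_filter_not Finset.univ fun x => W.h x = 0, haz] at htot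
  set S0 := Finset.univ.filter fun x => W.h x = 0
  have h4 : (4 : ℤ) ≤ ∑ x ∈ S0, W.az x := by
    refine le_trans (le_of_eq ?_) (Finset.sum_le_sum (f := fun _ => (1 : ℤ)) fun x hx =>
      W.az_pos x (Finset.mem_filter.1 hx).2)
    rw [Finset.sum_const, W.card_h0]; norm_num
  obtain ⟨x, hx, hmin⟩ := S0.exists_min_image W.az
    (Finset.card_pos.1 (show 0 < S0.card by rw [W.card_h0]; norm_num))
  have hlow : 4 * W.az x ≤ ∑ y ∈ S0, W.az y := by
    refine le_trans (le_of_eq ?_) (Finset.sum_le_sum (f := fun _ => W.az x) hmin)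
    rw [Finset.sum_const, W.card_h0]; norm_num
  have hrow := W.row_ge x (Finset.mem_filter.1 hx).2
  rw [hsq] at hrow
  have hqpos : (0 : ℤ) < q := by linarith
  have hrow' : (q : ℤ) * E + 4 ≤ 4 * W.az x := by
    refine le_of_mul_le_mul_left ?_ hqpos
    linarith [show (q : ℤ) * (q * E + 4) = q ^ 2 * E + 4 * q by ring]
  have hsum0 : ∑ y ∈ S0, W.az y = 4 * q * lz - 4 * ((q : ℤ) - 1) - 2 * q * E := by linarith
  have hkey : (q : ℤ) * E + 4 ≤ 4 * q * lz - 4 * ((q : ℤ) - 1) - 2 * q * E := by linarith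
  have h3 : 3 * (E : ℤ) ≤ 4 * ((lz : ℤ) - 1) := by
    refine le_of_mul_le_mul_left ?_ hqpos
    linarith
  refine ⟨E, ?_, hE, fun h => by omega, fun h => by omega, fun h => by omega, h1⟩
  have := W.card
  have := W.two_le
  omega

/-- The case of a central involution. -/
theorem central (hl : l = lz) (hc : ∀ x, W.c x = W.az x) (U : Finset ι)
    (hU0 : ∀ x, W.h x = 0 → x ∈ U) (hU1 : ∀ x ∈ U, W.h x ≤ 1)
    (hUcard : 2 * U.card = q + 6) (hUsum : 2 * ∑ x ∈ U, W.c x = 4 * q * l) :
    lz + R = 3 := by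
  set S0 := Finset.univ.filter fun x => W.h x = 0
  have hS0U : S0 ⊆ U := fun x hx => hU0 x (Finset.mem_filter.1 hx).2
  have hU1' : ∀ x ∈ U \ S0, W.c x = 4 := by
    intro x hx
    obtain ⟨hxU, hx0⟩ := Finset.mem_sdiff.1 hx
    have hne : W.h x ≠ 0 := fun h => hx0 (Finset.mem_filter.2 ⟨Finset.mem_univ _, h⟩)
    have h1 : W.h x = 1 := by have := hU1 x hxU; omega
    rw [(W.pos_cases x hne).1, h1]; norm_num
  have hcard : 2 * ((U \ S0).card : ℤ) = q - 2 := by
    have := Finset.card_sdiff_add_card_eq_card hS0U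
    rw [W.card_h0] at this
    have h' : 2 * ((U.card : ℕ) : ℤ) = q + 6 := by exact_mod_cast hUcard
    rw [← this] at h'
    push_cast at h'
    linarith
  rw [← Finset.sum_sdiff hS0U, Finset.sum_congr rfl hU1', Finset.sum_const, nsmul_eq_mul] at hUsum
  have hq2 : (2 : ℤ) ≤ q := by exact_mod_cast W.two_le
  by_cases hnorm : ∀ x, W.h x = 0 → W.rho x = q - 1
  · have h0 : 2 * ∑ x ∈ S0, W.c x = 4 * (2 * (q : ℤ) + 2 - q * R) := by
      rw [Finset.mul_sum, Finset.sum_congr rfl (g := fun _ => 2 * (q : ℤ) + 2 - q * R) fun x hx => ?_,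
        Finset.sum_const, W.card_h0]
      · simp
      · have hx' := (Finset.mem_filter.1 hx).2
        have := W.row x
        rw [if_pos hx', hc x, hnorm x hx'] at this
        rw [hc x]
        linarith
    subst hl
    have : ((l : ℤ) + R) * (4 * q) = 3 * (4 * q) := by linarith
    have := mul_right_cancel₀ (by linarith) this
    exact_mod_cast this
  · exfalso
    push Not at hnorm
    obtain ⟨x, hx, hxr⟩ := hnorm
    obtain ⟨hq, hR, hr, -, haz⟩ := (W.zero_cases x hx).resolve_left fun h => hxr h.1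
    have hq4 : (4 : ℤ) ≤ q := by exact_mod_cast hq
    -- all of positive height have height one
    have hrow := W.row_ge x hx
    rw [haz] at hrow
    set S := Finset.univ.filter fun y => W.h y ≠ 0
    have hall : ∀ y ∈ S, W.h y = 1 := by
      intro y hy
      by_contra h
      obtain ⟨-, -, -, hh⟩ := W.pos_cases y (Finset.mem_filter.1 hy).2
      have h' : (2 : ℤ) ^ W.h y = q := by exact_mod_cast hh.resolve_left h
      have h1 : (4 : ℤ) ^ W.h y ≤ ∑ z ∈ S, (4 : ℤ) ^ W.h z :=
        Finset.single_le_sum (f := fun z => (4 : ℤ) ^ W.h z) (fun _ _ => by positivity) hy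
      rw [show (4 : ℤ) ^ W.h y = q * q by rw [show (4 : ℤ) = 2 * 2 by norm_num, mul_pow, h']] at h1
      nlinarith
    have hcs := W.card_split
    have hcs' : (S.card : ℤ) + 5 = 2 * lz + q := by
      have : S.card + 5 = 2 * lz + q := by
        have : S.card + 4 = l + lz + q + R - 1 := hcs
        omega
      exact_mod_cast this
    -- the rotations against the identity
    have hS0c : ∀ y ∈ S0, W.c y = 2 * (q : ℤ) - W.rho y := fun y hy => by
      have := W.row y
      rw [if_pos (Finset.mem_filter.1 hy).2, hc y,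
        show ((q : ℤ) * R) = 0 by rw [hR]; simp] at this
      rw [hc y]
      linarith
    have hrho := W.sum_rho
    rw [← Finset.sum_filter_add_sum_filter_not Finset.univ fun y => W.h y = 0,
      Finset.sum_congr rfl (s₁ := Finset.univ.filter fun y => ¬ W.h y = 0)
        (g := fun _ => 2 * (q : ℤ) - 4) fun y hy => by
          rw [W.rho_eq hq y (Finset.mem_filter.1 hy).2, if_pos (hall y hy)],
      Finset.sum_const, nsmul_eq_mul] at hrho
    rw [Finset.sum_congr rfl hS0c, Finset.sum_sub_distrib, Finset.sum_const, W.card_h0] at hUsum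
    simp only [Nat.ofNat_nsmul_eq_mul] at hUsum
    have hlc : (l : ℤ) = lz := by exact_mod_cast hl
    rw [hlc] at hUsum
    have hlow : 4 * ((q : ℤ) - 1) + q ≤ ∑ y ∈ S0, W.rho y := by
      have hxm : x ∈ S0 := Finset.mem_filter.2 ⟨Finset.mem_univ _, hx⟩
      rw [← Finset.add_sum_erase _ _ hxm, hr]
      have : 3 * ((q : ℤ) - 1) ≤ ∑ y ∈ S0.erase x, W.rho y := by
        refine le_trans (le_of_eq ?_) (Finset.sum_le_sum (f := fun _ => (q : ℤ) - 1) fun y hy => ?_)
        · rw [Finset.sum_const, Finset.card_erase_of_mem hxm, W.card_h0]; simp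
        · rcases W.rho_zero y (Finset.mem_filter.1 (Finset.mem_of_mem_erase hy)).2 with h | ⟨-, h⟩
          · exact h.ge
          · linarith
      linarith
    have hhigh : ∑ y ∈ S0, W.rho y ≤ 4 * (2 * (q : ℤ) - 1) := by
      refine le_trans (Finset.sum_le_sum (g := fun _ => 2 * (q : ℤ) - 1) fun y hy => ?_) (le_of_eq ?_)
      · have := W.c_pos y (Finset.mem_filter.1 hy).2
        rw [hS0c y hy] at this
        linarith
      · rw [Finset.sum_const, W.card_h0]; simp
    set P := ∑ y ∈ S0, W.rho y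
    have e1 : 4 * (q : ℤ) * lz = 20 * (q : ℤ) - 8 - 2 * P := by linarith
    have e2 : (P : ℤ) = 2 * q * (q - 1) - (2 * lz + q - 5) * (2 * (q : ℤ) - 4) := by
      rw [← hrho, show (S.card : ℤ) = 2 * lz + q - 5 by linarith]
      ring
    have hl2 : (lz : ℤ) ≤ 2 := by
      by_contra h
      push Not at h
      have : 12 * (q : ℤ) ≤ 4 * q * lz := by nlinarith
      linarith
    have hl1 : (1 : ℤ) ≤ lz := by rw [← hlc]; exact_mod_cast W.one_le_l
    have : (lz : ℤ) = 1 ∨ (lz : ℤ) = 2 := by omega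
    rcases this with h | h <;> rw [h] at e1 e2 <;> nlinarith

end Weights

end CfsgLib.Blocks.TameDefect
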