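import Cfsg.Agent.Lib.Blocks.TameDefect.CycRotations
import Cfsg.Agent.Lib.Blocks.TameDefect.CycStable
import Cfsg.Agent.Lib.Blocks.TameDefect.TameWeights
import Cfsg.Agent.Lib.BrouePuig.Nilpotent
import Cfsg.Agent.Lib.Blocks.Rank

/-!
# The weights of a block with a semidihedral or quaternion defect group
-/

set_option autoImplicit false
set_option maxHeartbeats 1600000

namespace CfsgLib.Blocks.TameDefect

open Cfsg CfsgLib.Blocks CfsgLib.BrauerPairs CfsgLib.BrouePuig CfsgLib.Blocks.TwoPowerTrace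
open scoped Classical ComplexConjugate

universe u

section One

variable {G : Type u} [Group G] [Fintype G] {p : ℕ} [Fact p.Prime] {M : Ideal AlgInt}
  {B : Set (IrrCharacter G)} {D : Subgroup G}
  {eD : Set (IrrCharacter (Subgroup.centralizer (D : Set G)))} {hM : IsPModular p M}
  (hmax : IsMaximalBrauerPair p M B D eD)

/-- The contributions of the identity. -/
theorem classSec_one {χ φ : IrrCharacter G} (hχ : χ ∈ B) (hφ : φ ∈ B) :
    classSec hM hmax.1.1 (1 : D) χ φ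
      = regInner p (χ : G → ℂ) (φ : G → ℂ) * (pPartCard p G : ℂ)⁻¹ := by
  have hc : Nat.card (cenZ ((1 : D) : G)) = Nat.card G := by
    rw [show cenZ ((1 : D) : G) = ⊤ from eq_top_iff.2 fun x _ => by
      rw [cenZ_eq, Subgroup.mem_centralizer_singleton_iff, OneMemClass.coe_one, mul_one, one_mul],
      Subgroup.card_top]
  rw [classSec, secInner_bel_one hM hmax hχ hφ, hc, regInner]
  simp only [conj_irr]
  have := pPartCard_ne_zero (G := G) hM.1
  field_simp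

include hmax in
theorem rank_bel_one : blockRank p (bel hM hmax.1.1 (1 : D)).2 = blockRank p B := by
  apply Nat.cast_injective (R := ℂ)
  rw [← sum_classSec_self hmax (1 : D),
    Finset.sum_congr rfl fun χ hχ =>
      classSec_one (hM := hM) hmax (Finset.mem_filter.1 hχ).2 (Finset.mem_filter.1 hχ).2,
    ← Finset.sum_mul]
  have h := pPartCard_mul_blockRank hM hmax.1.2.1
  rw [Finset.sum_subtype (p := fun χ => χ ∈ B) _ (fun χ => by simp)
    (fun χ : IrrCharacter G => regInner p (χ : G → ℂ) (χ : G → ℂ)), ← h, mul_comm, ← mul_assoc,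
    inv_mul_cancel₀ (pPartCard_ne_zero hM.1), one_mul]

end One

namespace Cyc

variable {G : Type u} [Group G] [Fintype G] {D : Subgroup G} {m : ℕ} {e : ℤ} {a : G}
  [Fact (Nat.Prime 2)] {M : Ideal AlgInt} {B : Set (IrrCharacter G)}
  {eD : Set (IrrCharacter (Subgroup.centralizer (D : Set G)))} {hM : IsPModular 2 M}

/-- The contributions of a class fused to no rotation. -/
theorem exists_out {k : ℕ} (h : Cyc D k e a) (hmax : IsMaximalBrauerPair 2 M B D eD) {x : D}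
    (hx : ¬ Absorbed hM hmax.1.1 a x) :
    blockRank 2 (bel hM hmax.1.1 x).2 = 1 ∧
    ∃ n : IrrCharacter G → ℤ,
      (∀ χ, classSec hM hmax.1.1 x χ χ = (n χ : ℂ) / 4) ∧ (∀ χ, 0 ≤ n χ) ∧
      (∀ χ ∈ B, TwoMajor.ht B χ = 0 → 1 ≤ n χ) ∧ ∑ χ, n χ = 4 ∧
      ∀ χ, n χ = 0 → ∀ φ, classSec hM hmax.1.1 x χ φ = 0 := by
  have hxA : (x : G) ∉ Subgroup.zpowers a := fun hh => hx ⟨x, hh, Fused.refl x⟩
  obtain ⟨C⟩ := h.nonempty_outColumns (hM := hM) hmax hx
  have hxC : (x : G) ∈ D ⊓ cenZ (x : G) := Subgroup.mem_inf.2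
    ⟨x.2, by rw [cenZ_eq, Subgroup.mem_centralizer_singleton_iff]⟩
  set w : (D ⊓ cenZ (x : G) : Subgroup G) := ⟨x, hxC⟩
  have hr : blockRank 2 (bel hM hmax.1.1 x).2 = 1 := C.rank w x.2 le_rfl
  have hd := h.defect_out hmax hx
  have hcls : ∀ χ φ, classSec hM hmax.1.1 x χ φ = C.g χ w * conj (C.g φ w) / 4 := by
    intro χ φ
    have h1 : classSec hM hmax.1.1 x χ φ
        = C.g χ w * conj (C.g φ w) * (Nat.card (D ⊓ cenZ (x : G) : Subgroup G) : ℂ)⁻¹ :=
      C.cls w x.2 le_rfl χ φ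
    rw [h1, h.card_inf_out hxA, div_eq_mul_inv]
    norm_num
  have hsc : ∀ χ φ, scaledSec hM hmax.1.1 x χ φ = C.g χ w * conj (C.g φ w) := fun χ φ => by
    rw [scaledSec, hcls, hd]; ring
  have hω : IsPrimitiveRoot (Complex.exp (2 * Real.pi * Complex.I / (2 ^ (1 + 1) : ℕ)))
      (2 ^ (1 + 1)) := Complex.isPrimitiveRoot_exp _ (pow_ne_zero _ two_ne_zero)
  set ω := Complex.exp (2 * Real.pi * Complex.I / (2 ^ (1 + 1) : ℕ))
  have hω2 : ω ^ 2 = -1 := pow_half hω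
  have hint : ∀ χ, ∃ n : ℤ, C.g χ w * conj (C.g χ w) = n := by
    intro χ
    have hmem := scaledSec_mem_adjoin (hM := hM) hmax x χ χ hω (by
      have := h.pow_four x.2 hxA
      rw [← this]; simp [pow_succ, mul_assoc])
    rw [hsc] at hmem
    obtain ⟨c, hc⟩ := exists_coeffs hω hmem
    have hre : conj (C.g χ w * conj (C.g χ w)) = C.g χ w * conj (C.g χ w) := by
      rw [map_mul, Complex.conj_conj, mul_comm]
    rw [hc] at hre ⊢
    have hsum : ∑ i : Fin (2 ^ 1), (c i : ℂ) * ω ^ (i : ℕ)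
        = (c ⟨0, by norm_num⟩ : ℂ) + (c ⟨1, by norm_num⟩ : ℂ) * ω := by
      show ∑ i : Fin 2, (c i : ℂ) * ω ^ (i : ℕ) = _
      rw [Fin.sum_univ_two]; simp
    rw [hsum] at hre ⊢
    refine ⟨c ⟨0, by norm_num⟩, ?_⟩
    have hconj : conj ω = -ω := by
      have h1 : ω ≠ 0 := fun h0 => by rw [h0] at hω2; norm_num at hω2
      rw [← Complex.inv_eq_conj (hω.norm'_eq_one (pow_ne_zero _ two_ne_zero))]
      field_simp
      linear_combination hω2
    rw [map_add, map_mul, map_intCast, map_intCast, hconj] at hre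
    have h2 : (c ⟨1, by norm_num⟩ : ℂ) * ω = 0 := by linear_combination (-1 / 2 : ℂ) * hre
    rw [h2, add_zero]
  choose n hn using hint
  have hnn : ∀ χ, 0 ≤ n χ := fun χ => by
    have h1 := hn χ
    rw [Complex.mul_conj] at h1
    have h2 : (0 : ℝ) ≤ (n χ : ℝ) := by
      rw [← show Complex.normSq (C.g χ w) = (n χ : ℝ) by exact_mod_cast h1]
      exact Complex.normSq_nonneg _
    exact_mod_cast h2
  refine ⟨hr, n, fun χ => by rw [hcls, hn], hnn, fun χ hχ h0 => ?_, ?_, fun χ h0 φ => ?_⟩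
  · have hdeg : degVal 2 χ = minDegVal 2 B := by
      have := minDegVal_le (p := 2) hχ
      simp only [TwoMajor.ht] at h0
      omega
    have h1 := scaledSec_not_LI (hM := hM) hmax x hχ hχ hdeg hdeg
    rw [hsc, hn] at h1
    have : n χ ≠ 0 := fun h' => h1 (by rw [h', Int.cast_zero]; exact LI.zero hM)
    have := hnn χ
    omega
  · apply Int.cast_injective (α := ℂ)
    rw [Int.cast_sum, ← Finset.sum_congr rfl fun χ _ => (hsc χ χ).trans (hn χ),
      sum_scaledSec_self hmax, hr, hd]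
    norm_num
  · have h1 := hn χ
    rw [h0, Int.cast_zero, Complex.mul_conj] at h1
    have : C.g χ w = 0 := Complex.normSq_eq_zero.1 (by exact_mod_cast h1)
    rw [hcls, this, zero_mul, zero_div]

/-- The table of weights. -/
theorem exists_weights (h : Cyc D (m + 1) e a) (hmax : IsMaximalBrauerPair 2 M B D eD) (b b' : D)
    (hb : (b : G) ∉ Subgroup.zpowers a) (hb' : (b' : G) = (b : G) * a) :
    ∃ W : Weights {χ : IrrCharacter G // χ ∈ B} (2 ^ m) (blockRank 2 B)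
        (blockRank 2 (bel hM hmax.1.1 ⟨zinv (m + 1) a, h.z_mem⟩).2)
        (outReps hM hmax.1.1 a b b').card,
      (∀ χ, W.h χ = TwoMajor.ht B χ.1) ∧
      (∀ χ, (W.c χ : ℂ) = scaledSec hM hmax.1.1 ⟨1, D.one_mem⟩ χ.1 χ.1) ∧
      (∀ χ, (W.az χ : ℂ) = scaledSec hM hmax.1.1 ⟨zinv (m + 1) a, h.z_mem⟩ χ.1 χ.1) := by
  have hB : IsPBlock M B := hmax.1.2.1
  have hm : 1 ≤ m := by have := h.two_le; omega
  have hd : blockDefect 2 B = m + 2 := Nat.pow_right_injective le_rfl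
    ((card_defectGroup hM hB (isDefectGroup_of_isMaximal hM hmax)).symm.trans h.card)
  obtain ⟨one, hone⟩ : ∃ one : D, one = ⟨1, D.one_mem⟩ := ⟨_, rfl⟩
  obtain ⟨zD, hzD⟩ : ∃ zD : D, zD = ⟨zinv (m + 1) a, h.z_mem⟩ := ⟨_, rfl⟩
  rw [← hzD, ← hone]
  have hle1 : D ≤ cenZ (one : G) := fun x _ => by
    rw [hone, cenZ_eq, Subgroup.mem_centralizer_singleton_iff, mul_one, one_mul]
  have hlez : D ≤ cenZ (zD : G) := fun x hx => by
    rw [hzD, cenZ_eq, Subgroup.mem_centralizer_singleton_iff]; exact h.z_comm hx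
  have hd1 := (exists_maximal_nest hM hmax one hle1).1
  have hdz := (exists_maximal_nest hM hmax zD hlez).1
  obtain ⟨C₁, hC₁, hC₁s, hC₁sq, hC₁0, hC₁p⟩ :=
    exists_major (hM := hM) hmax one hd1 (by rw [hone]; exact mul_one _)
  obtain ⟨Cz, hCz, hCzs, hCzsq, hCz0, hCzp⟩ :=
    exists_major (hM := hM) hmax zD hdz (by rw [hzD]; exact h.z_sq)
  obtain ⟨ρ, hρ, hρ0, hρnn, hρc, hρodd, hle4⟩ := h.exists_rho (hM := hM) hmax b hb
  obtain ⟨η, hst, hgen, hη1, hηz⟩ := h.exists_eta hM hmax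
  rw [← hone] at hη1
  rw [← hzD] at hηz
  set T := reps hM hmax.1.1 h b b'
  have cover := h.reps_cover (hM := hM) hmax.1.1 hb hb'
  have inj := h.reps_inj (hM := hM) (b' := b') hmax hb
  set O := outReps hM hmax.1.1 a b b'
  set S0 := Finset.univ.filter fun χ : IrrCharacter G => χ ∈ B ∧ TwoMajor.ht B χ = 0
  have hout : ∀ x ∈ O, ¬ Absorbed hM hmax.1.1 a x := fun x hx => (Finset.mem_filter.1 hx).2.1
  have hne0 : ∀ χ φ, χ ∉ B ∨ φ ∉ B → Cz χ φ = 0 := by
    intro χ φ hor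
    have h1 := hCz χ φ
    rcases hor with h' | h'
    · rw [scaledSec_eq_zero hmax zD h'] at h1; exact_mod_cast h1.symm
    · rw [scaledSec_eq_zero' hmax zD h'] at h1; exact_mod_cast h1.symm
  -- four characters of height zero
  obtain ⟨χ₀, hχ₀, h00⟩ := exists_degVal_eq_min (p := 2) (IsPBlock.nonempty hM hB)
  have h00' : TwoMajor.ht B χ₀ = 0 := by simp [TwoMajor.ht, h00]
  have hcard0 : S0.card = 4 := by
    have hsum : ((∑ φ, Cz χ₀ φ ^ 2 : ℤ) : ZMod 4) = 0 := by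
      rw [hCzsq, hd, pow_add, show ((2 : ℤ) ^ 2) = 4 by norm_num, mul_comm ((2 : ℤ) ^ m), mul_assoc]
      push_cast
      rw [show (4 : ZMod 4) = 0 from rfl, zero_mul]
    have hterm : ∀ φ, ((Cz χ₀ φ : ℤ) : ZMod 4) ^ 2 = if φ ∈ S0 then 1 else 0 := by
      intro φ
      by_cases hφ : φ ∈ B
      · obtain ⟨o, ⟨t, rfl⟩, he⟩ := (hCz0 χ₀ hχ₀ h00').2 φ hφ
        rw [he]
        push_cast
        have key : ∀ t : ZMod 4, (2 * t + 1) ^ 2 = 1 := by decide
        rw [mul_pow, key, mul_one]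
        split_ifs with hh
        · rw [(Finset.mem_filter.1 hh).2.2]; norm_num
        · have hpos : TwoMajor.ht B φ ≠ 0 :=
            fun h' => hh (Finset.mem_filter.2 ⟨Finset.mem_univ _, hφ, h'⟩)
          obtain ⟨j, hj⟩ := Nat.exists_eq_succ_of_ne_zero hpos
          rw [hj, ← pow_mul, show (j + 1) * 2 = 2 + j * 2 by ring, pow_add,
            show (2 : ZMod 4) ^ 2 = 0 from rfl, zero_mul]
      · rw [hne0 χ₀ φ (Or.inr hφ), if_neg fun hh => hφ (Finset.mem_filter.1 hh).2.1]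
        simp
    push_cast at hsum
    rw [Finset.sum_congr rfl fun φ _ => hterm φ, Finset.sum_ite_mem, Finset.univ_inter,
      Finset.sum_const, nsmul_one, ZMod.natCast_eq_zero_iff] at hsum
    have hpos : 0 < S0.card :=
      Finset.card_pos.2 ⟨χ₀, Finset.mem_filter.2 ⟨Finset.mem_univ _, hχ₀, h00'⟩⟩
    obtain ⟨j, hj⟩ := hsum
    have : S0.card ≤ 4 := hle4
    omega
  -- the classes outside
  have hO : ∀ x ∈ O, ∀ χ, classSec hM hmax.1.1 x χ χ = (if χ ∈ S0 then 1 else 0) / 4 ∧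
      (χ ∉ S0 → ∀ φ, classSec hM hmax.1.1 x χ φ = 0) := by
    intro x hx
    obtain ⟨-, n, hn, hnn, hn1, hsum, hn0⟩ := h.exists_out hmax (hout x hx)
    have hle : ∀ χ ∈ (Finset.univ : Finset (IrrCharacter G)),
        (if χ ∈ S0 then (1 : ℤ) else 0) ≤ n χ := by
      intro χ _
      split_ifs with hh
      · exact hn1 χ (Finset.mem_filter.1 hh).2.1 (Finset.mem_filter.1 hh).2.2
      · exact hnn χ
    have heq := (Finset.sum_eq_sum_iff_of_le hle).1 (by
      rw [Finset.sum_ite_mem, Finset.univ_inter, Finset.sum_const, hcard0, hsum]; norm_num)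
    intro χ
    have hχ := heq χ (Finset.mem_univ _)
    refine ⟨by rw [hn, ← hχ]; split_ifs <;> simp, fun hh => hn0 χ ?_⟩
    rw [← hχ, if_neg hh]
  have h2 : ((2 : ℂ) ^ (m + 2)) ≠ 0 := pow_ne_zero _ two_ne_zero
  have hs1 : ∀ χ φ, (2 : ℂ) ^ (m + 2) * classSec hM hmax.1.1 one χ φ = C₁ χ φ := fun χ φ => by
    rw [← hC₁, scaledSec, hd1, hd, mul_comm]
  have hsz : ∀ χ φ, (2 : ℂ) ^ (m + 2) * classSec hM hmax.1.1 zD χ φ = Cz χ φ := fun χ φ => by
    rw [← hCz, scaledSec, hdz, hd, mul_comm]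
  have hsplit : ∀ (f : D → ℂ), ∑ t ∈ T, f t = f one + f zD
      + ∑ t ∈ rotReps (m + 1) a b, f t + ∑ t ∈ O, f t := fun f => by
    rw [hone, hzD]; exact h.sum_reps f
  -- the rows
  have hrow : ∀ χ ∈ B, C₁ χ χ + Cz χ χ + 2 * ρ χ
      + (if TwoMajor.ht B χ = 0 then (2 ^ m : ℤ) * O.card else 0) = 4 * 2 ^ m := by
    intro χ hχ
    have h1 := sum_classSec hmax cover inj hχ hχ
    rw [if_pos rfl, hsplit] at h1
    have h3 := congrArg (fun z : ℂ => (2 : ℂ) ^ (m + 2) * z) h1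
    simp only [mul_add, mul_one, hs1, hsz] at h3
    rw [show (2 : ℂ) ^ (m + 2) * ∑ t ∈ rotReps (m + 1) a b, classSec hM hmax.1.1 t χ χ
        = 2 * (ρ χ : ℂ) by rw [← hρ χ, pow_succ (2 : ℂ) (m + 1)]; ring,
      Finset.sum_congr rfl fun x hx => (hO x hx χ).1, Finset.sum_const, nsmul_eq_mul] at h3
    apply Int.cast_injective (α := ℂ)
    push_cast
    rw [show (2 : ℂ) ^ (m + 2) = 4 * 2 ^ m by rw [pow_add]; ring] at h3
    rw [← h3]
    simp only [show χ ∈ S0 ↔ TwoMajor.ht B χ = 0 from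
      ⟨fun hh => (Finset.mem_filter.1 hh).2.2, fun hh =>
        Finset.mem_filter.2 ⟨Finset.mem_univ _, hχ, hh⟩⟩]
    split_ifs <;> ring
  have hsub : ∀ (F : IrrCharacter G → ℤ), (∀ χ ∉ B, F χ = 0) →
      ∑ x : {χ : IrrCharacter G // χ ∈ B}, F x.1 = ∑ χ, F χ := by
    intro F hF
    rw [← Finset.sum_subtype (Finset.univ.filter fun χ => χ ∈ B) (fun χ => by simp) F,
      Finset.sum_filter_of_ne fun χ _ h' => by by_contra hh; exact h' (hF χ hh)]
  have hC₁out : ∀ χ ∉ B, C₁ χ χ = 0 := fun χ hχ => by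
    have h1 := hC₁ χ χ
    rw [scaledSec_eq_zero hmax one hχ] at h1; exact_mod_cast h1.symm
  have hρout : ∀ χ ∉ B, ρ χ = 0 := fun χ hχ => by
    have h1 := hρ χ
    rw [Finset.sum_eq_zero fun t _ => classSec_eq_zero hmax hχ χ, mul_zero, mul_zero, eq_comm,
      mul_eq_zero] at h1
    exact_mod_cast h1.resolve_left two_ne_zero
  have hrank1 : blockRank 2 (bel hM hmax.1.1 one).2 = blockRank 2 B := by
    rw [hone]; exact rank_bel_one hmax
  have hrot_rank : ∀ t ∈ rotReps (m + 1) a b, blockRank 2 (bel hM hmax.1.1 t).2 = 1 :=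
    fun t ht => h.rot_rank hmax (mem_rotReps ht)
  have hT2 : (rotReps (m + 1) a b).card + 1 = 2 ^ m := h.card_rotReps b hb
  have hρsum : ∑ χ, ρ χ = 2 * (2 ^ m : ℕ) * ((2 ^ m : ℕ) - 1 : ℤ) := by
    apply Int.cast_injective (α := ℂ)
    apply mul_left_cancel₀ (two_ne_zero' ℂ)
    rw [Int.cast_sum, Finset.mul_sum, Finset.sum_congr rfl fun χ _ => (hρ χ).symm, ← Finset.mul_sum,
      ← Finset.mul_sum, Finset.sum_comm, Finset.sum_congr rfl (g := fun _ => (1 : ℂ)) fun t ht => by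
        have h1 := sum_classSec_self (hM := hM) hmax t
        rw [hrot_rank t ht, Nat.cast_one] at h1
        refine Eq.trans ?_ h1
        rw [Finset.sum_filter_of_ne]
        intro χ _ h'
        by_contra hh
        exact h' (classSec_eq_zero hmax hh χ),
      Finset.sum_const, nsmul_one]
    have : ((rotReps (m + 1) a b).card : ℂ) = (2 ^ m : ℂ) - 1 := by
      rw [eq_sub_iff_add_eq]; exact_mod_cast hT2
    rw [this]
    push_cast
    ring
  have hρ1 : m = 1 → ∀ χ, ρ χ = if χ ∈ S0 then 1 else 0 := by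
    intro hm1 χ
    have hle : ∀ φ ∈ (Finset.univ : Finset (IrrCharacter G)),
        (if φ ∈ S0 then (1 : ℤ) else 0) ≤ ρ φ := by
      intro φ _
      split_ifs with hh
      · have := hρnn φ
        obtain ⟨t, ht⟩ := hρodd φ (Finset.mem_filter.1 hh).2.1 (Finset.mem_filter.1 hh).2.2
        omega
      · exact hρnn φ
    refine ((Finset.sum_eq_sum_iff_of_le hle).1 ?_ χ (Finset.mem_univ _)).symm
    rw [Finset.sum_ite_mem, Finset.univ_inter, Finset.sum_const, hcard0, hρsum, hm1]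
    norm_num
  have hρeven : ∀ χ ∈ B, TwoMajor.ht B χ ≠ 0 → Even (ρ χ) := by
    intro χ hχ hh
    have h1 := hrow χ hχ
    rw [if_neg hh, add_zero] at h1
    obtain ⟨j, hj⟩ := Nat.exists_eq_succ_of_ne_zero hh
    obtain ⟨t, ht⟩ := (hC₁p χ hχ hh).2
    obtain ⟨t', ht'⟩ := (hCzp χ hχ hh).2
    rw [ht, ht', hj, pow_succ, pow_succ] at h1
    exact ⟨(2 : ℤ) ^ m - 2 ^ j * t - 2 ^ j * t', by linarith⟩
  have hexc : ∀ χ ∈ B, TwoMajor.ht B χ ≠ 0 → ρ χ = 0 → 2 ^ m ∣ 2 ^ TwoMajor.ht B χ := by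
    intro χ hχ hh hr0
    have hχS : χ ∉ S0 := fun h' => hh (Finset.mem_filter.1 h').2.2
    have hzero : ∀ (c : D → ℂ), ∑ t ∈ rotReps (m + 1) a b, c t * classSec hM hmax.1.1 t χ χ₀ = 0 ∧
        ∑ t ∈ O, c t * classSec hM hmax.1.1 t χ χ₀ = 0 := fun c =>
      ⟨Finset.sum_eq_zero fun t ht => by rw [hρ0 χ hr0 χ₀ t ht, mul_zero],
        Finset.sum_eq_zero fun t ht => by rw [(hO t ht χ).2 hχS χ₀, mul_zero]⟩
    have hne : χ ≠ χ₀ := fun he => hh (he ▸ h00')
    have h1 := sum_classSec hmax cover inj hχ hχ₀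
    rw [if_neg hne, Finset.sum_congr rfl (g := fun t => (1 : ℂ) * classSec hM hmax.1.1 t χ χ₀)
      fun t _ => (one_mul _).symm, hsplit, (hzero _).1, (hzero _).2] at h1
    obtain ⟨M', hM'⟩ := sum_classSec_int hmax cover inj hst hgen (χ := χ) hχ₀
    rw [hsplit, (hzero _).1, (hzero _).2, hη1, hηz] at hM'
    have e1 : (C₁ χ χ₀ : ℂ) + Cz χ χ₀ = 0 := by
      rw [← hs1, ← hsz]; linear_combination (2 : ℂ) ^ (m + 2) * h1
    have e2 : 3 * (C₁ χ χ₀ : ℂ) - Cz χ χ₀ = 2 ^ (m + 2) * M' := by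
      rw [← hs1, ← hsz]; linear_combination (2 : ℂ) ^ (m + 2) * hM'
    have e3 : C₁ χ χ₀ = 2 ^ m * M' := by
      apply Int.cast_injective (α := ℂ)
      push_cast
      rw [pow_add] at e2
      linear_combination (1 / 4 : ℂ) * e1 + (1 / 4 : ℂ) * e2
    obtain ⟨o, ho, hoe⟩ := (hC₁0 χ₀ hχ₀ h00').2 χ hχ
    rw [hC₁s, hoe] at e3
    have hdvd : ((2 : ℤ) ^ m) ∣ 2 ^ TwoMajor.ht B χ * o := ⟨M', e3⟩
    have hcop : IsCoprime ((2 : ℤ) ^ m) o := IsCoprime.pow_left (by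
      obtain ⟨t, rfl⟩ := ho
      exact ⟨-t, 1, by ring⟩)
    exact Int.natCast_dvd_natCast.1 (by push_cast; exact hcop.dvd_of_dvd_mul_right hdvd)
  refine ⟨{
    h := fun χ => TwoMajor.ht B χ.1
    c := fun χ => C₁ χ.1 χ.1
    az := fun χ => Cz χ.1 χ.1
    rho := fun χ => ρ χ.1
    Cz := fun χ φ => Cz χ.1 φ.1
    q_cases := ?_
    one_le_l := DegreeTools.DeficiencyOne.one_le_blockRank hM hB
    sum_c := ?_
    sum_az := ?_
    sum_rho := ?_
    row := fun χ => by exact_mod_cast hrow χ.1 χ.2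
    c_pos := fun χ hh => (hC₁0 χ.1 χ.2 hh).1
    az_pos := fun χ hh => (hCz0 χ.1 χ.2 hh).1
    c_ge := fun χ hh => (hC₁p χ.1 χ.2 hh).1
    az_ge := fun χ hh => (hCzp χ.1 χ.2 hh).1
    rho_pos := ?_
    rho_zero := ?_
    exc := fun χ hh hr => hexc χ.1 χ.2 hh hr
    card_h0 := ?_
    Cz_self := fun χ => rfl
    Cz_row := ?_
    Cz_exact := fun χ hh φ => (hCz0 χ.1 χ.2 hh).2 φ.1 φ.2
    card := ?_ }, fun χ => rfl, fun χ => (hC₁ _ _).symm, fun χ => (hCz _ _).symm⟩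
  · rcases eq_or_lt_of_le hm with h1 | h1
    · left; rw [← h1]; norm_num
    · exact Or.inr ⟨(pow_dvd_pow 2 h1 : 2 ^ 2 ∣ 2 ^ m), Nat.pow_le_pow_right two_pos h1⟩
  · rw [hsub (fun χ => C₁ χ χ) hC₁out]
    apply Int.cast_injective (α := ℂ)
    rw [Int.cast_sum, ← Finset.sum_congr rfl fun χ _ => hC₁ χ χ, sum_scaledSec_self hmax, hrank1,
      hd1, hd]
    push_cast; ring
  · rw [hsub (fun χ => Cz χ χ) fun χ hχ => hne0 χ χ (Or.inl hχ)]
    apply Int.cast_injective (α := ℂ)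
    rw [Int.cast_sum, ← Finset.sum_congr rfl fun χ _ => hCz χ χ, sum_scaledSec_self hmax, hdz, hd]
    push_cast; ring
  · rw [hsub ρ hρout, hρsum]
  · intro χ hh
    rcases eq_or_lt_of_le hm with h1 | h1
    · left
      show ρ χ.1 = 0
      rw [hρ1 h1.symm, if_neg fun h' => hh (Finset.mem_filter.1 h').2.2]
    · have h2 := (hρc χ.1 h1).2 (hρeven χ.1 χ.2 hh)
      push_cast
      exact h2
  · intro χ hh
    have hodd := hρodd χ.1 χ.2 hh
    rcases eq_or_lt_of_le hm with h1 | h1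
    · left
      show ρ χ.1 = _
      rw [hρ1 h1.symm, if_pos (Finset.mem_filter.2 ⟨Finset.mem_univ _, χ.2, hh⟩), ← h1]
      norm_num
    · rcases (hρc χ.1 h1).1 hodd with h2 | h2
      · left; push_cast; exact h2
      · exact Or.inr ⟨Nat.pow_le_pow_right two_pos h1, by push_cast; exact h2⟩
  · rw [← hcard0]
    refine Finset.card_bij (fun χ _ => χ.1) ?_ (fun _ _ _ _ h' => Subtype.ext h') ?_
    · intro χ hχ
      exact Finset.mem_filter.2 ⟨Finset.mem_univ _, χ.2, (Finset.mem_filter.1 hχ).2⟩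
    · intro χ hχ
      exact ⟨⟨χ, (Finset.mem_filter.1 hχ).2.1⟩,
        Finset.mem_filter.2 ⟨Finset.mem_univ _, (Finset.mem_filter.1 hχ).2.2⟩, rfl⟩
  · intro χ
    rw [hsub (fun φ => Cz χ.1 φ ^ 2) (fun φ hφ => by rw [hne0 _ φ (Or.inr hφ)]; simp),
      hCzsq, hd]
    push_cast; ring
  · have hcnt := card_eq_sum_rank hmax cover inj
    have hsplitN : ∀ f : D → ℕ, ∑ t ∈ T, f t = f one + f zD
        + ∑ t ∈ rotReps (m + 1) a b, f t + ∑ t ∈ O, f t := fun f => by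
      rw [hone, hzD]; exact h.sum_reps f
    rw [hsplitN, hrank1, Finset.sum_congr rfl hrot_rank,
      Finset.sum_congr rfl fun x hx => (h.exists_out hmax (hout x hx)).1, Finset.sum_const,
      Finset.sum_const, smul_eq_mul, smul_eq_mul, mul_one, mul_one,
      Nat.card_eq_fintype_card] at hcnt
    have hcard : Fintype.card {χ : IrrCharacter G // χ ∈ B} = Fintype.card B :=
      Fintype.card_congr (Equiv.refl _)
    rw [hcard, hcnt]
    omega

end Cyc

end CfsgLib.Blocks.TameDefect
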