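import Cfsg.Agent.Lib.BrauerSuzuki.Order16
import Mathlib.Analysis.Complex.Basic

/-!
# The configuration of the multiplicity vectors at the rotations

Two vectors of square sum three and vectors of square sum two, all pairwise inner products one.
-/

set_option autoImplicit false
set_option maxHeartbeats 800000

namespace CfsgLib.Blocks.TameDefect.RotationLattice

open scoped Classical

variable {ι : Type*} [Fintype ι]

/-- A vector of square sum four with an odd entry has entries of absolute value at most one. -/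
theorem sq_le_one {v : ι → ℤ} (h : ∑ x, v x * v x = 4) (hodd : ∃ x, Odd (v x)) (x : ι) :
    v x * v x ≤ 1 := by
  obtain ⟨y, hy⟩ := hodd
  have hy1 : 1 ≤ v y * v y := by
    rcases hy with ⟨m, hm⟩
    rcases le_or_gt 0 m with h' | h' <;> rw [hm] <;> nlinarith
  by_contra hx
  push Not at hx
  have hx4 : 4 ≤ v x * v x := by
    rcases le_or_gt (v x) 0 with h' | h'
    · have : v x ≤ -2 := by
        by_contra h''
        push Not at h''
        interval_cases (v x) <;> simp_all
      nlinarith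
    · have : 2 ≤ v x := by
        by_contra h''
        push Not at h''
        interval_cases (v x) <;> simp_all
      nlinarith
  by_cases hxy : x = y
  · subst hxy
    have hle := Finset.single_le_sum (f := fun i => v i * v i) (fun i _ => mul_self_nonneg _)
      (Finset.mem_univ x)
    rw [h] at hle
    have : v x = 2 ∨ v x = -2 := by
      have h1 : -3 < v x := by nlinarith
      have h2 : v x < 3 := by nlinarith
      interval_cases (v x) <;> simp_all
    rcases hy with ⟨m, hm⟩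
    omega
  · have h2 : v x * v x + v y * v y ≤ ∑ i, v i * v i := by
      rw [← Finset.sum_pair (f := fun i => v i * v i) hxy]
      exact Finset.sum_le_sum_of_subset_of_nonneg (Finset.subset_univ _)
        fun i _ _ => mul_self_nonneg _
    linarith

/-- A vector of square sum four has at most four odd entries. -/
theorem card_odd_le {v : ι → ℤ} (h : ∑ x, v x * v x = 4) :
    (Finset.univ.filter fun x => Odd (v x)).card ≤ 4 := by
  have h1 : ((Finset.univ.filter fun x => Odd (v x)).card : ℤ) ≤ 4 := by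
    rw [← h, Finset.card_eq_sum_ones, Nat.cast_sum]
    refine le_trans (Finset.sum_le_sum fun x hx => ?_)
      (Finset.sum_le_sum_of_subset_of_nonneg (Finset.subset_univ _)
        fun i _ _ => mul_self_nonneg (v i))
    rcases (Finset.mem_filter.1 hx).2 with ⟨m, hm⟩
    push_cast
    rcases le_or_gt 0 m with h' | h' <;> rw [hm] <;> nlinarith
  exact_mod_cast h1

theorem unit_cases {v : ι → ℤ} {n : ℕ} (hn : n ≤ 3) (h : ∑ x, v x * v x = (n : ℤ)) (x : ι) :
    v x = 0 ∨ v x = 1 ∨ v x = -1 := by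
  by_cases h0 : v x = 0
  · exact Or.inl h0
  · exact Or.inr ((CfsgLib.BrauerSuzuki.unit_coeff Finset.univ v n hn h).1 x (Finset.mem_univ _) h0)

/-- A vector of square sum two meets a unit vector with inner product one in one point. -/
theorem one_point {v w : ι → ℤ} (hv : ∑ x, v x * v x = 2) (hw : ∀ x, w x = 0 ∨ w x = 1 ∨ w x = -1)
    (h : ∑ x, v x * w x = 1) :
    ∃ x y, x ≠ y ∧ v x ≠ 0 ∧ v y ≠ 0 ∧ w x = v x ∧ w y = 0 ∧ ∀ t, t ≠ x → t ≠ y → v t = 0 := by
  obtain ⟨hu, hc⟩ := CfsgLib.BrauerSuzuki.unit_coeff Finset.univ v 2 (by norm_num) (by simpa using hv)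
  obtain ⟨x, y, hxy, hS⟩ := Finset.card_eq_two.1 hc
  have hx : v x ≠ 0 := (Finset.mem_filter.1 (hS ▸ Finset.mem_insert_self x _ :
    x ∈ Finset.univ.filter fun i => v i ≠ 0)).2
  have hy : v y ≠ 0 := (Finset.mem_filter.1 (hS ▸ Finset.mem_insert_of_mem
    (Finset.mem_singleton_self y) : y ∈ Finset.univ.filter fun i => v i ≠ 0)).2
  have hz : ∀ t, t ≠ x → t ≠ y → v t = 0 := fun t h1 h2 => by
    by_contra h0
    have : t ∈ ({x, y} : Finset ι) := hS ▸ Finset.mem_filter.2 ⟨Finset.mem_univ _, h0⟩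
    simp [h1, h2] at this
  have hsum : v x * w x + v y * w y = 1 := by
    rw [← h]
    exact (Finset.sum_eq_add_of_mem (f := fun t => v t * w t) x y (Finset.mem_univ _)
      (Finset.mem_univ _) hxy fun t _ ht => by rw [hz t ht.1 ht.2, zero_mul]).symm
  have hux := hu x (Finset.mem_univ _) hx
  have huy := hu y (Finset.mem_univ _) hy
  by_cases h0 : w x = 0
  · refine ⟨y, x, hxy.symm, hy, hx, ?_, h0, fun t h1 h2 => hz t h2 h1⟩
    rw [h0, mul_zero, zero_add] at hsum
    rcases huy with e | e <;> rw [e] at hsum ⊢ <;> omega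
  · refine ⟨x, y, hxy, hx, hy, ?_, ?_, hz⟩ <;>
      rcases hux with e | e <;> rcases huy with e' | e' <;>
        rcases hw x with a | a | a <;> rcases hw y with b | b | b <;>
          rw [e, e', a, b] at hsum <;> omega

/-- The two vectors of square sum three have one common point. -/
theorem exists_common {F F' : ι → ℤ} (hF : ∑ x, F x * F x = 3) (hF' : ∑ x, F' x * F' x = 3)
    (hFF : ∑ x, F x * F' x = 1) (hodd : ∃ x, Odd (F x - F' x)) :
    ∃ c, F c ≠ 0 ∧ F' c = F c ∧ ∀ x, x ≠ c → F x = 0 ∨ F' x = 0 := by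
  have h4 : ∑ x, (F x - F' x) * (F x - F' x) = 4 := by
    have : ∀ x, (F x - F' x) * (F x - F' x) = F x * F x + F' x * F' x - 2 * (F x * F' x) :=
      fun x => by ring
    rw [Finset.sum_congr rfl fun x _ => this x, Finset.sum_sub_distrib, Finset.sum_add_distrib,
      ← Finset.mul_sum, hF, hF', hFF]
    norm_num
  have hb : ∀ x, F x * F' x = if F x ≠ 0 ∧ F' x ≠ 0 then 1 else 0 := by
    intro x
    have h1 := sq_le_one h4 hodd x
    rcases unit_cases (n := 3) le_rfl (by simpa using hF) x with a | a | a <;>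
      rcases unit_cases (n := 3) le_rfl (by simpa using hF') x with b | b | b <;>
        rw [a, b] at h1 ⊢ <;> simp at h1 ⊢
  rw [Finset.sum_congr rfl fun x _ => hb x, Finset.sum_boole] at hFF
  obtain ⟨c, hc⟩ := Finset.card_eq_one.1 (show (Finset.univ.filter fun x => F x ≠ 0 ∧ F' x ≠ 0).card = 1
    by exact_mod_cast hFF)
  have hc' := (Finset.mem_filter.1 (hc ▸ Finset.mem_singleton_self c :
    c ∈ Finset.univ.filter fun x => F x ≠ 0 ∧ F' x ≠ 0)).2
  refine ⟨c, hc'.1, ?_, fun x hx => ?_⟩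
  · have h1 := hb c
    rw [if_pos hc'] at h1
    rcases Int.eq_one_or_neg_one_of_mul_eq_one' h1 with ⟨a, b⟩ | ⟨a, b⟩ <;> omega
  · by_contra h
    push Not at h
    have : x ∈ ({c} : Finset ι) := hc ▸ Finset.mem_filter.2 ⟨Finset.mem_univ _, h⟩
    exact hx (Finset.mem_singleton.1 this)

/-- The exceptional configuration: the short vectors avoid the common point. -/
structure Second (F F' : ι → ℤ) (c : ι) (E : ι → ℤ) (x y : ι) : Prop where
  ne : x ≠ y
  x_ne : x ≠ c
  y_ne : y ≠ c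
  fx : F x ≠ 0
  fy : F' y ≠ 0
  ex : E x = F x
  ey : E y = F' y
  zero : ∀ t, t ≠ x → t ≠ y → E t = 0

/-- Either every short vector brings a new point, or there are at most two and the configuration is
the exceptional one. -/
theorem config {r : ℕ} {F F' : ι → ℤ} {E : Fin r → ι → ℤ} (hF : ∑ x, F x * F x = 3)
    (hF' : ∑ x, F' x * F' x = 3) (hFF : ∑ x, F x * F' x = 1)
    (hE : ∀ i j, ∑ x, E i x * E j x = if i = j then 2 else 1)
    (hEF : ∀ i, ∑ x, E i x * F x = 1) (hEF' : ∀ i, ∑ x, E i x * F' x = 1)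
    (hodd : ∃ x, Odd (F x - F' x)) :
    5 + r ≤ (Finset.univ.filter fun x => F x ≠ 0 ∨ F' x ≠ 0 ∨ ∃ i, E i x ≠ 0).card ∨
      (0 < r ∧ r ≤ 2 ∧ ∃ c, F c ≠ 0 ∧ F' c = F c ∧ (∀ x, x ≠ c → F x = 0 ∨ F' x = 0) ∧
        ∀ i, ∃ x y, Second F F' c (E i) x y) := by
  obtain ⟨c, hc, hc', hsep⟩ := exists_common hF hF' hFF hodd
  have hFu := unit_cases (n := 3) le_rfl (by simpa using hF)
  have hFu' := unit_cases (n := 3) le_rfl (by simpa using hF')
  have hEu : ∀ i t, E i t = 0 ∨ E i t = 1 ∨ E i t = -1 := fun i =>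
    unit_cases (n := 2) (by norm_num) (by simpa using hE i i)
  -- the two kinds
  have hkind : ∀ i, (∃ d, d ≠ c ∧ F d = 0 ∧ F' d = 0 ∧ E i c ≠ 0 ∧ E i d ≠ 0 ∧
      ∀ t, t ≠ c → t ≠ d → E i t = 0) ∨ ∃ x y, Second F F' c (E i) x y := by
    intro i
    obtain ⟨x, y, hxy, hx, hy, hwx, hwy, hz⟩ := one_point (by simpa using hE i i) hFu (hEF i)
    obtain ⟨x', y', hxy', hx', hy', hwx', hwy', hz'⟩ :=
      one_point (by simpa using hE i i) hFu' (hEF' i)
    have hmem : ∀ t, E i t ≠ 0 → t = x ∨ t = y := fun t ht => by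
      by_contra h
      push Not at h
      exact ht (hz t h.1 h.2)
    have hfx : F x ≠ 0 := hwx ▸ hx
    have hfx' : F' x' ≠ 0 := hwx' ▸ hx'
    rcases hmem x' hx' with e | e
    · -- the common point
      subst e
      have hxc : x' = c := by
        by_contra h
        rcases hsep _ h with h' | h'
        · exact hfx h'
        · exact hfx' h'
      subst hxc
      refine Or.inl ⟨y, hxy.symm, hwy, ?_, hx', hy, hz⟩
      rcases hmem y' hy' with e | e
      · exact absurd e hxy'.symm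
      · exact e ▸ hwy'
    · subst e
      have hxc : x ≠ c := by
        rintro rfl
        rcases hmem y' hy' with e | e
        · rw [e] at hwy'
          exact hc (hc' ▸ hwy')
        · exact hxy' e.symm
      exact Or.inr ⟨x, x', hxy, hxc, fun h => by rw [h] at hwy; exact hc hwy, hfx, hfx',
        hwx.symm, hwx'.symm, hz⟩
  -- two short vectors meet in one point
  have hmeet : ∀ i j, i ≠ j → (∀ t, E i t = 0 ∨ E j t = 0) → False := by
    intro i j hij h
    have h1 := hE i j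
    rw [if_neg hij, Finset.sum_eq_zero fun t _ => by rcases h t with e | e <;> simp [e]] at h1
    exact zero_ne_one h1
  have htwice : ∀ i j (s t : ι), i ≠ j → s ≠ t → (∀ u, u ≠ s → u ≠ t → E i u = 0) →
      E i s ≠ 0 → E i t ≠ 0 → E j s ≠ 0 → E j t ≠ 0 → False := by
    intro i j s t hij hst hz a1 a2 a3 a4
    have h1 := hE i j
    rw [if_neg hij, Finset.sum_eq_add_of_mem s t (Finset.mem_univ _) (Finset.mem_univ _) hst
      fun u _ hu => by rw [hz u hu.1 hu.2, zero_mul]] at h1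
    rcases hEu i s with e1 | e1 | e1 <;> rcases hEu i t with e2 | e2 | e2 <;>
      rcases hEu j s with e3 | e3 | e3 <;> rcases hEu j t with e4 | e4 | e4 <;>
        rw [e1, e2, e3, e4] at h1 <;> omega
  by_cases hall : ∀ i, ∃ d, d ≠ c ∧ F d = 0 ∧ F' d = 0 ∧ E i c ≠ 0 ∧ E i d ≠ 0 ∧
      ∀ t, t ≠ c → t ≠ d → E i t = 0
  · left
    choose d hdc hdF hdF' hEc hEd hEz using hall
    have hinj : Function.Injective d := by
      intro i j h
      by_contra hij
      exact htwice i j c (d i) hij (hdc i).symm (hEz i) (hEc i) (hEd i) (hEc j) (h ▸ hEd j)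
    set S := Finset.univ.filter fun x => F x ≠ 0 ∨ F' x ≠ 0 with hS
    have hS5 : S.card = 5 := by
      have h1 : S = (Finset.univ.filter fun x => F x ≠ 0) ∪ (Finset.univ.filter fun x => F' x ≠ 0) :=
        Finset.filter_or _ _ _
      have h2 : (Finset.univ.filter fun x => F x ≠ 0) ∩ (Finset.univ.filter fun x => F' x ≠ 0)
          = {c} := by
        ext x
        simp only [Finset.mem_inter, Finset.mem_filter, Finset.mem_univ, true_and,
          Finset.mem_singleton]
        refine ⟨fun h => ?_, fun h => h ▸ ⟨hc, hc'.symm ▸ hc⟩⟩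
        by_contra hx
        rcases hsep x hx with h' | h'
        · exact h.1 h'
        · exact h.2 h'
      have h3 := Finset.card_union_add_card_inter (Finset.univ.filter fun x => F x ≠ 0)
        (Finset.univ.filter fun x => F' x ≠ 0)
      rw [← h1, h2, Finset.card_singleton,
        (CfsgLib.BrauerSuzuki.unit_coeff Finset.univ F 3 le_rfl (by simpa using hF)).2,
        (CfsgLib.BrauerSuzuki.unit_coeff Finset.univ F' 3 le_rfl (by simpa using hF')).2] at h3
      omega
    have hdisj : Disjoint S (Finset.univ.image d) := by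
      rw [Finset.disjoint_left]
      intro x hx hx'
      obtain ⟨i, -, rfl⟩ := Finset.mem_image.1 hx'
      simp [hS, hdF i, hdF' i] at hx
    refine le_trans (le_of_eq ?_) (Finset.card_le_card (s := S ∪ Finset.univ.image d) ?_)
    · rw [Finset.card_union_of_disjoint hdisj, hS5, Finset.card_image_of_injective _ hinj,
        Finset.card_univ, Fintype.card_fin]
    · intro x hx
      refine Finset.mem_filter.2 ⟨Finset.mem_univ _, ?_⟩
      rcases Finset.mem_union.1 hx with h | h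
      · rcases (Finset.mem_filter.1 h).2 with h | h
        · exact Or.inl h
        · exact Or.inr (Or.inl h)
      · obtain ⟨i, -, rfl⟩ := Finset.mem_image.1 h
        exact Or.inr (Or.inr ⟨i, hEd i⟩)
  · right
    push Not at hall
    obtain ⟨i₀, hi₀⟩ := hall
    obtain ⟨x₀, y₀, h₀⟩ : ∃ x y, Second F F' c (E i₀) x y := (hkind i₀).resolve_left
      (fun ⟨d, h1, h2, h3, h4, h5, h6⟩ => by
        obtain ⟨t, t1, t2, t3⟩ := hi₀ d h1 h2 h3 h4 h5
        exact t3 (h6 t t1 t2))
    have hsec : ∀ i, ∃ x y, Second F F' c (E i) x y := by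
      intro i
      rcases hkind i with ⟨d, h1, h2, h3, h4, h5, h6⟩ | h
      · exfalso
        by_cases hi : i = i₀
        · subst hi
          obtain ⟨t, t1, t2, t3⟩ := hi₀ d h1 h2 h3 h4 h5
          exact t3 (h6 t t1 t2)
        refine hmeet i i₀ hi fun t => ?_
        by_cases ht : E i t = 0
        · exact Or.inl ht
        refine Or.inr (h₀.zero t ?_ ?_)
        · rintro rfl
          by_cases htd : t = d
          · subst htd; exact h₀.fx h2
          · exact ht (h6 t h₀.x_ne htd)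
        · rintro rfl
          by_cases htd : t = d
          · subst htd; exact h₀.fy h3
          · exact ht (h6 t h₀.y_ne htd)
      · exact h
    refine ⟨Fin.pos i₀, ?_, c, hc, hc', hsep, hsec⟩
    -- at most two
    choose X Y hXY using hsec
    have hFt : ∀ t, t ≠ c → F t ≠ 0 → F' t = 0 := fun t h1 h2 => (hsep t h1).resolve_left h2
    have hcross : ∀ i j, X i ≠ Y j := fun i j h =>
      (hXY j).fy (h ▸ hFt _ (hXY i).x_ne (hXY i).fx)
    have hpair : ∀ i j, i ≠ j → (X i = X j ↔ Y i ≠ Y j) := by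
      intro i j hij
      constructor
      · intro h1 h2
        refine htwice i j (X i) (Y i) hij (hXY i).ne (hXY i).zero ?_ ?_ ?_ ?_
        · rw [(hXY i).ex]; exact (hXY i).fx
        · rw [(hXY i).ey]; exact (hXY i).fy
        · rw [h1, (hXY j).ex]; exact (hXY j).fx
        · rw [h2, (hXY j).ey]; exact (hXY j).fy
      · intro h2
        by_contra h1
        refine hmeet i j hij fun t => ?_
        by_cases ht : E i t = 0
        · exact Or.inl ht
        refine Or.inr ((hXY j).zero t ?_ ?_)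
        · rintro rfl
          exact ht ((hXY i).zero _ (Ne.symm h1) (hcross j i))
        · rintro rfl
          exact ht ((hXY i).zero _ (hcross i j).symm h2.symm)
    by_contra hr
    push Not at hr
    set P := (Finset.univ.filter fun t => F t ≠ 0).erase c with hP
    set P' := (Finset.univ.filter fun t => F' t ≠ 0).erase c with hP'
    have hP2 : P.card = 2 := by
      rw [hP, Finset.card_erase_of_mem (show c ∈ Finset.univ.filter fun t => F t ≠ 0 from Finset.mem_filter.2 ⟨Finset.mem_univ _, hc⟩),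
        (CfsgLib.BrauerSuzuki.unit_coeff Finset.univ F 3 le_rfl (by simpa using hF)).2]
    have hP2' : P'.card = 2 := by
      rw [hP', Finset.card_erase_of_mem (show c ∈ Finset.univ.filter fun t => F' t ≠ 0 from Finset.mem_filter.2 ⟨Finset.mem_univ _, hc'.symm ▸ hc⟩),
        (CfsgLib.BrauerSuzuki.unit_coeff Finset.univ F' 3 le_rfl (by simpa using hF')).2]
    have hXmem : ∀ i, X i ∈ P := fun i =>
      Finset.mem_erase.2 ⟨(hXY i).x_ne, Finset.mem_filter.2 ⟨Finset.mem_univ _, (hXY i).fx⟩⟩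
    have hYmem : ∀ i, Y i ∈ P' := fun i =>
      Finset.mem_erase.2 ⟨(hXY i).y_ne, Finset.mem_filter.2 ⟨Finset.mem_univ _, (hXY i).fy⟩⟩
    have hthree : ∀ (A : Finset ι) (f : Fin r → ι), A.card = 2 → (∀ i, f i ∈ A) →
        ∀ i j l, f i = f j ∨ f i = f l ∨ f j = f l := by
      intro A f hA hf i j l
      obtain ⟨s, t, -, rfl⟩ := Finset.card_eq_two.1 hA
      have := hf i; have := hf j; have := hf l
      simp only [Finset.mem_insert, Finset.mem_singleton] at *
      rcases ‹f i = s ∨ f i = t› with h | h <;> rcases ‹f j = s ∨ f j = t› with h' | h' <;>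
        rcases ‹f l = s ∨ f l = t› with h'' | h'' <;> simp [h, h', h'']
    let i₁ : Fin r := ⟨0, by omega⟩
    let i₂ : Fin r := ⟨1, by omega⟩
    let i₃ : Fin r := ⟨2, by omega⟩
    have n12 : i₁ ≠ i₂ := fun h => by simp [i₁, i₂, Fin.ext_iff] at h
    have n13 : i₁ ≠ i₃ := fun h => by simp [i₁, i₃, Fin.ext_iff] at h
    have n23 : i₂ ≠ i₃ := fun h => by simp [i₂, i₃, Fin.ext_iff] at h
    have e12 := hpair i₁ i₂ n12
    have e13 := hpair i₁ i₃ n13
    have e23 := hpair i₂ i₃ n23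
    rcases hthree P X hP2 hXmem i₁ i₂ i₃ with h | h | h <;>
      rcases hthree P' Y hP2' hYmem i₁ i₂ i₃ with h' | h' | h' <;> grind

/-- The numerical data of the exceptional configuration, the shared point on the first side. -/
theorem second_aux {F F' E E' : ι → ℤ} {d : ι → ℕ} {c u r s : ι}
    (hF : ∑ x, F x * F x = 3) (hF' : ∑ x, F' x * F' x = 3)
    (hc : F c ≠ 0) (hc' : F' c = F c) (hsep : ∀ x, x ≠ c → F x = 0 ∨ F' x = 0)
    (h : Second F F' c E u r) (h' : Second F F' c E' u s) (hrs : r ≠ s)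
    (hd : ∀ x, F x ≠ 0 ∨ F' x ≠ 0 → 0 < d x)
    (dF : ∑ x, F x * (d x : ℤ) = 0) (dF' : ∑ x, F' x * (d x : ℤ) = 0)
    (dE : ∑ x, E x * (d x : ℤ) = 0) (dE' : ∑ x, E' x * (d x : ℤ) = 0) :
    ∃ (l : ℕ) (v : ι) (σ : ℤ), 0 < l ∧ d v = 3 * l ∧ F v ≠ 0 ∧ F' v = 0 ∧ E v = 0 ∧ σ * σ = 1 ∧
      ∑ x, (((F x - F' x) ^ 3 - 2 * (F x - F' x) * E x ^ 2 : ℤ) : ℂ) / (d x : ℂ)
        = (σ : ℂ) * 4 / (3 * (l : ℂ)) ∧
      ∑ x, ((E x * (2 * E x ^ 2 - (F x - F' x) ^ 2) : ℤ) : ℂ) / (d x : ℂ) = 0 ∧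
      ∀ x, Odd (F x - F' x) → d x = l ∨ d x = 3 * l := by
  have hFt : ∀ t, t ≠ c → F t ≠ 0 → F' t = 0 := fun t h1 h2 => (hsep t h1).resolve_left h2
  have hFt' : ∀ t, t ≠ c → F' t ≠ 0 → F t = 0 := fun t h1 h2 => (hsep t h1).resolve_right h2
  -- the supports
  obtain ⟨v, hv⟩ : ∃ v, ((Finset.univ.filter fun x => F x ≠ 0).erase c).erase u = {v} := by
    refine Finset.card_eq_one.1 ?_
    rw [Finset.card_erase_of_mem (show u ∈ (Finset.univ.filter fun x => F x ≠ 0).erase c from
      Finset.mem_erase.2 ⟨h.x_ne, Finset.mem_filter.2 ⟨Finset.mem_univ _, h.fx⟩⟩),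
      Finset.card_erase_of_mem (show c ∈ Finset.univ.filter fun x => F x ≠ 0 from
      Finset.mem_filter.2 ⟨Finset.mem_univ _, hc⟩),
      (CfsgLib.BrauerSuzuki.unit_coeff Finset.univ F 3 le_rfl (by simpa using hF)).2]
  have hvm : v ∈ ((Finset.univ.filter fun x => F x ≠ 0).erase c).erase u :=
    hv ▸ Finset.mem_singleton_self v
  have hvu : v ≠ u := (Finset.mem_erase.1 hvm).1
  have hvc : v ≠ c := (Finset.mem_erase.1 (Finset.mem_erase.1 hvm).2).1
  have hFv : F v ≠ 0 :=
    (Finset.mem_filter.1 (Finset.mem_erase.1 (Finset.mem_erase.1 hvm).2).2).2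
  have hFv' : F' v = 0 := hFt v hvc hFv
  have suppF : ∀ x, x ≠ c → x ≠ u → x ≠ v → F x = 0 := fun x h1 h2 h3 => by
    by_contra h0
    have : x ∈ ({v} : Finset ι) := hv ▸ Finset.mem_erase.2 ⟨h2, Finset.mem_erase.2
      ⟨h1, Finset.mem_filter.2 ⟨Finset.mem_univ _, h0⟩⟩⟩
    exact h3 (Finset.mem_singleton.1 this)
  have hsub : ({c, r, s} : Finset ι) = Finset.univ.filter fun x => F' x ≠ 0 := by
    refine Finset.eq_of_subset_of_card_le ?_ ?_
    · intro x hx
      simp only [Finset.mem_insert, Finset.mem_singleton] at hx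
      refine Finset.mem_filter.2 ⟨Finset.mem_univ _, ?_⟩
      rcases hx with rfl | rfl | rfl
      · rw [hc']; exact hc
      · exact h.fy
      · exact h'.fy
    · rw [(CfsgLib.BrauerSuzuki.unit_coeff Finset.univ F' 3 le_rfl (by simpa using hF')).2,
        Finset.card_eq_three.2 ⟨c, r, s, h.y_ne.symm, h'.y_ne.symm, hrs, rfl⟩]
  have suppF' : ∀ x, x ≠ c → x ≠ r → x ≠ s → F' x = 0 := fun x h1 h2 h3 => by
    by_contra h0
    have : x ∈ ({c, r, s} : Finset ι) := hsub ▸ Finset.mem_filter.2 ⟨Finset.mem_univ _, h0⟩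
    simp [h1, h2, h3] at this
  have hFu' : F' u = 0 := hFt u h.x_ne h.fx
  have hFr : F r = 0 := hFt' r h.y_ne h.fy
  have hFs : F s = 0 := hFt' s h'.y_ne h'.fy
  have hvr : v ≠ r := fun e => hFv (e ▸ hFr)
  have hvs : v ≠ s := fun e => hFv (e ▸ hFs)
  -- the degree equations
  have q1 : F c * (d c : ℤ) + F u * (d u : ℤ) + F v * (d v : ℤ) = 0 := by
    rw [← dF, ← Finset.sum_subset (Finset.subset_univ ({c, u, v} : Finset ι)) fun x _ hx => by
      simp only [Finset.mem_insert, Finset.mem_singleton, not_or] at hx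
      rw [suppF x hx.1 hx.2.1 hx.2.2, zero_mul]]
    rw [Finset.sum_insert (by simp [h.x_ne.symm, hvc.symm]), Finset.sum_pair hvu.symm]
    ring
  have q2 : F c * (d c : ℤ) + F' r * (d r : ℤ) + F' s * (d s : ℤ) = 0 := by
    rw [← dF', ← Finset.sum_subset (Finset.subset_univ ({c, r, s} : Finset ι)) fun x _ hx => by
      simp only [Finset.mem_insert, Finset.mem_singleton, not_or] at hx
      rw [suppF' x hx.1 hx.2.1 hx.2.2, zero_mul]]
    rw [Finset.sum_insert (by simp [h.y_ne.symm, h'.y_ne.symm]), Finset.sum_pair hrs, hc']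
    ring
  have q3 : F u * (d u : ℤ) + F' r * (d r : ℤ) = 0 := by
    rw [← dE, Finset.sum_eq_add_of_mem u r (Finset.mem_univ _) (Finset.mem_univ _) h.ne
      fun x _ hx => by rw [h.zero x hx.1 hx.2, zero_mul], h.ex, h.ey]
  have q4 : F u * (d u : ℤ) + F' s * (d s : ℤ) = 0 := by
    rw [← dE', Finset.sum_eq_add_of_mem u s (Finset.mem_univ _) (Finset.mem_univ _) h'.ne
      fun x _ hx => by rw [h'.zero x hx.1 hx.2, zero_mul], h'.ex, h'.ey]
  have pc := hd c (Or.inl hc)
  have pu := hd u (Or.inl h.fx)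
  have pv := hd v (Or.inl hFv)
  have pr := hd r (Or.inr h.fy)
  have ps := hd s (Or.inr h'.fy)
  have hFU := unit_cases (n := 3) le_rfl (by simpa using hF)
  have hFU' := unit_cases (n := 3) le_rfl (by simpa using hF')
  have hR : F' r = -F u ∧ d r = d u := by
    rcases (hFU u).resolve_left h.fx with e | e <;>
      rcases (hFU' r).resolve_left h.fy with e' | e' <;> rw [e, e'] at q3 ⊢ <;> omega
  have hS : F' s = -F u ∧ d s = d u := by
    rcases (hFU u).resolve_left h.fx with e | e <;>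
      rcases (hFU' s).resolve_left h'.fy with e' | e' <;> rw [e, e'] at q4 ⊢ <;> omega
  rw [hR.1, hR.2, hS.1, hS.2] at q2
  have hC : F c = F u ∧ d c = 2 * d u := by
    rcases (hFU u).resolve_left h.fx with e | e <;>
      rcases (hFU c).resolve_left hc with e' | e' <;> rw [e, e'] at q2 ⊢ <;> omega
  rw [hC.1, hC.2] at q1
  have hV : F v = -F u ∧ d v = 3 * d u := by
    rcases (hFU u).resolve_left h.fx with e | e <;>
      rcases (hFU v).resolve_left hFv with e' | e' <;> rw [e, e'] at q1 ⊢ <;> omega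
  have hEc : E c = 0 := h.zero c h.x_ne.symm h.y_ne.symm
  have hEv : E v = 0 := h.zero v hvu hvr
  have hEs : E s = 0 := h.zero s h'.ne.symm hrs.symm
  have hsq : F u * F u = 1 := by
    rcases (hFU u).resolve_left h.fx with e | e <;> simp [e]
  have hA3 : (F u : ℂ) ^ 3 = (F u : ℂ) := by
    have : ((F u * F u : ℤ) : ℂ) = 1 := by rw [hsq]; norm_num
    push_cast at this
    linear_combination (F u : ℂ) * this
  have hl : (d u : ℂ) ≠ 0 := Nat.cast_ne_zero.2 pu.ne'
  have hfive : ∀ Φ : ι → ℂ, (∀ x, F x = 0 → F' x = 0 → E x = 0 → Φ x = 0) →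
      ∑ x, Φ x = Φ c + Φ u + Φ v + Φ r + Φ s := by
    intro Φ hΦ
    rw [← Finset.sum_subset (Finset.subset_univ ({c, u, v, r, s} : Finset ι)) fun x _ hx => by
      simp only [Finset.mem_insert, Finset.mem_singleton, not_or] at hx
      exact hΦ x (suppF x hx.1 hx.2.1 hx.2.2.1) (suppF' x hx.1 hx.2.2.2.1 hx.2.2.2.2)
        (h.zero x hx.2.1 hx.2.2.2.1)]
    rw [Finset.sum_insert (by simp [h.x_ne.symm, hvc.symm, h.y_ne.symm, h'.y_ne.symm]),
      Finset.sum_insert (by simp [hvu.symm, h.ne, h'.ne]),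
      Finset.sum_insert (by simp [hvr, hvs]), Finset.sum_pair hrs]
    ring
  refine ⟨d u, v, -F u, pu, hV.2, hFv, hFv', hEv, by rw [neg_mul_neg, hsq], ?_, ?_, ?_⟩
  · rw [hfive _ fun x a1 a2 a3 => by simp [a1, a2, a3]]
    rw [hc', hFu', hFv', hFr, hFs, h.ex, h.ey, hEc, hEv, hEs, hR.1, hS.1, hV.1, hV.2, hR.2, hS.2]
    push_cast
    field_simp
    linear_combination (-4 : ℂ) * hA3
  · rw [hfive _ fun x a1 a2 a3 => by simp [a3]]
    rw [hFu', hFr, h.ex, h.ey, hEc, hEv, hEs, hR.1, hR.2]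
    push_cast
    field_simp
    ring
  · intro x hx
    by_cases h1 : x = c
    · rw [h1, hc', sub_self] at hx
      exact absurd hx Int.not_odd_zero
    by_cases h2 : x = u
    · exact Or.inl (by rw [h2])
    by_cases h3 : x = v
    · exact Or.inr (by rw [h3, hV.2])
    by_cases h4 : x = r
    · exact Or.inl (by rw [h4, hR.2])
    by_cases h5 : x = s
    · exact Or.inl (by rw [h5, hS.2])
    rw [suppF x h1 h2 h3, suppF' x h1 h4 h5, sub_self] at hx
    exact absurd hx Int.not_odd_zero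

/-- The numerical data of the exceptional configuration. -/
theorem second_sum {F F' : ι → ℤ} {E : Fin 2 → ι → ℤ} {d : ι → ℕ} {c : ι}
    (hF : ∑ x, F x * F x = 3) (hF' : ∑ x, F' x * F' x = 3) (hE : ∑ x, E 0 x * E 1 x = 1)
    (hc : F c ≠ 0) (hc' : F' c = F c) (hsep : ∀ x, x ≠ c → F x = 0 ∨ F' x = 0)
    (hsec : ∀ i, ∃ x y, Second F F' c (E i) x y) (hd : ∀ x, F x ≠ 0 ∨ F' x ≠ 0 → 0 < d x)
    (dF : ∑ x, F x * (d x : ℤ) = 0) (dF' : ∑ x, F' x * (d x : ℤ) = 0)
    (dE : ∀ i, ∑ x, E i x * (d x : ℤ) = 0) :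
    ∃ (l : ℕ) (v : ι) (σ : ℤ), 0 < l ∧ d v = 3 * l ∧ (F v ≠ 0 ∨ F' v ≠ 0) ∧
      (F v - F' v = 1 ∨ F v - F' v = -1) ∧ E 1 v = 0 ∧ σ * σ = 1 ∧
      ∑ x, (((F x - F' x) ^ 3 - 2 * (F x - F' x) * E 1 x ^ 2 : ℤ) : ℂ) / (d x : ℂ)
        = (σ : ℂ) * 4 / (3 * (l : ℂ)) ∧
      ∑ x, ((E 1 x * (2 * E 1 x ^ 2 - (F x - F' x) ^ 2) : ℤ) : ℂ) / (d x : ℂ) = 0 ∧
      ∀ x, Odd (F x - F' x) → d x = l ∨ d x = 3 * l := by
  obtain ⟨x₀, y₀, h₀⟩ := hsec 0
  obtain ⟨x₁, y₁, h₁⟩ := hsec 1
  have hFU := unit_cases (n := 3) le_rfl (by simpa using hF)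
  have hFU' := unit_cases (n := 3) le_rfl (by simpa using hF')
  have hx01 : x₁ ≠ y₀ := fun e => h₀.fy (e ▸ (hsep x₁ h₁.x_ne).resolve_left h₁.fx)
  have hy01 : y₁ ≠ x₀ := fun e => h₁.fy (e ▸ (hsep x₀ h₀.x_ne).resolve_left h₀.fx)
  rw [Finset.sum_eq_add_of_mem x₁ y₁ (Finset.mem_univ _) (Finset.mem_univ _) h₁.ne
    fun t _ ht => by rw [h₁.zero t ht.1 ht.2, mul_zero], h₁.ex, h₁.ey] at hE
  by_cases hx : x₁ = x₀
  · subst hx
    have hy : y₁ ≠ y₀ := by
      rintro rfl
      rw [h₀.ex, h₀.ey] at hE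
      rcases hFU x₁ with e | e | e <;> rcases hFU' y₁ with e' | e' | e' <;>
        first | exact h₁.fx e | exact h₁.fy e' | (rw [e, e'] at hE; omega)
    obtain ⟨l, v, σ, a1, a2, a3, a4, a5, a6, a7, a8, a9⟩ :=
      second_aux hF hF' hc hc' hsep h₁ h₀ hy hd dF dF' (dE 1) (dE 0)
    refine ⟨l, v, σ, a1, a2, Or.inl a3, ?_, a5, a6, a7, a8, a9⟩
    rw [a4, sub_zero]
    exact (hFU v).resolve_left a3
  · have hy : y₁ = y₀ := by
      by_contra hy
      rw [h₀.zero x₁ hx hx01, h₀.zero y₁ hy01 hy, zero_mul, zero_mul] at hE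
      exact zero_ne_one hE
    subst hy
    have hswap : ∀ {E' : ι → ℤ} {x y : ι}, Second F F' c E' x y → Second F' F c E' y x :=
      fun h => ⟨h.ne.symm, h.y_ne, h.x_ne, h.fy, h.fx, h.ey, h.ex, fun t a b => h.zero t b a⟩
    obtain ⟨l, v, σ, a1, a2, a3, a4, a5, a6, a7, a8, a9⟩ :=
      second_aux hF' hF (hc'.symm ▸ hc) hc'.symm (fun x hx => (hsep x hx).symm) (hswap h₁)
        (hswap h₀) hx (fun x hx => hd x hx.symm) dF' dF (dE 1) (dE 0)
    refine ⟨l, v, -σ, a1, a2, Or.inr a3, ?_, a5, by rw [neg_mul_neg, a6], ?_, ?_,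
      fun x hx => a9 x (by rw [← neg_sub]; exact hx.neg)⟩
    · rw [a4, zero_sub]
      rcases (hFU' v).resolve_left a3 with e | e <;> rw [e]
      · exact Or.inr rfl
      · exact Or.inl (neg_neg 1)
    · rw [show ((-σ : ℤ) : ℂ) * 4 / (3 * (l : ℂ)) = -((σ : ℂ) * 4 / (3 * (l : ℂ))) by
        push_cast; ring, ← a7, ← Finset.sum_neg_distrib]
      refine Finset.sum_congr rfl fun x _ => ?_
      push_cast
      ring
    · rw [← a8]
      refine Finset.sum_congr rfl fun x _ => ?_
      push_cast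
      ring

end CfsgLib.Blocks.TameDefect.RotationLattice
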