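import Cfsg.Agent.Lib.Blocks.TameDefect.RotationColumns
import Cfsg.Agent.Lib.Blocks.BrauerMap
import Cfsg.Agent.Lib.Blocks.SecondMainBlocks
import Cfsg.Agent.Lib.Blocks.Height

/-!
# A triple product at the rotations of order eight

For a dihedral defect group of order sixteen the square of the section sum of a rotation `a` has no
component at `a ^ 3`; in terms of the columns this says that a certain cubic sum is divisible by
more than the degrees allow.
-/

set_option autoImplicit false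
set_option maxHeartbeats 1600000

namespace CfsgLib.Blocks.TameDefect

open Cfsg CfsgLib.Blocks CfsgLib.BrauerPairs CfsgLib.BrouePuig
open scoped Classical ComplexConjugate

universe u

variable {G : Type u} [Group G] [Fintype G] {M : Ideal AlgInt} {D : Subgroup G}
  {e : Set (IrrCharacter (Subgroup.centralizer (D : Set G)))}

/-- The contribution at a rotation, read at any subgroup generated by it. -/
theorem secPart_of_zpowers [Fact (Nat.Prime 2)] (hM : IsPModular 2 M) (hP : IsBrauerPair 2 M D e)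
    (w : D) {Q : Subgroup G} (hQ : Subgroup.zpowers (w : G) = Q)
    {f : Set (IrrCharacter (Subgroup.centralizer (Q : Set G)))} (hf : SubpairLE 2 M Q f D e)
    (χ : IrrCharacter G) :
    secPart (w : G) (Subgroup.centralizer (Q : Set G)) f χ 1
      = secPart (w : G) (cenZ (w : G)) (bel hM hP w).2 χ 1 := by
  subst hQ
  rw [(existsUnique_below hM hP (Subgroup.zpowers_le.2 w.2)).unique hf (bel_below hM hP w)]

/-- A contribution divided by the least degree is a local integer. -/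
theorem secPart_div_LR {p : ℕ} (hM : IsPModular p M) {K : Subgroup G}
    {f : Set (IrrCharacter K)} {x : G} {z : K} (hzx : (z : G) = x) (hz : z ∈ Subgroup.center K)
    (χ : IrrCharacter G) {θ : IrrCharacter K}
    (hmin : ∀ ψ ∈ f, degVal p θ ≤ degVal p ψ) :
    MemLocalRing M (secPart x K f χ 1 / (θ : K → ℂ) 1) := by
  rw [secPart_eq_sum_mult hzx hz, Finset.sum_div]
  refine LR.sum hM fun ψ _ => ?_
  by_cases h : ψ ∈ f
  · obtain ⟨n, hn⟩ := resMult_nat χ ψ
    rw [blockInd_of_mem h, one_mul, hn, mul_div_assoc, irr_one_eq, irr_one_eq]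
    refine LR.mul hM (LR.mul hM (LR.natCast hM n) (LR.of_isIntegral hM
      (CfsgLib.Char.isIntegral_of_pow_eq_one (orderOf_pos z).ne'
        (centScalar_pow_eq_one ψ hz (pow_orderOf_eq_one z))))) ?_
    exact natCast_div_LR hM (charDegree_pos θ).ne'
      (dvd_trans (pow_dvd_pow p (hmin ψ h)) (Nat.ordProj_dvd _ _))
  · rw [blockInd_of_notMem h, zero_mul, zero_mul, zero_div]
    exact LR.zero hM

/-- A ratio of natural numbers with the same `p`-part is a unit. -/
theorem natCast_div_not_LI {p : ℕ} (hM : IsPModular p M) {n d : ℕ} (hn : n ≠ 0) (hd : d ≠ 0)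
    (h : n.factorization p = d.factorization p) :
    MemLocalRing M ((n : ℂ) / (d : ℂ)) ∧ ¬ MemLocalIdeal M ((n : ℂ) / (d : ℂ)) := by
  have h1 : MemLocalRing M ((n : ℂ) / (d : ℂ)) :=
    natCast_div_LR hM hd (by rw [← h]; exact Nat.ordProj_dvd _ _)
  refine ⟨h1, fun hI => ?_⟩
  have h2 : MemLocalRing M ((d : ℂ) / (n : ℂ)) :=
    natCast_div_LR hM hn (by rw [h]; exact Nat.ordProj_dvd _ _)
  have h3 := LI.mul_left hM h2 hI
  rw [div_mul_div_cancel₀ (Nat.cast_ne_zero.2 hn), div_self (Nat.cast_ne_zero.2 hd),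
    show (1 : ℂ) = ((1 : ℕ) : ℂ) by norm_num, LI.natCast_iff hM] at h3
  exact hM.1.not_dvd_one h3

section Local

variable {K : Subgroup G} {f : Set (IrrCharacter K)} {x : G}

/-- The pairing of a regular character with a character of the group on a section. -/
theorem sum_section_eq (hM : IsPModular 2 M) (hK : K = Subgroup.centralizer ({x} : Set G))
    (hf : IsPBlock M f) {θ : IrrCharacter K} (hθ : θ ∈ f) (χ : IrrCharacter G) :
    ∑ c : K with IsPRegular 2 c, (θ : K → ℂ) c⁻¹ * (χ : G → ℂ) (x * (c : G))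
      = ∑ c : K with IsPRegular 2 c, (θ : K → ℂ) c⁻¹ * secPart x K f χ c := by
  have hexp : ∀ c : K, (χ : G → ℂ) (x * (c : G)) = ∑ φ : IrrCharacter K,
      classInner (fun d : K => (χ : G → ℂ) (x * (d : G))) (φ : K → ℂ) * (φ : K → ℂ) c := by
    intro c
    have h := congrFun (Char.IsClassFunction.eq_sum_irr (mul_left_isClassFunction hK χ)) c
    simpa [Finset.sum_apply] using h
  simp only [secPart, blockPart_eq_sum, Finset.mul_sum]
  rw [Finset.sum_congr rfl fun c _ => congrArg ((θ : K → ℂ) c⁻¹ * ·) (hexp c)]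
  simp only [Finset.mul_sum]
  refine Finset.sum_comm.trans (Eq.trans ?_ Finset.sum_comm)
  refine Finset.sum_congr rfl fun φ _ => ?_
  by_cases h : φ ∈ f
  · refine Finset.sum_congr rfl fun c _ => ?_
    rw [blockInd_of_mem h, one_mul]
  · have h0 := IsPBlock.regInner_eq_zero hM hf hθ h
    rw [regInner_comm, regInner, mul_eq_zero] at h0
    have h1 := h0.resolve_left (mul_ne_zero (pPartCard_ne_zero hM.1)
      (inv_ne_zero CfsgLib.Char.card_ne_zero))
    rw [blockInd_of_notMem h]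
    simp only [zero_mul, mul_zero, Finset.sum_const_zero]
    refine Eq.trans ?_ (mul_eq_zero_of_right
      (classInner (fun d : K => (χ : G → ℂ) (x * (d : G))) (φ : K → ℂ)) h1)
    rw [Finset.mul_sum]
    exact Finset.sum_congr rfl fun c _ => by ring

end Local

variable {a b : G} {B : Set (IrrCharacter G)}

/-- The centralizer of the rotation in the defect group is the rotation part. -/
theorem Shape.inf_centralizer (hs : Shape D 3 (-1) a b) :
    D ⊓ Subgroup.centralizer ((Subgroup.zpowers a : Subgroup G) : Set G) = Subgroup.zpowers a := by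
  have hA : ∀ w ∈ Subgroup.zpowers a, w ∈ cenZ a := fun w hw => by
    obtain ⟨i, rfl⟩ := Subgroup.mem_zpowers_iff.1 hw
    refine Subgroup.zpow_mem _ ?_ i
    rw [cenZ_eq, Subgroup.mem_centralizer_singleton_iff]
  refine le_antisymm (fun x hx => ?_) (le_inf hs.zpowers_le hA)
  by_contra hxA
  have hc : x * a * x⁻¹ = a := mul_inv_eq_iff_eq_mul.2
    (Subgroup.mem_centralizer_iff.1 hx.2 a (Subgroup.mem_zpowers a)).symm
  have h1 := hs.conj_zpow hx.1 hxA 1
  rw [zpow_one, hc] at h1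
  rcases hs.zpow_fixed (j := 1) (by rw [← h1, zpow_one]) with h | h <;> rw [zpow_one] at h
  · have := hs.ord_a
    rw [h, orderOf_one] at this
    norm_num at this
  · have := hs.ord_a
    rw [h, hs.orderOf_z] at this
    norm_num at this

/-- An element of order eight of the defect group is a rotation. -/
theorem Shape.mem_zpowers_of_order (hs : Shape D 3 (-1) a b) {x : G} (hx : x ∈ D)
    (ho : orderOf x = 2 ^ 3) : x ∈ Subgroup.zpowers a := by
  by_contra h
  have h2 : x ^ 2 = 1 := by rw [pow_two]; exact hs.sq_outside_dih hx h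
  have := Nat.le_of_dvd two_pos (orderOf_dvd_of_pow_eq_one h2)
  omega

variable [Fact (Nat.Prime 2)]

/-- The block at the rotation has the rotation part as defect group. -/
theorem defect_rotation (hM : IsPModular 2 M) (hs : Shape D 3 (-1) a b)
    (hmax : IsMaximalBrauerPair 2 M B D e) {f : Set (IrrCharacter (cenZ a))}
    (hle : SubpairLE 2 M (Subgroup.zpowers a) f D e) :
    blockDefect 2 f = 3 ∧ IsDefectGroup 2 M f ((Subgroup.zpowers a).subgroupOf (cenZ a)) := by
  have hF := isBlockFusionSystemOn_blockFusion hM hmax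
  have hcard : Nat.card (Subgroup.zpowers a) = 2 ^ 3 := by rw [Nat.card_zpowers, hs.ord_a]
  have hFC : (blockFusion hM hmax.1.1).IsFullyCentralized (Subgroup.zpowers a) := by
    refine ⟨hs.zpowers_le, fun R hR => ?_⟩
    obtain ⟨-, g, hmv, rfl⟩ := (isConj_iff_moves hF).1 hR
    obtain ⟨f', hf', hgf⟩ := hmv
    have hgD : g * a * g⁻¹ ∈ D := hgf.le ⟨a, Subgroup.mem_zpowers a, rfl⟩
    have ho : orderOf (g * a * g⁻¹) = 2 ^ 3 := by
      rw [← hs.ord_a]; exact MulEquiv.orderOf_eq (MulAut.conj g) a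
    have heq : (Subgroup.zpowers a).map (MulAut.conj g).toMonoidHom = Subgroup.zpowers a := by
      rw [map_conj_zpowers]
      exact zpowers_eq_of_orderOf_eq (hs.mem_zpowers_of_order hgD ho) (Subgroup.mem_zpowers a)
        (ho.trans hs.ord_a.symm)
    rw [heq]
  have h := (isFullyCentralized_iff hM hF hle).1 hFC
  rw [hs.inf_centralizer, hcard] at h
  refine ⟨(Nat.pow_right_injective le_rfl h).symm, ?_⟩
  have h' := (isDefectGroup_centralizer_iff hM hmax.1.1 hle).2 (by
    rw [hs.inf_centralizer, hcard]; exact h)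
  rwa [hs.inf_centralizer] at h'

/-- Members of a block with central defect group vanish off its sections. -/
theorem vanish_rotation (hM : IsPModular 2 M) {f : Set (IrrCharacter (cenZ a))}
    (hf : IsPBlock M f) (hD : IsDefectGroup 2 M f ((Subgroup.zpowers a).subgroupOf (cenZ a)))
    {ψ : IrrCharacter (cenZ a)} (hψ : ψ ∈ f) (x : cenZ a)
    (hx : pPart 2 (x : G) ∉ Subgroup.zpowers a) : (ψ : cenZ a → ℂ) x = 0 := by
  obtain ⟨e', he'⟩ := exists_pair_of_defectGroup hM hf hD
  have hmax := isMaximal_of_defectGroup hM hD he'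
  obtain ⟨y, hxy, huy, hu, hy⟩ := pPart_spec hM.1 x
  set u := pPart 2 x with hu_def
  have hcoe : pPart 2 (x : G) = (u : G) := by
    obtain ⟨k, hk⟩ := hu
    refine pPart_eq hM.1 ⟨(y : G), congrArg Subtype.val hxy, congrArg Subtype.val huy.eq,
      ⟨k, by rw [Subgroup.orderOf_coe]; exact hk⟩, by rwa [Subgroup.orderOf_coe]⟩
  rw [hcoe] at hx
  have hyK : y ∈ cenZ u := by
    rw [cenZ_eq u, Subgroup.mem_centralizer_singleton_iff]; exact huy.eq.symm
  have hyr : ¬ 2 ∣ orderOf (⟨y, hyK⟩ : cenZ u) := by rwa [← Subgroup.orderOf_coe]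
  have e1 := star_eq (hM := hM) (fun _ => (1 : ℂ)) ψ hu ⟨y, hyK⟩ hyr
  rw [BrouePuig.star_one] at e1
  simp only [hxy] at e1
  rw [e1]
  refine Finset.sum_eq_zero fun e₁ he₁ => ?_
  rw [secPart_eq_zero_of_not_elem hM hψ hf (a := (⟨u, e₁⟩ : BElem (cenZ a)))
    (mem_elems.2 ⟨hu, mem_blockSet.1 he₁⟩) (fun hel => hx ?_) hyr, mul_zero]
  obtain ⟨t, ht⟩ := (exists_below_iff hM hmax _).2 hel
  have hm := Subgroup.mem_subgroupOf.1 (mem_of_below_act ht)
  obtain ⟨i, hi⟩ := Subgroup.mem_zpowers_iff.1 hm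
  have hc : Commute (t : G) a :=
    (Subgroup.mem_centralizer_singleton_iff.1 (cenZ_eq a ▸ t.2))
  refine Subgroup.mem_zpowers_iff.2 ⟨i, ?_⟩
  simp only [Subgroup.coe_mul, Subgroup.coe_inv] at hi
  calc a ^ i = (t : G)⁻¹ * a ^ i * (t : G) := by
        rw [mul_assoc, ← (hc.zpow_right i).eq, inv_mul_cancel_left]
    _ = (u : G) := by rw [hi]; group

/-- The summand of the section sum. -/
noncomputable def secTerm (a : G) (f : Set (IrrCharacter (cenZ a))) (t x : G) : ℂ :=
  subgroupBlockCoeff (cenZ a) f (a⁻¹ * (t⁻¹ * x * t))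

/-- The section sum. -/
noncomputable def secSum (a : G) (f : Set (IrrCharacter (cenZ a))) (x : G) : ℂ :=
  ∑ q : G ⧸ cenZ a, secTerm a f q.out x

omit [Fact (Nat.Prime 2)] in
theorem secTerm_mul (f : Set (IrrCharacter (cenZ a))) (t x : G) {k : G} (hk : k ∈ cenZ a) :
    secTerm a f (t * k) x = secTerm a f t x := by
  have hc : Commute k a := Subgroup.mem_centralizer_singleton_iff.1 (cenZ_eq a ▸ hk)
  show subgroupBlockCoeff (cenZ a) f _ = subgroupBlockCoeff (cenZ a) f _
  rw [← bc_fixes_of_mem hk f (a⁻¹ * ((t * k)⁻¹ * x * (t * k)))]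
  congr 1
  rw [show k * (a⁻¹ * ((t * k)⁻¹ * x * (t * k))) * k⁻¹
    = (k * a⁻¹) * k⁻¹ * (t⁻¹ * x * t) by group, hc.inv_right.eq]
  group

omit [Fact (Nat.Prime 2)] in
theorem secTerm_out (f : Set (IrrCharacter (cenZ a))) (t x : G) :
    secTerm a f ((t : G ⧸ cenZ a)).out x = secTerm a f t x := by
  obtain ⟨k, hk⟩ := QuotientGroup.mk_out_eq_mul (cenZ a) t
  rw [hk, secTerm_mul f t x k.2]

omit [Fact (Nat.Prime 2)] in
theorem secSum_isClassFunction (f : Set (IrrCharacter (cenZ a))) :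
    IsClassFunction G (secSum a f) := by
  intro x y
  refine Fintype.sum_equiv (MulAction.toPerm y⁻¹) _ _ fun q => ?_
  obtain ⟨t, rfl⟩ := QuotientGroup.mk_surjective q
  show _ = secTerm a f (y⁻¹ • (t : G ⧸ cenZ a)).out x
  rw [secTerm_out, show y⁻¹ • (t : G ⧸ cenZ a) = ((y⁻¹ * t : G) : G ⧸ cenZ a) from rfl,
    secTerm_out, secTerm, secTerm]
  congr 1
  group

omit [Fact (Nat.Prime 2)] in
theorem secSum_LR (hM : IsPModular 2 M) {f : Set (IrrCharacter (cenZ a))} (hf : IsPBlock M f)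
    (x : G) : MemLocalRing M (secSum a f x) :=
  LR.sum hM fun _ _ => bc_LR hM hf _

omit [Fact (Nat.Prime 2)] in
/-- The central character values of the section sum. -/
theorem omega_secSum (f : Set (IrrCharacter (cenZ a))) (χ : IrrCharacter G) :
    omega (χ : G → ℂ) (secSum a f)
      = ((cenZ a).index : ℂ) * secPart a (cenZ a) f χ 1 / (χ : G → ℂ) 1 := by
  rw [omega]
  congr 1
  have h1 : ∀ q : G ⧸ cenZ a, ∑ x : G, secTerm a f q.out x * (χ : G → ℂ) x
      = secPart a (cenZ a) f χ 1 := by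
    intro q
    rw [secPart, blockPart_eq_conv f (mul_left_isClassFunction (cenZ_eq a) χ)]
    simp only [one_mul]
    rw [Fintype.sum_equiv ((MulAut.conj q.out⁻¹).toEquiv.trans (Equiv.mulLeft a⁻¹))
      (fun x => secTerm a f q.out x * (χ : G → ℂ) x)
      (fun y => subgroupBlockCoeff (cenZ a) f y * (χ : G → ℂ) (a * y)) fun x => ?_,
      sum_supported (fun y hy => bc_of_notMem hy f)]
    · exact Finset.sum_congr rfl fun c _ => by rw [bc_coe]
    · simp only [Equiv.trans_apply, MulEquiv.toEquiv_eq_coe, EquivLike.coe_coe, MulAut.conj_apply,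
        inv_inv, Equiv.coe_mulLeft, secTerm, mul_inv_cancel_left]
      congr 1
      have h := irr_conj_apply χ x q.out⁻¹
      rw [inv_inv] at h
      exact h.symm
  simp only [secSum, Finset.sum_mul]
  rw [Finset.sum_comm, Finset.sum_congr rfl fun q _ => h1 q, Finset.sum_const, Finset.card_univ,
    nsmul_eq_mul, Subgroup.index, Nat.card_eq_fintype_card]

/-- The central character values of the section sum on the block at the rotation. -/
theorem omega_secSum_local (hM : IsPModular 2 M) (hs : Shape D 3 (-1) a b)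
    (hmax : IsMaximalBrauerPair 2 M B D e) {f : Set (IrrCharacter (cenZ a))}
    (hle : SubpairLE 2 M (Subgroup.zpowers a) f D e) {z : cenZ a} (hza : (z : G) = a)
    {ψ : IrrCharacter (cenZ a)} (hψ : ψ ∈ f) :
    omega (ψ : cenZ a → ℂ) (fun x : cenZ a => secSum a f (x : G))
      = centScalar ψ z + centScalar ψ z⁻¹ := by
  set hP := hmax.1.1
  have hf : IsPBlock M f := (isBrauerPair_of_subpairLE hle hP).2
  have hD := (defect_rotation hM hs hmax hle).2
  have hzc : z ∈ Subgroup.center (cenZ a) := by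
    refine Subgroup.mem_center_iff.2 fun c => Subtype.ext ?_
    show (c : G) * (z : G) = (z : G) * (c : G)
    rw [hza]
    exact Subgroup.mem_centralizer_singleton_iff.1 (cenZ_eq a ▸ c.2)
  set aD : D := ⟨a, hs.a_mem⟩
  have haK : ∀ w ∈ Subgroup.zpowers a, w ∈ cenZ a := fun w hw => by
    obtain ⟨i, rfl⟩ := Subgroup.mem_zpowers_iff.1 hw
    refine Subgroup.zpow_mem _ ?_ i
    rw [cenZ_eq, Subgroup.mem_centralizer_singleton_iff]
  let S : G → ℂ := fun t => ∑ x : cenZ a, secTerm a f t (x : G) * (ψ : cenZ a → ℂ) x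
  have hfbel : f = (bel hM hP aD).2 :=
    (existsUnique_below hM hP (Subgroup.zpowers_le.2 hs.a_mem)).unique hle (bel_below hM hP aD)
  -- terms outside the cyclic part
  have hout : ∀ t : G, t * a * t⁻¹ ∉ Subgroup.zpowers a → S t = 0 := by
    intro t ht
    refine Finset.sum_eq_zero fun x _ => ?_
    by_cases h0 : secTerm a f t (x : G) = 0
    · rw [h0, zero_mul]
    have hyK : a⁻¹ * (t⁻¹ * (x : G) * t) ∈ cenZ a := by
      by_contra hn
      exact h0 (bc_of_notMem hn f)
    have hyr : ¬ 2 ∣ orderOf (⟨_, hyK⟩ : cenZ a) := fun h => h0 (by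
      show subgroupBlockCoeff (cenZ a) f _ = 0
      rw [bc_of_mem hyK, IsPBlock.blockCoeff_eq_zero hM hf h])
    rw [Subgroup.orderOf_mk] at hyr
    set y := a⁻¹ * (t⁻¹ * (x : G) * t) with hy
    have hca : Commute a y :=
      (Subgroup.mem_centralizer_singleton_iff.1 (cenZ_eq a ▸ hyK)).symm
    have hp : pPart 2 (x : G) = t * a * t⁻¹ := by
      refine pPart_eq hM.1 ⟨t * y * t⁻¹, by rw [hy]; group, ?_, ⟨3, ?_⟩, ?_⟩
      · exact hca.map (MulAut.conj t)
      · rw [← hs.ord_a]; exact MulEquiv.orderOf_eq (MulAut.conj t) a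
      · rwa [show t * y * t⁻¹ = MulAut.conj t y from rfl, MulEquiv.orderOf_eq]
    rw [vanish_rotation hM hf hD hψ x (by rw [hp]; exact ht), mul_zero]
  -- terms inside
  have hin : ∀ (t : G) (hu : t * a * t⁻¹ ∈ Subgroup.zpowers a),
      ∃ f' : Set (IrrCharacter (cenZ a)),
        conjPair t (⟨Subgroup.zpowers a, f⟩ : BrauerPairIdx G) = ⟨Subgroup.zpowers a, f'⟩ ∧
        S t = centScalar ψ ⟨_, haK _ hu⟩ * blockInd f' ψ * (ψ : cenZ a → ℂ) 1 := by
    intro t hu
    have ho : orderOf (t * a * t⁻¹) = orderOf a := MulEquiv.orderOf_eq (MulAut.conj t) a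
    obtain ⟨f', hf'⟩ := exists_snd_of_fst_eq
      (a := conjPair t (⟨Subgroup.zpowers a, f⟩ : BrauerPairIdx G)) (Q := Subgroup.zpowers a)
      ((map_conj_zpowers t a).trans (zpowers_eq_of_orderOf_eq hu (Subgroup.mem_zpowers a) ho))
    refine ⟨f', hf', ?_⟩
    have hbc : ∀ c : G, subgroupBlockCoeff (cenZ a) f' c
        = subgroupBlockCoeff (cenZ a) f (t⁻¹ * c * t) := by
      intro c
      have h1 := congrFun (congrArg (fun A : BrauerPairIdx G =>
        subgroupBlockCoeff (Subgroup.centralizer (A.1 : Set G)) A.2) hf') c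
      simp only [conjPair] at h1
      rw [← bc_conjBlock' (Subgroup.zpowers a) t f c]
      exact h1.symm
    set uK : cenZ a := ⟨_, haK _ hu⟩
    have huc : uK ∈ Subgroup.center (cenZ a) := by
      obtain ⟨i, hi⟩ := Subgroup.mem_zpowers_iff.1 hu
      rw [show uK = z ^ i from Subtype.ext (by rw [Subgroup.coe_zpow, hza, hi])]
      exact Subgroup.zpow_mem _ hzc i
    have hω := omega_blockCoeff f' ψ
    rw [omega, div_eq_iff (irr_one_ne_zero ψ)] at hω
    show ∑ x : cenZ a, secTerm a f t (x : G) * (ψ : cenZ a → ℂ) x = _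
    rw [mul_assoc, ← hω, Finset.mul_sum]
    refine Fintype.sum_equiv (Equiv.mulLeft uK⁻¹) _ _ fun x => ?_
    simp only [Equiv.coe_mulLeft]
    rw [← bc_coe (cenZ a) f' (uK⁻¹ * x), hbc, secTerm]
    have e1 : t⁻¹ * ((uK⁻¹ * x : cenZ a) : G) * t = a⁻¹ * (t⁻¹ * (x : G) * t) := by
      show t⁻¹ * ((t * a * t⁻¹)⁻¹ * (x : G)) * t = _
      group
    rw [e1, show (ψ : cenZ a → ℂ) x = centScalar ψ uK * (ψ : cenZ a → ℂ) (uK⁻¹ * x) from by
      rw [← centScalar_mul ψ huc, Subgroup.mem_center_iff.1 huc, mul_inv_cancel_left]]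
    ring
  have hinD : ∀ t : G, ∀ (hu : t * a * t⁻¹ ∈ Subgroup.zpowers a), t ∈ D →
      S t = centScalar ψ ⟨_, haK _ hu⟩ * (ψ : cenZ a → ℂ) 1 := by
    intro t hu ht
    obtain ⟨f', hf', hS⟩ := hin t hu
    have hb : Below 2 M D e (conjPair t (⟨Subgroup.zpowers a, f⟩ : BrauerPairIdx G)) :=
      Below.conj_mem hM hP (show Below 2 M D e ⟨Subgroup.zpowers a, f⟩ from hle) ht
    rw [hf'] at hb
    have : f' = f :=
      (existsUnique_below hM hP (Subgroup.zpowers_le.2 hs.a_mem)).unique hb hle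
    rw [hS, this, blockInd_of_mem hψ, mul_one]
  have hzero : ∀ t : G, t * a * t⁻¹ ≠ a → t * a * t⁻¹ ≠ a⁻¹ → S t = 0 := by
    intro t h1 h2
    by_cases hu : t * a * t⁻¹ ∈ Subgroup.zpowers a
    swap
    · exact hout t hu
    obtain ⟨f', hf', hS⟩ := hin t hu
    rw [hS]
    by_cases hff : ψ ∈ f'
    swap
    · rw [blockInd_of_notMem hff]; ring
    exfalso
    have hf'b : IsPBlock M f' := by
      have h := isBrauerPair_conj (p := 2) (M := M) t (isBrauerPair_of_subpairLE hle hP)
      have h' : IsPBlock M (conjPair t (⟨Subgroup.zpowers a, f⟩ : BrauerPairIdx G)).2 := h.2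
      rw [hf'] at h'
      exact h'
    have hfe : f' = f := IsPBlock.eq_of_mem hM hf'b hf hff hψ
    set uD : D := ⟨t * a * t⁻¹, hs.zpowers_le hu⟩
    have hact : act t (bel hM hP aD) = bel hM hP uD := by
      refine eq_bel hM hP ?_ uD rfl
      rw [pair_act, show (bel hM hP aD).pair = (⟨Subgroup.zpowers a, f⟩ : BrauerPairIdx G) from
        congrArg (fun g => (⟨Subgroup.zpowers a, g⟩ : BrauerPairIdx G)) hfbel.symm, hf', hfe]
      exact hle
    rcases rot_fused hM hs hmax aD uD (Subgroup.mem_zpowers a) hu hact with h | h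
    · exact h1 h
    · exact h2 h
  -- the two surviving cosets
  have hb1 : b * a * b⁻¹ = a⁻¹ := by rw [hs.conj, zpow_neg_one]
  have hane : a⁻¹ ≠ a := fun h => by
    have h2 : a ^ 2 = 1 := by rw [pow_two]; nth_rewrite 1 [← h]; exact inv_mul_cancel a
    have := Nat.le_of_dvd two_pos (orderOf_dvd_of_pow_eq_one h2)
    rw [hs.ord_a] at this
    omega
  rw [omega, div_eq_iff (irr_one_ne_zero ψ)]
  simp only [secSum, Finset.sum_mul]
  rw [Finset.sum_comm]
  have hout' : ∀ t : G, ∑ x : cenZ a, secTerm a f ((t : G ⧸ cenZ a)).out (x : G) *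
      (ψ : cenZ a → ℂ) x = S t := fun t => Finset.sum_congr rfl fun x _ => by rw [secTerm_out]
  have hne : ((1 : G) : G ⧸ cenZ a) ≠ ((b : G) : G ⧸ cenZ a) := fun h => by
    rw [QuotientGroup.eq, inv_one, one_mul] at h
    have hc : Commute b a := Subgroup.mem_centralizer_singleton_iff.1 (cenZ_eq a ▸ h)
    exact hane (by rw [← hb1, hc.eq, mul_inv_cancel_right])
  have hmem1 : (1 : G) * a * (1 : G)⁻¹ ∈ Subgroup.zpowers a := by
    rw [one_mul, inv_one, mul_one]; exact Subgroup.mem_zpowers a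
  have hmemb : b * a * b⁻¹ ∈ Subgroup.zpowers a := by
    rw [hb1]; exact Subgroup.inv_mem _ (Subgroup.mem_zpowers a)
  rw [Finset.sum_eq_add_of_mem ((1 : G) : G ⧸ cenZ a) ((b : G) : G ⧸ cenZ a) (Finset.mem_univ _)
    (Finset.mem_univ _) hne fun q _ hq => ?_, hout', hout', hinD 1 hmem1 D.one_mem,
    hinD b hmemb hs.b_mem, ← add_mul]
  · congr 2
    · exact congrArg (centScalar ψ) (Subtype.ext (by
        show (1 : G) * a * (1 : G)⁻¹ = (z : G); rw [hza, one_mul, inv_one, mul_one]))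
    · exact congrArg (centScalar ψ) (Subtype.ext (by
        show b * a * b⁻¹ = ((z : G))⁻¹; rw [hza, hb1]))
  · obtain ⟨t, rfl⟩ := QuotientGroup.mk_surjective q
    rw [hout']
    refine hzero t (fun h => hq.1 ?_) fun h => hq.2 ?_
    · rw [QuotientGroup.eq, mul_one]
      refine Subgroup.inv_mem _ ?_
      rw [cenZ_eq, Subgroup.mem_centralizer_singleton_iff]
      exact mul_inv_eq_iff_eq_mul.1 h
    · rw [QuotientGroup.eq, cenZ_eq, Subgroup.mem_centralizer_singleton_iff]
      have h3 : b * a * b⁻¹ = t * a * t⁻¹ := by rw [hb1, h]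
      calc t⁻¹ * b * a = t⁻¹ * (b * a * b⁻¹) * b := by group
        _ = t⁻¹ * (t * a * t⁻¹) * b := by rw [h3]
        _ = a * (t⁻¹ * b) := by group

/-- The cubic sum of the columns at the rotations of order eight cannot be four thirds of the
reciprocal of a least degree. -/
theorem false_of_triple (hM : IsPModular 2 M) (hs : Shape D 3 (-1) a b)
    (hmax : IsMaximalBrauerPair 2 M B D e) (R : RotData hM hmax.1.1 a) {v : IrrCharacter G}
    (hv : v ∈ B) (hv0 : degVal 2 v = minDegVal 2 B) {l : ℕ}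
    (hl : charDegree (v : G → ℂ) = 3 * l) {w₁ w₅ : D} (h₁ : (w₁ : G) = a)
    (h₅ : (w₅ : G) = a ^ 5) (hg₁ : R.g v w₁ = 1 ∨ R.g v w₁ = -1)
    (hg₅ : R.g v w₅ = 1 ∨ R.g v w₅ = -1) {σ : ℤ} (hσ : σ * σ = 1)
    (hsum : ∑ χ : IrrCharacter G, R.g χ w₁ ^ 2 * R.g χ w₅ / (χ : G → ℂ) 1
      = (σ : ℂ) * 4 / (3 * (l : ℂ))) : False := by
  have hP := hmax.1.1
  set K := cenZ a with hKdef
  set f : Set (IrrCharacter K) :=
    (bel hM hP (⟨a, hs.a_mem⟩ : D)).2 with hf_def
  have hle : SubpairLE 2 M (Subgroup.zpowers a) f D e := bel_below hM hP (⟨a, hs.a_mem⟩ : D)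
  have hel : IsElemOf 2 M B (bel hM hP (⟨a, hs.a_mem⟩ : D)) :=
    isElemOf_of_below hM hmax (bel_below hM hP (⟨a, hs.a_mem⟩ : D))
  have hind : IsInducedBlock M K f B :=
    (isBrauerPairOf_iff_induced hM hel.1.1 hel.1.2).1 hel
  have hf : IsPBlock M f := hind.1
  obtain ⟨hfd, -⟩ := defect_rotation hM hs hmax hle
  have haK : a ∈ K := by rw [hKdef, cenZ_eq, Subgroup.mem_centralizer_singleton_iff]
  set z : K := ⟨a, haK⟩
  have hzc : z ∈ Subgroup.center K := by
    refine Subgroup.mem_center_iff.2 fun c => Subtype.ext ?_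
    exact Subgroup.mem_centralizer_singleton_iff.1 (cenZ_eq a ▸ c.2)
  have hord : orderOf z = 2 ^ 3 := by rw [← Subgroup.orderOf_coe]; exact hs.ord_a
  have hz8 : z ^ 8 = 1 := by
    rw [show (8 : ℕ) = orderOf z by rw [hord]; rfl]; exact pow_orderOf_eq_one z
  have ho5 : orderOf (a ^ 5) = orderOf a := by
    refine Nat.Coprime.orderOf_pow ?_
    rw [hs.ord_a]
    decide
  have hQ5 : Subgroup.zpowers (a ^ 5) = Subgroup.zpowers a :=
    zpowers_eq_of_orderOf_eq (Subgroup.pow_mem _ (Subgroup.mem_zpowers a) 5)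
      (Subgroup.mem_zpowers a) ho5
  have hK5 : K = Subgroup.centralizer ({a ^ 5} : Set G) := by
    rw [← centralizer_zpowers, hQ5]
  have hw₁ : (w₁ : G) ∈ Subgroup.zpowers a := by rw [h₁]; exact Subgroup.mem_zpowers a
  have hw₅ : (w₅ : G) ∈ Subgroup.zpowers a := by
    rw [h₅]; exact Subgroup.pow_mem _ (Subgroup.mem_zpowers a) 5
  have hw₁1 : w₁ ≠ 1 := fun h => by
    have := hs.ord_a
    rw [← h₁, h, OneMemClass.coe_one, orderOf_one] at this
    norm_num at this
  have hw₅1 : w₅ ≠ 1 := fun h => by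
    have := ho5
    rw [← h₅, h, OneMemClass.coe_one, orderOf_one, hs.ord_a] at this
    norm_num at this
  obtain ⟨θ, hθ, hθm⟩ := exists_degVal_eq_min (p := 2) (IsPBlock.nonempty hM hf)
  have hmin : ∀ ψ ∈ f, degVal 2 θ ≤ degVal 2 ψ := fun ψ hψ => by
    rw [hθm]; exact minDegVal_le hψ
  have hrank : blockRank 2 f = 1 := by
    rw [hf_def]
    exact R.rank ⟨a, hs.a_mem⟩ (Subgroup.mem_zpowers a) fun h => hw₁1 (Subtype.ext (by
      rw [h₁]; exact congrArg Subtype.val h))
  set t1 : ℂ := (θ : K → ℂ) 1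
  have ht1 : t1 ≠ 0 := irr_one_ne_zero θ
  -- the multipliers
  have hP1 : ∀ χ, secPart a K f χ 1 = R.g χ w₁ * R.scal w₁ := fun χ => by
    rw [← R.sec w₁ hw₁ hw₁1 χ, ← secPart_of_zpowers hM hP w₁ (by rw [h₁]) hle χ, h₁]
  have hP5 : ∀ χ, secPart (a ^ 5) K f χ 1 = R.g χ w₅ * R.scal w₅ := fun χ => by
    rw [← R.sec w₅ hw₅ hw₅1 χ, ← secPart_of_zpowers hM hP w₅ (by rw [h₅, hQ5]) hle χ, h₅]
  set Sθ : ℂ := ∑ c : K with IsPRegular 2 c, (θ : K → ℂ) c * (θ : K → ℂ) c⁻¹ with hSθ
  set r : ℂ := omega (θ : K → ℂ) (regClassFun 2 (θ : K → ℂ)) with hr_def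
  have hr : MemLocalRing M r :=
    omega_LR hM θ (regClassFun_isClassFunction (CfsgLib.Char.IsIrrCharacter.isClassFunction θ.2))
      (regClassFun_LR hM θ)
  have hrS : r * t1 = (pPartCard 2 K : ℂ) * (Nat.card K : ℂ)⁻¹ * Sθ := by
    rw [hr_def, omega_regClassFun, div_mul_cancel₀ _ ht1]
    rfl
  -- units
  have hunit : ∀ (x : G) (s gv : ℂ) (zx : K), (zx : G) = x → zx ∈ Subgroup.center K →
      K = Subgroup.centralizer ({x} : Set G) → zx ^ 2 ^ 3 = 1 → secPart x K f v 1 = gv * s →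
      gv = 1 ∨ gv = -1 →
      MemLocalRing M (s / t1) ∧ ¬ MemLocalIdeal M (s / t1) ∧ ¬ MemLocalIdeal M r := by
    intro x s gv zx hzx hzxc hKx hz3 hP hgv
    have hLR : MemLocalRing M (s / t1) := by
      have h := secPart_div_LR hM hzx hzxc v hmin (θ := θ) (f := f)
      rw [hP] at h
      rcases hgv with e | e <;> rw [e] at h
      · rwa [one_mul] at h
      · have := LR.neg h
        rwa [neg_one_mul, neg_div, neg_neg] at this
    have hone : ¬ 2 ∣ orderOf (1 : K) := FreeAbelianCounts.one_regular hM.1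
    have hLRc : MemLocalRing M (conj (s / t1)) := by
      have h := secPart_div_LR hM (f := f) (x := x⁻¹) (z := zx⁻¹)
        (by rw [Subgroup.coe_inv, hzx]) (inv_mem hzxc) v hmin (θ := θ)
      have e1 : secPart x⁻¹ K f v 1 = gv * conj s := by
        have := conj_secPart hM hf hKx v hone
        rw [inv_one, hP, map_mul] at this
        rw [← this]
        rcases hgv with e | e <;> simp [e]
      rw [e1] at h
      have e2 : conj (s / t1) = conj s / t1 := by
        rw [map_div₀]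
        congr 1
        rw [show t1 = (θ : K → ℂ) 1 from rfl, irr_one_eq, map_natCast]
      rw [e2]
      rcases hgv with e | e <;> rw [e] at h
      · rwa [one_mul] at h
      · have := LR.neg h
        rwa [neg_one_mul, neg_div, neg_neg] at this
    obtain ⟨ψ₀, hψ₀, hψ₀m, hnot⟩ := contrib_unit_of_min hM hind hzx hzxc hz3 hv hv hv0 hv0
    have hval : contrib 2 x K f v v / (ψ₀ : K → ℂ) 1
        = (s / t1) * conj (s / t1) * r * (t1 ^ 2 / (t1 * (ψ₀ : K → ℂ) 1)) := by
      have e1 : ∀ c : K, IsPRegular 2 c → secPart x K f v c * secPart x⁻¹ K f v c⁻¹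
          = gv * gv * (s / t1) * conj (s / t1) * ((θ : K → ℂ) c * (θ : K → ℂ) c⁻¹) := by
        intro c hc
        have h := secPart_prop hM.1 hKx hrank v hθ hc
        rw [hP] at h
        have h' : secPart x K f v c = gv * (s / t1) * (θ : K → ℂ) c := by
          field_simp
          exact h
        have hgc : conj gv = gv := by rcases hgv with e | e <;> simp [e]
        rw [← conj_secPart hM hf hKx v hc, h', map_mul, map_mul, conj_irr, hgc]
        ring
      rw [contrib, Finset.sum_congr rfl fun c hc => e1 c (Finset.mem_filter.1 hc).2,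
        ← Finset.mul_sum, ← hSθ]
      have hg2 : gv * gv = 1 := by rcases hgv with e | e <;> simp [e]
      rw [hg2]
      rw [show t1 ^ 2 / (t1 * (ψ₀ : K → ℂ) 1) = t1 / (ψ₀ : K → ℂ) 1 by field_simp]
      calc (pPartCard 2 K : ℂ) * (Nat.card K : ℂ)⁻¹ * (1 * (s / t1) * conj (s / t1) * Sθ) /
            (ψ₀ : K → ℂ) 1
          = s / t1 * conj (s / t1) * ((pPartCard 2 K : ℂ) * (Nat.card K : ℂ)⁻¹ * Sθ) /
            (ψ₀ : K → ℂ) 1 := by ring
        _ = _ := by rw [← hrS]; ring
    rw [hval] at hnot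
    have hdeg : MemLocalRing M (t1 ^ 2 / (t1 * (ψ₀ : K → ℂ) 1)) := by
      rw [show t1 ^ 2 / (t1 * (ψ₀ : K → ℂ) 1) = t1 / (ψ₀ : K → ℂ) 1 by field_simp,
        show t1 = (θ : K → ℂ) 1 from rfl, irr_one_eq, irr_one_eq]
      refine natCast_div_LR hM (charDegree_pos ψ₀).ne' (dvd_trans (pow_dvd_pow 2 ?_)
        (Nat.ordProj_dvd _ _))
      show degVal 2 ψ₀ ≤ degVal 2 θ
      rw [hψ₀m, hθm]
    refine ⟨hLR, fun h => hnot ?_, fun h => hnot ?_⟩
    · exact LI.mul_right hM (LI.mul_right hM (LI.mul_right hM h hLRc) hr) hdeg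
    · exact LI.mul_right hM (LI.mul_left hM (LR.mul hM hLR hLRc) h) hdeg
  obtain ⟨hκ1, hκ1', hr'⟩ := hunit a (R.scal w₁) (R.g v w₁) z rfl hzc (cenZ_eq a) hz8 (hP1 v) hg₁
  obtain ⟨hκ5, hκ5', -⟩ := hunit (a ^ 5) (R.scal w₅) (R.g v w₅) (z ^ 5) rfl
    (Subgroup.pow_mem _ hzc 5) hK5 (by rw [← pow_mul, show 5 * 2 ^ 3 = 8 * 5 by rfl, pow_mul, hz8,
      one_pow]) (hP5 v) hg₅
  -- the functional
  set F := secSum a f with hF
  have hFcl : IsClassFunction G F := secSum_isClassFunction f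
  have hFLR : ∀ x, MemLocalRing M (F x) := secSum_LR hM hf
  let Fk : K → ℂ := fun c => F (c : G)
  have hFkcl : IsClassFunction K Fk := fun c t => hFcl (c : G) (t : G)
  let γ : G → ℂ := fun g => ∑ x, F x * F (x⁻¹ * g)
  let γk : K → ℂ := fun c => ∑ x : K, Fk x * Fk (x⁻¹ * c)
  have hγcl : IsClassFunction G γ := conv_isClassFunction hFcl hFcl
  have hγkcl : IsClassFunction K γk := conv_isClassFunction hFkcl hFkcl
  let sel : (K → ℂ) → K → ℂ := fun φ c => if IsPRegular 2 c then φ (z ^ 3 * c) else 0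
  have hconjreg : ∀ c y : K, IsPRegular 2 (y * c * y⁻¹) ↔ IsPRegular 2 c := fun c y => by
    rw [IsPRegular, IsPRegular, show y * c * y⁻¹ = MulAut.conj y c from rfl, MulEquiv.orderOf_eq]
  have hsel : ∀ φ : K → ℂ, IsClassFunction K φ → IsClassFunction K (sel φ) := by
    intro φ hφ c y
    have h3 : z ^ 3 * (y * c * y⁻¹) = y * (z ^ 3 * c) * y⁻¹ := by
      rw [← mul_assoc, ← mul_assoc y, ← mul_assoc,
        Subgroup.mem_center_iff.1 (Subgroup.pow_mem _ hzc 3) y]
    show (if IsPRegular 2 (y * c * y⁻¹) then φ (z ^ 3 * (y * c * y⁻¹)) else 0) = _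
    rw [h3, hφ]
    exact if_congr (hconjreg c y) rfl rfl
  -- the Brauer congruence
  have hcongr : MemLocalIdeal M (omega (θ : K → ℂ) (sel fun c => γ (c : G))
      - omega (θ : K → ℂ) (sel γk)) := by
    have hγ' : IsClassFunction K fun c : K => γ (c : G) := fun c y => hγcl (c : G) (y : G)
    have e1 : omega (θ : K → ℂ) (sel fun c => γ (c : G)) - omega (θ : K → ℂ) (sel γk)
        = omega (θ : K → ℂ) (sel fun c => γ (c : G) - γk c) := by
      simp only [omega, sel, ← sub_div, ← Finset.sum_sub_distrib]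
      congr 1
      refine Finset.sum_congr rfl fun c _ => ?_
      split <;> ring
    rw [e1]
    refine omega_LI hM θ (hsel (fun c : K => γ (c : G) - γk c) fun c y => ?_) fun c => ?_
    · show γ _ - γk _ = γ _ - γk _
      rw [hγkcl c y]
      exact congrArg (· - γk c) (hγ' c y)
    · show MemLocalIdeal M (if IsPRegular 2 c then γ ((z ^ 3 * c : K) : G) - γk (z ^ 3 * c) else 0)
      split
      swap
      · exact LI.zero hM
      have h := conv_congr_centralizer hM (IsPGroup.of_card (n := 3)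
        (show Nat.card (Subgroup.zpowers a) = 2 ^ 3 by rw [Nat.card_zpowers, hs.ord_a]))
        hFLR hFLR (fun u _ x => hFcl x u) (fun u _ x => hFcl x u) (c := ((z ^ 3 * c : K) : G))
        (z ^ 3 * c).2
      have e2 : γk (z ^ 3 * c) = ∑ x : G with x ∈ K, F x * F (x⁻¹ * ((z ^ 3 * c : K) : G)) := by
        rw [Finset.sum_subtype _ (p := fun x : G => x ∈ K) (fun x => by simp)]
        rfl
      rw [e2]
      exact h
  -- the local value vanishes
  have hlocal : omega (θ : K → ℂ) (sel γk) = 0 := by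
    have hγk : γk = fourierInv fun ψ : IrrCharacter K =>
        omega (ψ : K → ℂ) Fk * omega (ψ : K → ℂ) Fk := by
      funext c
      rw [← fourierInv_mul, fourierInv_omega hFkcl]
    rw [omega, div_eq_zero_iff]
    left
    simp only [sel, hγk, fourierInv, ite_mul, zero_mul]
    rw [← Finset.sum_filter]
    simp only [Finset.mul_sum, Finset.sum_mul]
    rw [Finset.sum_comm]
    have hsing : ∀ m : ℕ, ¬ 8 ∣ m → ∑ ψ : IrrCharacter K, blockInd f ψ *
        ((ψ : K → ℂ) 1 * (ψ : K → ℂ) 1 * centScalar ψ z ^ m) = 0 := by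
      intro m hm
      have hdvd : 2 ∣ orderOf (z ^ m) := by
        have h1 : orderOf (z ^ m) ∣ 2 ^ 3 := hord ▸ orderOf_pow_dvd m
        obtain ⟨i, -, hi⟩ := (Nat.dvd_prime_pow Nat.prime_two).1 h1
        rcases Nat.eq_zero_or_pos i with h0 | h0
        · rw [h0, pow_zero, orderOf_eq_one_iff, ← orderOf_dvd_iff_pow_eq_one, hord] at hi
          exact absurd hi hm
        · rw [hi]; exact dvd_pow_self 2 h0.ne'
      rw [← IsPBlock.sum_mul_eq_zero hM hf hdvd
        (FreeAbelianCounts.one_regular (K := K) hM.1)]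
      refine Finset.sum_congr rfl fun ψ _ => ?_
      rw [centScalar_pow ψ hzc]
      ring
    have key : ∀ ψ : IrrCharacter K, ∑ c : K with IsPRegular 2 c,
        (Nat.card K : ℂ)⁻¹ * (omega (ψ : K → ℂ) Fk * omega (ψ : K → ℂ) Fk *
          ((ψ : K → ℂ) 1 * (ψ : K → ℂ) (z ^ 3 * c)⁻¹)) * (θ : K → ℂ) c
        = ((Nat.card K : ℂ)⁻¹ * Sθ / t1) *
          (blockInd f ψ * ((ψ : K → ℂ) 1 * (ψ : K → ℂ) 1 * centScalar ψ z ^ 7)
            + 2 * (blockInd f ψ * ((ψ : K → ℂ) 1 * (ψ : K → ℂ) 1 * centScalar ψ z ^ 5))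
            + blockInd f ψ * ((ψ : K → ℂ) 1 * (ψ : K → ℂ) 1 * centScalar ψ z ^ 3)) := by
      intro ψ
      have hl8 : centScalar ψ z ^ 8 = 1 := centScalar_pow_eq_one ψ hzc hz8
      have hinv : ∀ c : K, (ψ : K → ℂ) (z ^ 3 * c)⁻¹ = centScalar ψ z ^ 5 * (ψ : K → ℂ) c⁻¹ := by
        intro c
        have e3 : (z ^ 3 * c)⁻¹ = c⁻¹ * z ^ 5 := by
          rw [mul_inv_rev]
          congr 1
          refine inv_eq_of_mul_eq_one_right ?_
          rw [← pow_add]
          exact hz8
        rw [e3, centScalar_mul ψ (Subgroup.pow_mem _ hzc 5)]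
        congr 1
        rw [centScalar, centScalar_pow ψ hzc, mul_div_cancel_right₀ _ (irr_one_ne_zero ψ)]
      simp only [hinv]
      by_cases hψ : ψ ∈ f
      · rw [blockInd_of_mem hψ, one_mul, one_mul, one_mul, Finset.mul_sum, Finset.sum_div,
          Finset.sum_mul]
        refine Finset.sum_congr rfl fun c hc => ?_
        have hcr : ¬ 2 ∣ orderOf c⁻¹ := by rw [orderOf_inv]; exact (Finset.mem_filter.1 hc).2
        have hp := regular_prop hM.1 hrank hψ hθ hcr
        have hΩ : omega (ψ : K → ℂ) Fk = centScalar ψ z + centScalar ψ z ^ 7 := by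
          rw [show Fk = fun x : K => secSum a f (x : G) from rfl,
            omega_secSum_local hM hs hmax hle (z := z) rfl hψ]
          congr 1
          rw [show z⁻¹ = z ^ 7 from inv_eq_of_mul_eq_one_right (by rw [← pow_succ']; exact hz8),
            centScalar, centScalar_pow ψ hzc, mul_div_cancel_right₀ _ (irr_one_ne_zero ψ)]
        rw [hΩ]
        have hp' : (ψ : K → ℂ) c⁻¹ = (θ : K → ℂ) c⁻¹ * (ψ : K → ℂ) 1 / t1 := by
          rw [eq_div_iff ht1]; exact hp
        rw [hp']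
        field_simp
        linear_combination ((ψ : K → ℂ) 1 ^ 2 * (θ : K → ℂ) c⁻¹ * (θ : K → ℂ) c *
          (centScalar ψ z ^ 11 + centScalar ψ z ^ 3 + 2 * centScalar ψ z ^ 5)) * hl8
      · rw [blockInd_of_notMem hψ]
        have h0 := IsPBlock.regInner_eq_zero hM hf hθ hψ
        rw [regInner, mul_eq_zero] at h0
        have h1 := h0.resolve_left (mul_ne_zero (pPartCard_ne_zero hM.1)
          (inv_ne_zero CfsgLib.Char.card_ne_zero))
        simp only [zero_mul, mul_zero, add_zero]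
        refine Eq.trans ?_ (mul_eq_zero_of_right ((Nat.card K : ℂ)⁻¹ *
          (omega (ψ : K → ℂ) Fk * omega (ψ : K → ℂ) Fk) *
          ((ψ : K → ℂ) 1 * centScalar ψ z ^ 5)) h1)
        rw [Finset.mul_sum]
        exact Finset.sum_congr rfl fun c _ => by ring
    rw [Finset.sum_congr rfl fun ψ _ => key ψ, ← Finset.mul_sum, Finset.sum_add_distrib,
      Finset.sum_add_distrib, ← Finset.mul_sum, hsing 7 (by decide), hsing 5 (by decide),
      hsing 3 (by decide)]
    ring
  -- the global value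
  have hsec5 : ∀ χ : IrrCharacter G, ∑ c : K with IsPRegular 2 c,
      (θ : K → ℂ) c * (χ : G → ℂ) ((z ^ 3 * c : K) : G)⁻¹
      = R.g χ w₅ * (R.scal w₅ / t1) * Sθ := by
    intro χ
    have hsub : ∑ c : K with IsPRegular 2 c, (θ : K → ℂ) c * (χ : G → ℂ) ((z ^ 3 * c : K) : G)⁻¹
        = ∑ c : K with IsPRegular 2 c, (θ : K → ℂ) c⁻¹ * (χ : G → ℂ) (a ^ 5 * (c : G)) := by
      refine Finset.sum_nbij' (fun c => c⁻¹) (fun c => c⁻¹) ?_ ?_ ?_ ?_ ?_
      · intro c hc; simpa [isPRegular_inv] using hc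
      · intro c hc; simpa [isPRegular_inv] using hc
      · intro c _; simp
      · intro c _; simp
      · intro c _
        rw [inv_inv]
        congr 2
        have e3 : (z ^ 3 * c)⁻¹ = z ^ 5 * c⁻¹ := by
          rw [mul_inv_rev,
            show (z ^ 3)⁻¹ = z ^ 5 from inv_eq_of_mul_eq_one_right (by rw [← pow_add]; exact hz8),
            Subgroup.mem_center_iff.1 (Subgroup.pow_mem _ hzc 5) c⁻¹]
        rw [← Subgroup.coe_inv, e3]
        rfl
    rw [hsub, sum_section_eq hM hK5 hf hθ χ, hSθ, Finset.mul_sum]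
    refine Finset.sum_congr rfl fun c hc => ?_
    have h := secPart_prop hM.1 hK5 hrank χ hθ (Finset.mem_filter.1 hc).2
    rw [hP5 χ] at h
    have h' : secPart (a ^ 5) K f χ c = R.g χ w₅ * (R.scal w₅ / t1) * (θ : K → ℂ) c := by
      field_simp
      exact h
    rw [h']
    ring
  have hglobal : omega (θ : K → ℂ) (sel fun c => γ (c : G))
      = (((Nat.card G * charDegree (θ : K → ℂ) ^ 2 * 4 : ℕ) : ℂ) /
          ((Nat.card K * pPartCard 2 K * (3 * l) : ℕ) : ℂ))
        * ((R.scal w₁ / t1) ^ 2 * (R.scal w₅ / t1) * r * (σ : ℂ)) := by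
    have hγ : γ = fourierInv fun χ : IrrCharacter G =>
        omega (χ : G → ℂ) F * omega (χ : G → ℂ) F := by
      funext g
      rw [← fourierInv_mul, fourierInv_omega hFcl]
    have hidx : ((cenZ a).index : ℂ) = (Nat.card G : ℂ) / (Nat.card K : ℂ) := by
      rw [eq_div_iff CfsgLib.Char.card_ne_zero, ← Nat.cast_mul, Subgroup.index_mul_card]
    have hω : ∀ χ : IrrCharacter G, omega (χ : G → ℂ) F
        = (Nat.card G : ℂ) / (Nat.card K : ℂ) * t1 * (R.scal w₁ / t1) * R.g χ w₁ /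
          (χ : G → ℂ) 1 := fun χ => by
      rw [hF, omega_secSum, hidx, hP1]
      field_simp
    have e1 : omega (θ : K → ℂ) (sel fun c => γ (c : G))
        = ∑ χ : IrrCharacter G, (Nat.card G : ℂ)⁻¹ *
            (omega (χ : G → ℂ) F * omega (χ : G → ℂ) F * (χ : G → ℂ) 1) *
            (R.g χ w₅ * (R.scal w₅ / t1) * Sθ) / t1 := by
      rw [omega, ← Finset.sum_div]
      congr 1
      simp only [sel, hγ, fourierInv, ite_mul, zero_mul]
      rw [← Finset.sum_filter]
      simp only [Finset.mul_sum, Finset.sum_mul]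
      rw [Finset.sum_comm]
      refine Finset.sum_congr rfl fun χ _ => ?_
      rw [← hsec5 χ, Finset.mul_sum]
      exact Finset.sum_congr rfl fun c _ => by ring
    have hKne : (Nat.card K : ℂ) ≠ 0 := CfsgLib.Char.card_ne_zero
    have hGne : (Nat.card G : ℂ) ≠ 0 := CfsgLib.Char.card_ne_zero
    have hpne : (pPartCard 2 K : ℂ) ≠ 0 := pPartCard_ne_zero hM.1
    rw [e1, Finset.sum_congr rfl (g := fun χ =>
      ((Nat.card G : ℂ) / (Nat.card K : ℂ) ^ 2 * t1 * (R.scal w₁ / t1) ^ 2 * (R.scal w₅ / t1) * Sθ)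
        * (R.g χ w₁ ^ 2 * R.g χ w₅ / (χ : G → ℂ) 1)) fun χ _ => by
        rw [hω χ]
        have := irr_one_ne_zero χ
        field_simp, ← Finset.mul_sum, hsum]
    have hS : Sθ = r * t1 * (Nat.card K : ℂ) / (pPartCard 2 K : ℂ) := by
      rw [hrS]; field_simp
    have hlne : (l : ℂ) ≠ 0 := Nat.cast_ne_zero.2 fun h => (charDegree_pos v).ne' (by rw [hl, h])
    rw [hS, show t1 = (θ : K → ℂ) 1 from rfl, irr_one_eq]
    push_cast
    field_simp
  rw [hlocal, sub_zero, hglobal] at hcongr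
  -- both factors are units
  have hKf := blockDefect_add_min (p := 2) (IsPBlock.nonempty hM hf)
  rw [hfd, ← hθm] at hKf
  have hB : IsPBlock M B := hmax.1.2.1
  have hGf := blockDefect_add_min (p := 2) (IsPBlock.nonempty hM hB)
  have hBd : blockDefect 2 B = 4 := Nat.pow_right_injective le_rfl
    ((card_defectGroup hM hB (isDefectGroup_of_isMaximal hM hmax)).symm.trans hs.card)
  rw [hBd, ← hv0] at hGf
  have hl0 : l ≠ 0 := fun h => (charDegree_pos v).ne' (by rw [hl, h])
  have hθ0 := (charDegree_pos θ).ne'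
  have hpp : pPartCard 2 K ≠ 0 := pow_ne_zero _ two_ne_zero
  have hl3 : 3 * l ≠ 0 := by omega
  obtain ⟨hnd, hnd'⟩ := natCast_div_not_LI (M := M) hM
    (n := Nat.card G * charDegree (θ : K → ℂ) ^ 2 * 4)
    (d := Nat.card K * pPartCard 2 K * (3 * l))
    (Nat.mul_ne_zero (Nat.mul_ne_zero Nat.card_pos.ne' (pow_ne_zero _ hθ0)) (by norm_num))
    (Nat.mul_ne_zero (Nat.mul_ne_zero Nat.card_pos.ne' hpp) hl3)
    (by
      have h4 : (4 : ℕ).factorization 2 = 2 := by
        rw [show (4 : ℕ) = 2 ^ 2 from rfl, Nat.prime_two.factorization_pow, Finsupp.single_eq_same]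
      rw [Nat.factorization_mul (Nat.mul_ne_zero Nat.card_pos.ne' (pow_ne_zero _ hθ0))
          (by norm_num),
        Nat.factorization_mul Nat.card_pos.ne' (pow_ne_zero _ hθ0),
        Nat.factorization_mul (Nat.mul_ne_zero Nat.card_pos.ne' hpp) hl3,
        Nat.factorization_mul Nat.card_pos.ne' hpp, Nat.factorization_pow]
      simp only [Finsupp.add_apply, Finsupp.smul_apply, smul_eq_mul, pPartCard]
      rw [Nat.prime_two.factorization_pow, Finsupp.single_eq_same, h4, ← hl]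
      simp only [degVal] at hKf hGf
      omega)
  have hσ1 : ¬ MemLocalIdeal M (σ : ℂ) := by
    rw [LI.intCast_iff hM]
    intro h
    have := dvd_mul_of_dvd_left h σ
    rw [hσ] at this
    norm_num at this
  have hLσ : MemLocalRing M (σ : ℂ) := LR.intCast hM σ
  have hsq : MemLocalRing M ((R.scal w₁ / t1) ^ 2) := by rw [pow_two]; exact LR.mul hM hκ1 hκ1
  have hsq' : ¬ MemLocalIdeal M ((R.scal w₁ / t1) ^ 2) := by
    rw [pow_two]; exact not_LI_mul hM hκ1 hκ1 hκ1' hκ1'
  exact not_LI_mul hM hnd (LR.mul hM (LR.mul hM (LR.mul hM hsq hκ5) hr) hLσ) hnd'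
    (not_LI_mul hM (LR.mul hM (LR.mul hM hsq hκ5) hr) hLσ
      (not_LI_mul hM (LR.mul hM hsq hκ5) hr (not_LI_mul hM hsq hκ5 hsq' hκ5') hr') hσ1) hcongr

end CfsgLib.Blocks.TameDefect
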