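import Cfsg.Agent.Lib.Blocks.TameDefect.RotationGram
import Cfsg.Agent.Lib.Blocks.TameDefect.RotationLattice
import Cfsg.Agent.Lib.Blocks.TameDefect.RotationTriple

/-!
# The characters of a block with dihedral defect group
-/

set_option autoImplicit false
set_option maxHeartbeats 1600000

namespace CfsgLib.Blocks.TameDefect

open Cfsg CfsgLib.Blocks CfsgLib.BrauerPairs CfsgLib.BrouePuig
open scoped Classical ComplexConjugate

universe u

variable {G : Type u} [Group G] [Fintype G] {M : Ideal AlgInt} {B : Set (IrrCharacter G)}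
  {D : Subgroup G} {k : ℕ} {a b : G}
  {e : Set (IrrCharacter (Subgroup.centralizer (D : Set G)))} [Fact (Nat.Prime 2)]
  {hM : IsPModular 2 M}

/-- The value at the central involution is odd at height zero. -/
theorem odd_g_half (hs : Shape D k (-1) a b) (hmax : IsMaximalBrauerPair 2 M B D e)
    (R : RotData hM hmax.1.1 a) {χ : IrrCharacter G} (hχ : χ ∈ B)
    (h0 : degVal 2 χ = minDegVal 2 B) {m : ℤ}
    (hm : R.g χ (rot hs (2 ^ (k - 1))) = (m : ℂ)) : Odd m := by
  let w : D := ⟨zinv k a, hs.z_mem⟩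
  rw [rot_half hs] at hm
  change R.g χ w = (m : ℂ) at hm
  have hw : (w : G) ∈ Subgroup.zpowers a := Subgroup.pow_mem _ (Subgroup.mem_zpowers a) _
  have hw1 : w ≠ 1 := fun h => hs.z_ne_one (congrArg Subtype.val h)
  have hDz : D ≤ cenZ (w : G) := fun x hx => by
    rw [cenZ_eq, Subgroup.mem_centralizer_singleton_iff]
    exact hs.z_comm hx
  set fz : Set (IrrCharacter (cenZ (w : G))) := (bel hM hmax.1.1 w).2
  have hzd : blockDefect 2 fz = blockDefect 2 B := (exists_maximal_nest hM hmax w hDz).1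
  have hd : blockDefect 2 B = k + 1 := Nat.pow_right_injective le_rfl
    ((card_defectGroup hM hmax.1.2.1 (isDefectGroup_of_isMaximal hM hmax)).symm.trans hs.card)
  have hel : IsElemOf 2 M B (bel hM hmax.1.1 w) :=
    isElemOf_of_below hM hmax (bel_below hM hmax.1.1 w)
  have hind : IsInducedBlock M (cenZ (w : G)) fz B :=
    (isBrauerPairOf_iff_induced hM hel.1.1 hel.1.2).1 hel
  obtain ⟨θ, hθ⟩ := IsPBlock.nonempty hM hind.1
  have hrank : blockRank 2 fz = 1 := R.rank w hw hw1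
  have hx : ∃ j : ℕ, orderOf (w : G) = 2 ^ j := ⟨1, by rw [hs.orderOf_z, pow_one]⟩
  set t : ℂ := (θ : cenZ (w : G) → ℂ) 1
  set S : ℂ := (pPartCard 2 (cenZ (w : G)) : ℂ) * (Nat.card (cenZ (w : G)) : ℂ)⁻¹ *
    ∑ c : cenZ (w : G) with IsPRegular 2 c, (R.scal w / t * (θ : cenZ (w : G) → ℂ) c) *
      conj (R.scal w / t * (θ : cenZ (w : G) → ℂ) c)
  have hsec : ∀ (φ : IrrCharacter G) (c : cenZ (w : G)), IsPRegular 2 c →
      secPart (w : G) (cenZ (w : G)) fz φ c
        = R.g φ w * (R.scal w / t * (θ : cenZ (w : G) → ℂ) c) := by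
    intro φ c hc
    have h := secPart_prop hM.1 (cenZ_eq (w : G)) hrank φ hθ hc
    rw [show secPart (w : G) (cenZ (w : G)) fz φ 1 = R.g φ w * R.scal w from R.sec w hw hw1 φ] at h
    have ht : t ≠ 0 := irr_one_ne_zero θ
    field_simp
    exact h
  have hcon : ∀ φ : IrrCharacter G, contrib 2 (w : G) (cenZ (w : G)) fz φ φ
      = R.g φ w * R.g φ w * S := by
    intro φ
    simp only [contrib, S, Finset.mul_sum]
    refine Finset.sum_congr rfl fun c hc => ?_
    have hgc : conj (R.g φ w) = R.g φ w := by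
      have h := g_rot_conj hs R φ (2 ^ (k - 1))
      rw [rot_half hs] at h
      exact h
    rw [← conj_secPart hM hind.1 (cenZ_eq (w : G)) φ (Finset.mem_filter.1 hc).2,
      hsec φ c (Finset.mem_filter.1 hc).2, map_mul, hgc]
    ring
  have htot : (2 : ℂ) ^ (k + 1) * S = (pPartCard 2 (cenZ (w : G)) : ℂ) := by
    have h := sum_contrib_self hM (cenZ_eq (w : G)) hx hind.1
    rw [Finset.sum_congr rfl fun φ _ => hcon φ, ← Finset.sum_mul, hrank, Nat.cast_one,
      mul_one] at h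
    rw [← h]
    congr 1
    have hn := R.norm w hw hw1
    rw [hs.card_centralizer_rot w hw hw1, if_pos rfl] at hn
    have hgc : ∀ φ, conj (R.g φ w) = R.g φ w := fun φ => by
      have h' := g_rot_conj hs R φ (2 ^ (k - 1))
      rw [rot_half hs] at h'
      exact h'
    simp only [hgc] at hn
    rw [hn]
    push_cast
    rfl
  have hS : S = (2 : ℂ) ^ minDegVal 2 fz := by
    apply mul_left_cancel₀ (pow_ne_zero (k + 1) (two_ne_zero (α := ℂ)))
    rw [htot, pPartCard, ← blockDefect_add_min (p := 2) (IsPBlock.nonempty hM hind.1), hzd, hd,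
      pow_add]
    push_cast
    rfl
  have hwc : w.1 ∈ cenZ (w : G) := hDz w.2
  have hz : (⟨(w : G), hwc⟩ : cenZ (w : G)) ∈ Subgroup.center (cenZ (w : G)) := by
    rw [Subgroup.mem_center_iff]
    intro c
    exact Subtype.ext (Subgroup.mem_centralizer_singleton_iff.1 ((cenZ_eq (w : G)) ▸ c.2))
  have hnot := contrib_not_LI_of_min hM hind (z := ⟨(w : G), hwc⟩) rfl hz (k := 1)
    (Subtype.ext (by
      rw [Subgroup.coe_pow, pow_one, pow_two]
      exact hs.z_sq)) hχ hχ h0 h0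
  rw [hcon χ, hm, hS] at hnot
  by_contra hodd
  apply hnot
  push_cast
  rw [mul_div_assoc, div_self (pow_ne_zero _ (two_ne_zero (α := ℂ))), mul_one, ← Int.cast_mul,
    LI.intCast_iff hM]
  exact Dvd.dvd.mul_right (by exact_mod_cast (Int.not_odd_iff_even.1 hodd).two_dvd) m

/-- The values at the rotations of order eight in terms of two coefficient vectors. -/
theorem g_order_eight (hs : Shape D 3 (-1) a b) {hP : IsBrauerPair 2 M D e}
    (R : RotData hM hP a) {ω : ℂ} (hω : IsPrimitiveRoot ω (2 * 2 ^ (3 - 1)))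
    {N : IrrCharacter G → ℕ → ℤ}
    (hN : ∀ χ j, ((2 * 2 ^ (3 - 1) : ℕ) : ℂ) * (N χ j : ℂ)
      = ∑ i ∈ Finset.range (2 * 2 ^ (3 - 1)), R.g χ (rot hs i) * ω ^ (i * j)) :
    (ω ^ 3 - ω) ^ 2 = 2 ∧ ∀ χ,
      R.g χ (rot hs 1) = ((N χ 0 - N χ 4 : ℤ) : ℂ) + (ω ^ 3 - ω) * ((N χ 3 - N χ 1 : ℤ) : ℂ) ∧
      R.g χ (rot hs 5) = ((N χ 0 - N χ 4 : ℤ) : ℂ) - (ω ^ 3 - ω) * ((N χ 3 - N χ 1 : ℤ) : ℂ) := by
  have h4 : ω ^ 4 = -1 :=
    (hω.pow (a := 4) (b := 2) (by norm_num) (by norm_num)).eq_neg_one_of_two_right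
  have hs2 : (ω ^ 3 - ω) ^ 2 = 2 := by linear_combination (ω ^ 2 - 2) * h4
  refine ⟨hs2, fun χ => ?_⟩
  have e7 : R.g χ (rot hs 7) = R.g χ (rot hs 1) := g_rot_inv hs R χ (i := 1) (by norm_num)
  have e6 : R.g χ (rot hs 6) = R.g χ (rot hs 2) := g_rot_inv hs R χ (i := 2) (by norm_num)
  have e5 : R.g χ (rot hs 5) = R.g χ (rot hs 3) := g_rot_inv hs R χ (i := 3) (by norm_num)
  have c0 := hN χ 0
  have c1 := hN χ 1
  have c3 := hN χ 3
  have c4 := hN χ 4
  norm_num [Finset.sum_range_succ, e7, e6, e5] at c0 c1 c3 c4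
  push_cast
  rw [e5]
  set g0 := R.g χ (rot hs 0)
  set g1 := R.g χ (rot hs 1)
  set g2 := R.g χ (rot hs 2)
  set g3 := R.g χ (rot hs 3)
  set g4 := R.g χ (rot hs 4)
  have p5 : ω ^ 5 = -ω := by rw [show 5 = 4 + 1 from rfl, pow_add, h4]; ring
  have p6 : ω ^ 6 = -ω ^ 2 := by rw [show 6 = 4 + 2 from rfl, pow_add, h4]; ring
  have p7 : ω ^ 7 = -ω ^ 3 := by rw [show 7 = 4 + 3 from rfl, pow_add, h4]; ring
  have p4 : ω ^ 8 = 1 := by rw [show 8 = 4 * 2 from rfl, pow_mul, h4]; norm_num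
  have p9 : ω ^ 9 = ω := by rw [show 9 = 8 + 1 from rfl, pow_add, p4]; ring
  have p12 : ω ^ 12 = -1 := by rw [show 12 = 4 * 3 from rfl, pow_mul, h4]; norm_num
  have p15 : ω ^ 15 = -ω ^ 3 := by rw [show 15 = 4 * 3 + 3 from rfl, pow_add, pow_mul, h4]; ring
  have p16 : ω ^ 16 = 1 := by rw [show 16 = 4 * 4 from rfl, pow_mul, h4]; norm_num
  have p18 : ω ^ 18 = ω ^ 2 := by rw [show 18 = 4 * 4 + 2 from rfl, pow_add, pow_mul, h4]; ring
  have p20 : ω ^ 20 = -1 := by rw [show 20 = 4 * 5 from rfl, pow_mul, h4]; norm_num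
  have p21 : ω ^ 21 = -ω := by rw [show 21 = 4 * 5 + 1 from rfl, pow_add, pow_mul, h4]; ring
  have p24 : ω ^ 24 = 1 := by rw [show 24 = 4 * 6 from rfl, pow_mul, h4]; norm_num
  have p28 : ω ^ 28 = -1 := by rw [show 28 = 4 * 7 from rfl, pow_mul, h4]; norm_num
  simp only [p4, p9, p12, p15, p18, p21, p5, p6, p7, p16, p20, p24, p28, h4] at c0 c1 c3 c4
  constructor
  · linear_combination (-1 / 8 : ℂ) * c0 + (1 / 8 : ℂ) * c4
      + (-(ω ^ 3 - ω) / 8) * c3 + ((ω ^ 3 - ω) / 8) * c1 + (-(g1 - g3) / 4) * hs2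
  · linear_combination (-1 / 8 : ℂ) * c0 + (1 / 8 : ℂ) * c4
      + ((ω ^ 3 - ω) / 8) * c3 + (-(ω ^ 3 - ω) / 8) * c1 + ((g1 - g3) / 4) * hs2

/-- A block with dihedral defect group. -/
theorem dihedral_invariants (hM : IsPModular 2 M) (hs : Shape D k (-1) a b)
    (hmax : IsMaximalBrauerPair 2 M B D e) :
    Nat.card B = 2 ^ (k - 1) + 3 ∧ 1 ≤ blockRank 2 B ∧ blockRank 2 B ≤ 3 ∧
      Nat.card {χ : IrrCharacter G // χ ∈ B ∧ blockHeight 2 B (χ : G → ℂ) = 0} = 4 ∧
      ∀ χ ∈ B, blockHeight 2 B (χ : G → ℂ) ≤ 1 := by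
  have hB : IsPBlock M B := hmax.1.2.1
  have hd : blockDefect 2 B = k + 1 := Nat.pow_right_injective le_rfl
    ((card_defectGroup hM hB (isDefectGroup_of_isMaximal hM hmax)).symm.trans hs.card)
  obtain ⟨R⟩ := nonempty_rotData hM hs hmax
  have hk := hs.two_le
  obtain ⟨q, hq⟩ : ∃ q, q = 2 ^ (k - 1) := ⟨_, rfl⟩
  have hq2 : 2 ≤ q := hq ▸ Nat.le_self_pow (by omega) 2
  set ω : ℂ := Complex.exp (2 * Real.pi * Complex.I / (2 * 2 ^ (k - 1) : ℕ))
  have hω : IsPrimitiveRoot ω (2 * 2 ^ (k - 1)) :=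
    Complex.isPrimitiveRoot_exp _ (Nat.mul_ne_zero two_ne_zero (pow_ne_zero _ two_ne_zero))
  obtain ⟨N, hN⟩ := exists_coeff hs R hω
  -- the vectors
  let X : ℕ → IrrCharacter G → ℤ := fun j χ => N χ j - N χ 1
  let E : Fin (q - 2) → IrrCharacter G → ℤ := fun i => X (i.1 + 2)
  have hgram : ∀ j l, (j = 0 ∨ 2 ≤ j ∧ j ≤ q) → (l = 0 ∨ 2 ≤ l ∧ l ≤ q) →
      ∑ χ : IrrCharacter G, X j χ * X l χ
        = (if j = l then 1 else 0) + (if j + l = 0 ∨ j + l = 2 * q then 1 else 0) + 1 := by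
    intro j l hj hl
    subst hq
    exact coeff_gram hs hmax R hω hN hj hl
  have hF : ∑ χ, X 0 χ * X 0 χ = 3 := by rw [hgram 0 0 (by omega) (by omega)]; simp
  have hF' : ∑ χ, X q χ * X q χ = 3 := by
    rw [hgram q q (by omega) (by omega), if_pos rfl, if_pos (Or.inr (by omega))]; norm_num
  have hFF : ∑ χ, X 0 χ * X q χ = 1 := by
    rw [hgram 0 q (by omega) (by omega), if_neg (by omega), if_neg (by omega)]; norm_num
  have hEE : ∀ i l, ∑ χ, E i χ * E l χ = if i = l then 2 else 1 := by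
    intro i l
    show ∑ χ, X _ χ * X _ χ = _
    rw [hgram _ _ (by omega) (by omega), if_neg (show ¬ (i.1 + 2 + (l.1 + 2) = 0 ∨
      i.1 + 2 + (l.1 + 2) = 2 * q) by omega)]
    by_cases h : i = l
    · rw [if_pos h, if_pos (by rw [h])]; norm_num
    · rw [if_neg h, if_neg (fun e' => h (Fin.ext (by omega)))]; norm_num
  have hEF : ∀ i, ∑ χ, E i χ * X 0 χ = 1 := by
    intro i
    show ∑ χ, X _ χ * X 0 χ = _
    rw [hgram _ _ (by omega) (by omega), if_neg (by omega), if_neg (by omega)]; norm_num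
  have hEF' : ∀ i, ∑ χ, E i χ * X q χ = 1 := by
    intro i
    show ∑ χ, X _ χ * X q χ = _
    rw [hgram _ _ (by omega) (by omega), if_neg (by omega), if_neg (by omega)]; norm_num
  -- odd at height zero
  have hv0 : ∀ χ ∈ B, degVal 2 χ = minDegVal 2 B → Odd (X 0 χ - X q χ) := by
    intro χ hχ h0
    obtain ⟨m, hm, hpar⟩ := g_half_parity hs R hω hN χ
    have := hpar (odd_g_half hs hmax R hχ h0 hm)
    show Odd (N χ 0 - N χ 1 - (N χ q - N χ 1))
    rwa [hq, sub_sub_sub_cancel_right]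
  obtain ⟨χ₀, hχ₀, hχ₀m⟩ := exists_degVal_eq_min (p := 2) (IsPBlock.nonempty hM hB)
  have hodd : ∃ χ, Odd (X 0 χ - X q χ) := ⟨χ₀, hv0 χ₀ hχ₀ hχ₀m⟩
  have hV4 : ∑ χ, (X 0 χ - X q χ) * (X 0 χ - X q χ) = 4 := by
    rw [Finset.sum_congr rfl (g := fun χ => X 0 χ * X 0 χ + X q χ * X q χ - 2 * (X 0 χ * X q χ))
      fun χ _ => by ring, Finset.sum_sub_distrib, Finset.sum_add_distrib, ← Finset.mul_sum, hF,
      hF', hFF]
    norm_num
  set W : Finset (IrrCharacter G) := Finset.univ.filter (· ∈ B)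
  have hW : W.card = Nat.card B := by
    rw [Nat.card_eq_fintype_card, Fintype.card_subtype]
  set W0 := W.filter fun χ => TwoMajor.ht B χ = 0
  have hW0 : ∀ χ, χ ∈ W0 ↔ χ ∈ B ∧ degVal 2 χ = minDegVal 2 B := by
    intro χ
    simp only [W0, W, Finset.mem_filter, Finset.mem_univ, true_and]
    refine and_congr_right fun hχ => ?_
    have := minDegVal_le (p := 2) hχ
    simp only [TwoMajor.ht]
    omega
  have hk0le : W0.card ≤ 4 := by
    refine le_trans (Finset.card_le_card fun χ hχ => ?_) (RotationLattice.card_odd_le hV4)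
    exact Finset.mem_filter.2 ⟨Finset.mem_univ _, hv0 χ ((hW0 χ).1 hχ).1 ((hW0 χ).1 hχ).2⟩
  -- the count from below
  have hcount : q + 3 ≤ W.card := by
    rcases RotationLattice.config (E := E) hF hF' hFF hEE hEF hEF' hodd with h |
      ⟨hr0, hr2, c, hc, hc', hsep, hsec⟩
    · refine le_trans (by omega) (h.trans (Finset.card_le_card fun χ hχ => ?_))
      refine Finset.mem_filter.2 ⟨Finset.mem_univ _, ?_⟩
      by_contra hχB
      have hz : ∀ j, X j χ = 0 := fun j => sub_eq_zero.2 (coeff_supp hs hmax R hN hχB j)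
      rcases (Finset.mem_filter.1 hχ).2 with h' | h' | ⟨i, h'⟩ <;> exact h' (hz _)
    exfalso
    have hk3 : k = 3 := by
      have h1 : 2 ^ (k - 1) ≤ 4 := by omega
      have h2 : 2 < 2 ^ (k - 1) := by omega
      have h3 : k - 1 ≤ 2 := by
        by_contra hh
        have := Nat.pow_le_pow_right (show 0 < 2 by omega) (show 3 ≤ k - 1 by omega)
        omega
      have h4 : 1 < k - 1 := by
        by_contra hh
        have := Nat.pow_le_pow_right (show 0 < 2 by omega) (show k - 1 ≤ 1 by omega)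
        omega
      omega
    subst hk3
    obtain rfl : q = 4 := hq
    have h01 : ∑ χ, E 0 χ * E 1 χ = 1 := by rw [hEE]; rfl
    obtain ⟨l, v, σ, -, hdv, -, hv1, hEv, hσ, hs1, hs2, hdeg⟩ :=
      RotationLattice.second_sum (E := E) (d := fun χ => charDegree (χ : G → ℂ)) hF hF' h01 hc hc'
        hsep hsec (fun χ _ => charDegree_pos χ) (coeff_deg hs hmax R hN 0) (coeff_deg hs hmax R hN 4)
        fun i => coeff_deg hs hmax R hN _
    have hvodd : Odd (X 0 v - X 4 v) := by rcases hv1 with h | h <;> rw [h] <;> decide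
    have hvB : v ∈ B := by
      by_contra hvB
      have hz : ∀ j, X j v = 0 := fun j => sub_eq_zero.2 (coeff_supp hs hmax R hN hvB j)
      rw [hz, hz, sub_zero] at hvodd
      exact Int.not_odd_zero hvodd
    have hvmin : degVal 2 v = minDegVal 2 B := by
      rw [← hχ₀m]
      have h3 : (charDegree (v : G → ℂ)) = 3 * l := hdv
      rcases hdeg χ₀ (hv0 χ₀ hχ₀ hχ₀m) with h | h
      · change charDegree (χ₀ : G → ℂ) = l at h
        have hl : l ≠ 0 := h ▸ (charDegree_pos χ₀).ne'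
        have h32 : (3 : ℕ).factorization 2 = 0 :=
          Nat.factorization_eq_zero_of_not_dvd (by norm_num)
        simp only [degVal, h3, h, Nat.factorization_mul (by norm_num : (3 : ℕ) ≠ 0) hl,
          Finsupp.add_apply, h32, zero_add]
      · simp only [degVal, h3]
        rw [show charDegree (χ₀ : G → ℂ) = 3 * l from h]
    obtain ⟨r, hr, hg⟩ : ∃ r : ℂ, r ^ 2 = 2 ∧ ∀ χ,
        R.g χ (rot hs 1) = ((N χ 0 - N χ 4 : ℤ) : ℂ) + r * ((N χ 3 - N χ 1 : ℤ) : ℂ) ∧
        R.g χ (rot hs 5) = ((N χ 0 - N χ 4 : ℤ) : ℂ) - r * ((N χ 3 - N χ 1 : ℤ) : ℂ) :=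
      ⟨ω ^ 3 - ω, g_order_eight hs R hω hN⟩
    have key : ∀ v X d : ℂ, (v + r * X) ^ 2 * (v - r * X) / d
        = (v ^ 3 - 2 * v * X ^ 2) / d + r * -(X * (2 * X ^ 2 - v ^ 2) / d) := by
      intro v X d
      rw [← neg_div, mul_div, ← add_div]
      congr 1
      linear_combination (X ^ 2 * (-v - r * X)) * hr
    have hE1 : ∀ χ, E 1 χ = N χ 3 - N χ 1 := fun χ => rfl
    have hX04 : ∀ χ, X 0 χ - X 4 χ = N χ 0 - N χ 4 := fun χ => sub_sub_sub_cancel_right _ _ _
    have hgv : ∀ s : ℂ, (((N v 0 - N v 4 : ℤ) : ℂ) + s * ((N v 3 - N v 1 : ℤ) : ℂ)) = 1 ∨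
        (((N v 0 - N v 4 : ℤ) : ℂ) + s * ((N v 3 - N v 1 : ℤ) : ℂ)) = -1 := fun s => by
      rw [← hX04, ← hE1, hEv]
      rcases hv1 with h | h <;> rw [h] <;> simp
    refine false_of_triple hM hs hmax R hvB hvmin hdv (w₁ := rot hs 1) (w₅ := rot hs 5)
      ((coe_rot hs 1).trans (pow_one a)) (coe_rot hs 5) ((hg v).1 ▸ hgv r)
      (by rw [(hg v).2, sub_eq_add_neg, ← neg_mul]; exact hgv (-r)) hσ ?_
    rw [← add_zero ((σ : ℂ) * 4 / (3 * (l : ℂ))), ← mul_zero r, ← hs1, ← neg_zero, ← hs2,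
      ← Finset.sum_neg_distrib, Finset.mul_sum, ← Finset.sum_add_distrib]
    refine Finset.sum_congr rfl fun χ _ => ?_
    rw [(hg χ).1, (hg χ).2, irr_one_eq, hX04, hE1, key]
    push_cast
    ring
  -- the weights at the central involution
  let zD : D := ⟨zinv k a, hs.z_mem⟩
  have hzA : (zD : G) ∈ Subgroup.zpowers a := Subgroup.pow_mem _ (Subgroup.mem_zpowers a) _
  have hz1 : zD ≠ 1 := fun h => hs.z_ne_one (congrArg Subtype.val h)
  have hDz : D ≤ cenZ (zD : G) := fun x hx => by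
    rw [cenZ_eq, Subgroup.mem_centralizer_singleton_iff]
    exact hs.z_comm hx
  have hel : ∀ w : D, IsElemOf 2 M B (bel hM hmax.1.1 w) := fun w =>
    isElemOf_of_below hM hmax (bel_below hM hmax.1.1 w)
  obtain ⟨fz, hindz, hzd, hrk⟩ : ∃ fz : Set (IrrCharacter (cenZ (zD : G))),
      IsInducedBlock M (cenZ (zD : G)) fz B ∧ blockDefect 2 fz = blockDefect 2 B ∧
        blockRank 2 fz = 1 :=
    ⟨(bel hM hmax.1.1 zD).2, (isBrauerPairOf_iff_induced hM (hel zD).1.1 (hel zD).1.2).1 (hel zD),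
      (exists_maximal_nest hM hmax zD hDz).1, R.rank zD hzA hz1⟩
  obtain ⟨dat⟩ := TwoMajor.nonempty_data hM (cenZ_eq (zD : G))
    ⟨1, by rw [hs.orderOf_z, pow_one]⟩ hindz hzd
  have hpos : ∀ χ ∈ W, TwoMajor.ht B χ ≠ 0 → 2 ^ (TwoMajor.ht B χ + 1) ≤ dat.a χ := by
    intro χ hχ hh
    have hχB : χ ∈ B := (Finset.mem_filter.1 hχ).2
    refine Nat.le_of_dvd (Nat.pos_of_ne_zero fun h0 => ?_) (dat.dvd_a χ hχB hh)
    have h1 := dat.low χ hχB χ₀ hχ₀ (by simp [TwoMajor.ht, hχ₀m])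
    have h2 := dat.idem χ
    rw [h0, mul_zero, Finset.sum_eq_zero_iff] at h2
    rw [h2 χ₀ (Finset.mem_univ _)] at h1
    exact absurd h1 (Nat.not_le.2 (pow_pos (by norm_num) _))
  have hweight : ∀ χ ∈ W, (if TwoMajor.ht B χ = 0 then 1 else 4) ≤ dat.a χ := by
    intro χ hχ
    split_ifs with hh
    · exact (dat.odd_a χ (Finset.mem_filter.1 hχ).2 hh).pos
    · exact le_trans (Nat.pow_le_pow_right (n := 2) (by omega)
        (show 2 ≤ TwoMajor.ht B χ + 1 by omega)) (hpos χ hχ hh)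
  have hsum_a : ∑ χ ∈ W, dat.a χ = 4 * q := by
    rw [dat.sum_a, hrk, hd, one_mul, hq, pow_succ, ← two_pow_mul (by omega : 1 ≤ k)]
    ring
  have hsplit := Finset.card_filter_add_card_filter_not (s := W) fun χ => TwoMajor.ht B χ = 0
  have hwsum : ∑ χ ∈ W, (if TwoMajor.ht B χ = 0 then 1 else 4)
      = W0.card + 4 * (W.filter fun χ => ¬ TwoMajor.ht B χ = 0).card := by
    rw [Finset.sum_ite, Finset.sum_const, Finset.sum_const, smul_eq_mul, smul_eq_mul, mul_one,
      mul_comm 4]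
  have hle := (Finset.sum_le_sum hweight).trans_eq hsum_a
  rw [hwsum] at hle
  change W0.card + (W.filter fun χ => ¬ TwoMajor.ht B χ = 0).card = W.card at hsplit
  have hWc : W.card = q + 3 := by omega
  have hW0c : W0.card = 4 := by omega
  have htight : ∀ χ ∈ W, (if TwoMajor.ht B χ = 0 then 1 else 4) = dat.a χ :=
    (Finset.sum_eq_sum_iff_of_le hweight).1 (by rw [hwsum, hsum_a]; omega)
  refine ⟨by rw [← hW, hWc, hq], DegreeTools.DeficiencyOne.one_le_blockRank hM hB, ?_, ?_, ?_⟩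
  · -- the subsections
    have hlt : ∀ i ∈ Finset.Icc 1 q, i < 2 * 2 ^ (k - 1) := fun i hi => by
      rw [Finset.mem_Icc] at hi; omega
    have hinj : Set.InjOn (fun i => bel hM hmax.1.1 (rot hs i)) (Finset.Icc 1 q : Set ℕ) := by
      intro i hi i' hi' h
      have h' : (rot hs i : G) = (rot hs i' : G) := congrArg Sigma.fst h
      rw [coe_rot, coe_rot] at h'
      exact pow_injOn_Iio_orderOf (Set.mem_Iio.2 (order_rot hs ▸ hlt i hi))
        (Set.mem_Iio.2 (order_rot hs ▸ hlt i' hi')) h'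
    have hcnt := rank_add_card_le hM hB ((Finset.Icc 1 q).image fun i => bel hM hmax.1.1 (rot hs i))
      (fun x hx => by obtain ⟨i, -, rfl⟩ := Finset.mem_image.1 hx; exact hel _)
      (fun x hx => by
        obtain ⟨i, hi, rfl⟩ := Finset.mem_image.1 hx
        intro h
        exact rot_ne_one hs (Finset.mem_Icc.1 hi).1 (hlt i hi) (Subtype.ext h))
      (fun x hx x' hx' y hy => by
        obtain ⟨i, hi, rfl⟩ := Finset.mem_image.1 hx
        obtain ⟨i', hi', rfl⟩ := Finset.mem_image.1 hx'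
        rcases rot_fused hM hs hmax (rot hs i) (rot hs i') (rot_mem hs i) (rot_mem hs i') hy with
          h | h <;> rw [coe_rot, coe_rot] at h
        · rw [pow_injOn_Iio_orderOf (x := a) (Set.mem_Iio.2 (order_rot hs ▸ hlt i hi))
            (Set.mem_Iio.2 (order_rot hs ▸ hlt i' hi')) h.symm]
        · obtain ⟨c, hc⟩ := orderOf_dvd_of_pow_eq_one
            (show a ^ (i' + i) = 1 by rw [pow_add, h, inv_mul_cancel])
          rw [order_rot hs, ← hq] at hc
          rw [Finset.mem_Icc] at hi hi'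
          rcases Nat.lt_or_ge c 2 with hc2 | hc2
          · have : i = i' := by interval_cases c <;> omega
            rw [this]
          · have := Nat.mul_le_mul_left (2 * q) hc2
            omega)
    rw [Finset.card_image_of_injOn hinj, Nat.card_Icc, ← hW, hWc] at hcnt
    omega
  · rw [← hW0c, Nat.card_eq_fintype_card, Fintype.card_subtype]
    congr 1
    ext χ
    rw [hW0 χ, Finset.mem_filter]
    simp only [Finset.mem_univ, true_and]
    exact and_congr_right fun hχ => blockHeight_eq_zero_iff hχ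
  · intro χ hχ
    rw [blockHeight_eq]
    by_contra hh
    have hht : ¬ TwoMajor.ht B χ = 0 := by simp only [TwoMajor.ht]; omega
    have hχW : χ ∈ W := Finset.mem_filter.2 ⟨Finset.mem_univ _, hχ⟩
    have h1 := hpos χ hχW hht
    rw [← htight χ hχW, if_neg hht] at h1
    have : 2 ^ 3 ≤ 2 ^ (TwoMajor.ht B χ + 1) :=
      Nat.pow_le_pow_right (by omega) (by simp only [TwoMajor.ht]; omega)
    omega

end CfsgLib.Blocks.TameDefect
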