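import Cfsg.Agent.Lib.Blocks.TameDefect.Nested
import Cfsg.Agent.Lib.Blocks.TameDefect.DihedralRank
import Cfsg.Agent.Lib.Blocks.FreeAbelianCounts.Orth

/-!
# The columns of decomposition numbers at the rotations of a dihedral defect group

The block of the centralizer of the central involution is nilpotent, so the contributions at the
nonidentity rotations are given by one character of the defect group for each character of the
group.
-/

set_option autoImplicit false
set_option maxHeartbeats 1600000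

namespace CfsgLib.Blocks.TameDefect

open Cfsg CfsgLib.Blocks CfsgLib.BrauerPairs CfsgLib.BrouePuig
open scoped Classical ComplexConjugate

universe u

variable {G : Type u} [Group G] {D : Subgroup G} {k : ℕ} {a b : G}

/-- The central involution is a power of every nontrivial rotation. -/
theorem Shape.z_mem_zpowers [Finite G] {e : ℤ} (hs : Shape D k e a b) {w : G}
    (hw : w ∈ Subgroup.zpowers a) (hw1 : w ≠ 1) : zinv k a ∈ Subgroup.zpowers w := by
  obtain ⟨m, -, hm⟩ := (Nat.dvd_prime_pow Nat.prime_two).1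
    (hs.ord_a ▸ orderOf_dvd_of_mem_zpowers hw : orderOf w ∣ 2 ^ k)
  have hm1 : 1 ≤ m := by
    rcases Nat.eq_zero_or_pos m with h0 | h0
    · rw [h0, pow_zero, orderOf_eq_one_iff] at hm
      exact absurd hm hw1
    · exact h0
  have hne : w ^ 2 ^ (m - 1) ≠ 1 := pow_ne_one_of_lt_orderOf (Nat.two_pow_pos _).ne' (by
    rw [hm]; exact Nat.pow_lt_pow_right (by omega) (by omega))
  have hsq : w ^ 2 ^ (m - 1) * w ^ 2 ^ (m - 1) = 1 := by
    rw [← pow_add, ← two_mul, mul_comm, two_pow_mul hm1, ← hm, pow_orderOf_eq_one]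
  rw [← (hs.eq_of_sq_zpowers (Subgroup.pow_mem _ hw _) hsq).resolve_left hne]
  exact Subgroup.pow_mem _ (Subgroup.mem_zpowers w) _

/-- The centralizer of a nontrivial rotation centralizes the central involution. -/
theorem Shape.cenZ_le [Fintype G] {e : ℤ} (hs : Shape D k e a b) {w : G}
    (hw : w ∈ Subgroup.zpowers a) (hw1 : w ≠ 1) : cenZ w ≤ cenZ (zinv k a) :=
  CfsgLib.BrouePuig.centralizer_le_centralizer
    (Subgroup.zpowers_le.2 (hs.z_mem_zpowers hw hw1))

/-- The order of the centralizer of a nontrivial rotation in the defect group. -/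
theorem Shape.card_centralizer_rot [Finite G] (hs : Shape D k (-1) a b) (w : D)
    (hw : (w : G) ∈ Subgroup.zpowers a) (hw1 : w ≠ 1) :
    Nat.card (Subgroup.centralizer ({w} : Set D))
      = if (w : G) = zinv k a then 2 ^ (k + 1) else 2 ^ k := by
  split_ifs with hz
  · rw [← hs.card, show Subgroup.centralizer ({w} : Set D) = ⊤ from ?_, Subgroup.card_top]
    refine eq_top_iff.2 fun v _ => ?_
    rw [Subgroup.mem_centralizer_singleton_iff]
    exact Subtype.ext (by
      show (v : G) * (w : G) = (w : G) * (v : G)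
      rw [hz]
      exact (hs.z_comm v.2))
  · rw [← hs.ord_a, ← Nat.card_zpowers]
    refine Nat.card_congr
      { toFun := fun v => ⟨((v : D) : G), ?_⟩
        invFun := fun v => ⟨⟨(v : G), hs.zpowers_le v.2⟩, ?_⟩
        left_inv := fun v => rfl
        right_inv := fun v => rfl }
    · by_contra hv
      have hc : ((v : D) : G) * (w : G) * ((v : D) : G)⁻¹ = (w : G) :=
        mul_inv_eq_iff_eq_mul.2 (congrArg Subtype.val (Subgroup.mem_centralizer_singleton_iff.1 v.2))
      obtain ⟨j, hj⟩ := Subgroup.mem_zpowers_iff.1 hw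
      rw [← hj, hs.conj_zpow (v : D).2 hv] at hc
      rcases hs.zpow_fixed hc.symm with h | h
      · exact hw1 (Subtype.ext (by rw [← hj, h]; rfl))
      · exact hz (by rw [← hj, h])
    · rw [Subgroup.mem_centralizer_singleton_iff]
      obtain ⟨i, hi⟩ := Subgroup.mem_zpowers_iff.1 v.2
      obtain ⟨j, hj⟩ := Subgroup.mem_zpowers_iff.1 hw
      exact Subtype.ext (by
        show (v : G) * (w : G) = (w : G) * (v : G)
        rw [← hi, ← hj, ← zpow_add, ← zpow_add, add_comm])

/-- A class function of the defect group takes equal values at inverse rotations. -/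
theorem Shape.class_inv [Finite G] (hs : Shape D k (-1) a b) {F : D → ℂ}
    (hF : IsClassFunction D F) (w : D) (hw : (w : G) ∈ Subgroup.zpowers a) : F w⁻¹ = F w := by
  obtain ⟨j, hj⟩ := Subgroup.mem_zpowers_iff.1 hw
  have : (⟨b, hs.b_mem⟩ : D) * w * (⟨b, hs.b_mem⟩ : D)⁻¹ = w⁻¹ := Subtype.ext (by
    show b * (w : G) * b⁻¹ = ((w : G))⁻¹
    rw [← hj, hs.conj_zpow hs.b_mem hs.b_notMem, mul_neg_one, zpow_neg])
  rw [← this, hF]

variable [Fintype G] {M : Ideal AlgInt} {B : Set (IrrCharacter G)}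
  {e : Set (IrrCharacter (Subgroup.centralizer (D : Set G)))}

/-- The block at the central involution is nilpotent. -/
theorem isNilpotent_central [Fact (Nat.Prime 2)] (hM : IsPModular 2 M) {H : Type*} [Group H]
    [Fintype H] {fz : Set (IrrCharacter H)} {D' : Subgroup H} {a' b' : H}
    (hs : Shape D' k (-1) a' b') (hz : zinv k a' ∈ Subgroup.center H)
    {e' : Set (IrrCharacter (Subgroup.centralizer (D' : Set H)))}
    (hmax : IsMaximalBrauerPair 2 M fz D' e') : IsNilpotentBlock 2 M fz := by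
  refine ⟨hmax.1.2.1, fun Q f hQ x hxN _ hreg => ?_⟩
  obtain ⟨g, hg⟩ := exists_conj_subpairLE hM hmax hQ
  have hle := subgroup_le_of_subpairLE hg
  have hodd : Odd (orderOf (g * x * g⁻¹)) := by
    have h1 : orderOf (g * x * g⁻¹) = orderOf x := MulEquiv.orderOf_eq (MulAut.conj g) x
    rw [h1, ← Nat.not_even_iff_odd, even_iff_two_dvd]
    exact hreg
  have hN : g * x * g⁻¹ ∈ Subgroup.normalizer
      ((Q.map (MulAut.conj g).toMonoidHom : Subgroup H) : Set H) := mem_normalizer_map_conj.2 hxN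
  have hc := hs.odd_centralizes hle hN (Subgroup.mem_center_iff.1 hz _) hodd
  refine Subgroup.mem_centralizer_iff.2 fun q hq => ?_
  have := Subgroup.mem_centralizer_iff.1 hc (g * q * g⁻¹) ⟨q, hq, rfl⟩
  calc q * x = g⁻¹ * (g * q * g⁻¹ * (g * x * g⁻¹)) * g := by group
    _ = g⁻¹ * (g * x * g⁻¹ * (g * q * g⁻¹)) * g := by rw [this]
    _ = x * q := by group

/-- The columns at the rotations. -/
structure RotData (hM : IsPModular 2 M) (hP : IsBrauerPair 2 M D e) (a : G) [Fact (Nat.Prime 2)] where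
  g : IrrCharacter G → D → ℂ
  char : ∀ χ, IsCharacter D (g χ)
  scal : D → ℂ
  rank : ∀ w : D, (w : G) ∈ Subgroup.zpowers a → w ≠ 1 → blockRank 2 (bel hM hP w).2 = 1
  scal_ne : ∀ w : D, (w : G) ∈ Subgroup.zpowers a → w ≠ 1 → scal w ≠ 0
  sec : ∀ w : D, (w : G) ∈ Subgroup.zpowers a → w ≠ 1 → ∀ χ : IrrCharacter G,
    secPart (w : G) (cenZ (w : G)) (bel hM hP w).2 χ 1 = g χ w * scal w
  norm : ∀ w : D, (w : G) ∈ Subgroup.zpowers a → w ≠ 1 →
    ∑ χ : IrrCharacter G, g χ w * conj (g χ w)
      = (Nat.card (Subgroup.centralizer ({w} : Set D)) : ℂ)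

theorem nonempty_rotData [Fact (Nat.Prime 2)] (hM : IsPModular 2 M) (hs : Shape D k (-1) a b)
    (hmax : IsMaximalBrauerPair 2 M B D e) : Nonempty (RotData hM hmax.1.1 a) := by
  set hP := hmax.1.1
  set zD : D := ⟨zinv k a, hs.z_mem⟩
  set H : Subgroup G := cenZ (zD : G) with hH
  have hDH : D ≤ H := fun x hx => by
    rw [hH, cenZ_eq, Subgroup.mem_centralizer_singleton_iff]
    exact hs.z_comm hx
  set fz : Set (IrrCharacter H) := (bel hM hP zD).2
  set D' := D.subgroupOf H
  obtain ⟨e', hmax', hec⟩ : ∃ e' : Set (IrrCharacter (Subgroup.centralizer (D' : Set H))),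
      IsMaximalBrauerPair 2 M fz D' e' ∧
        ∀ x : H, subgroupBlockCoeff (Subgroup.centralizer (D' : Set H)) e' x
          = subgroupBlockCoeff (Subgroup.centralizer (D : Set G)) e (x : G) :=
    (exists_maximal_nest hM hmax zD hDH).2
  have hs' : Shape D' k (-1) (⟨a, hDH hs.a_mem⟩ : H) ⟨b, hDH hs.b_mem⟩ := hs.subgroupOf hDH
  have hzc : zinv k (⟨a, hDH hs.a_mem⟩ : H) ∈ Subgroup.center H := by
    refine Subgroup.mem_center_iff.2 fun v => Subtype.ext ?_
    simp only [zinv, Subgroup.coe_mul, SubmonoidClass.coe_pow]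
    have h1 := Subgroup.mem_centralizer_iff.1 v.2 (zinv k a) (Subgroup.mem_zpowers _)
    exact h1.symm
  have hnil : IsNilpotentBlock 2 M fz := isNilpotent_central hM hs' hzc hmax'
  obtain ⟨χ₀, hχ₀, h0, Φ, hΦ⟩ := exists_param_star hM hnil hmax'
  set hP' := hmax'.1.1
  let j : D →* D' := (Subgroup.subgroupOfEquivOfLe hDH).symm.toMonoidHom
  let g : IrrCharacter G → D → ℂ := fun χ w =>
    ∑ θ : IrrCharacter D', resMult χ (Φ θ : IrrCharacter H) * (θ : D' → ℂ) (j w)
  have hchar : ∀ χ, IsCharacter D (g χ) := fun χ => by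
    have hsum := Char.isCharacter_sum (Finset.univ : Finset (IrrCharacter D'))
      (fun θ w => resMult χ (Φ θ : IrrCharacter H) * (θ : D' → ℂ) (j w)) fun θ _ => by
        obtain ⟨n, hn⟩ := resMult_nat χ (Φ θ : IrrCharacter H)
        have h := Char.IsCharacter.nsmul (Char.IsCharacter.comp (Char.isCharacter_irr θ) j) n
        convert h using 1
        funext w
        simp [hn]
    convert hsum using 1
    funext w
    simp [g, Finset.sum_apply]
  let u : D → H := fun w => ⟨(w : G), hDH w.2⟩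
  let f' : (w : D) → Set (IrrCharacter (cenZ (u w))) := fun w => (bel hM hP' (j w)).2
  let fG : (w : D) → Set (IrrCharacter (cenZ (w : G))) := fun w => (bel hM hP w).2
  let σ : D → ℂ := fun w => secPart (u w) (cenZ (u w)) (f' w) χ₀ 1
  -- the data at one rotation
  have key : ∀ w : D, (w : G) ∈ Subgroup.zpowers a → w ≠ 1 →
      blockRank 2 (fG w) = 1 ∧ σ w ≠ 0 ∧
      (∀ χ : IrrCharacter G,
        secPart (w : G) (cenZ (w : G)) (fG w) χ 1 = g χ w * σ w) ∧
      ∑ χ : IrrCharacter G, g χ w * conj (g χ w)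
        = (Nat.card (Subgroup.centralizer ({w} : Set D)) : ℂ) := by
    intro w hw hw1
    have hle : cenZ (w : G) ≤ H := hs.cenZ_le hw (fun h => hw1 (Subtype.ext h))
    have hiff : ∀ x : H, (x : G) ∈ cenZ ((u w : H) : G) ↔ x ∈ cenZ (u w) :=
      coe_mem_centralizer_iff (R := Subgroup.zpowers (u w)) (by rw [MonoidHom.map_zpowers]; rfl)
    set φ := nestIso (H := H) hle hiff with hφ
    have hfeq : f' w = irrEquiv φ '' fG w := bc_injective _ (funext fun x =>
      (bc_bel_nest hM hDH hP hP' hec w hle x).trans (bc_image_nestIso hle hiff _ x).symm)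
    have ha' : IsElemOf 2 M fz (bel hM hP' (j w)) :=
      isElemOf_of_below hM hmax' (bel_below hM hP' (j w))
    have hx' : ∃ m : ℕ, orderOf (u w) = 2 ^ m := (mem_elems.1 (ha'.mem hM.1)).1
    have hb' : IsPBlock M (f' w) := (mem_elems.1 (ha'.mem hM.1)).2
    have hind' : IsInducedBlock M (cenZ (u w)) (f' w) fz :=
      (isBrauerPairOf_iff_induced hM ha'.1.1 ha'.1.2).1 ha'
    have hone : ¬ 2 ∣ orderOf (1 : cenZ (u w)) := FreeAbelianCounts.one_regular hM.1
    have hbel : bel hM hP' (j w) = (⟨u w, f' w⟩ : BElem H) := rfl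
    have hθ : ∀ (θ : IrrCharacter D') (c : cenZ (u w)), ¬ 2 ∣ orderOf c →
        secPart (u w) (cenZ (u w)) (f' w) (Φ θ : IrrCharacter H) c
          = (θ : D' → ℂ) (j w) * secPart (u w) (cenZ (u w)) (f' w) χ₀ c := by
      intro θ c hc
      refine (secPart_star _ χ₀ _ (hΦ θ) hx' hb' hc).trans ?_
      congr 1
      exact etaOf_bel hM hP' (stable_of_class hM hnil hmax'
        (Char.IsIrrCharacter.isClassFunction θ.2)) (j w)
    have hzero : ∀ (ψ : IrrCharacter H), ψ ∉ fz → ∀ c : cenZ (u w), ¬ 2 ∣ orderOf c →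
        secPart (u w) (cenZ (u w)) (f' w) ψ c = 0 := fun ψ hψ c hc =>
      secPart_eq_zero_of_notMem hM (cenZ_eq (u w)) hx' hind' hψ hc
    have hsum : ∀ F : IrrCharacter H → ℂ, (∀ ψ, ψ ∉ fz → F ψ = 0) →
        ∑ ψ : IrrCharacter H, F ψ = ∑ θ : IrrCharacter D', F (Φ θ : IrrCharacter H) := by
      intro F hF
      rw [← Finset.sum_subset (Finset.subset_univ fz.toFinset) fun ψ _ hψ =>
        hF ψ fun h => hψ (Set.mem_toFinset.2 h), ← Finset.sum_coe_sort]
      exact (Fintype.sum_equiv (Φ.trans (Equiv.subtypeEquivRight fun x =>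
        (Set.mem_toFinset (s := fz) (a := x)).symm)) _ _ fun θ => rfl).symm
    -- one Brauer character
    have hcardC : (Nat.card (Subgroup.centralizer ({j w} : Set D')) : ℂ)
        = (Nat.card (Subgroup.centralizer ({w} : Set D)) : ℂ) := by
      rw [← card_centralizer_equiv (Subgroup.subgroupOfEquivOfLe hDH).symm w]
      rfl
    have horth : ∑ θ : IrrCharacter D', (θ : D' → ℂ) (j w) * conj ((θ : D' → ℂ) (j w))
        = (Nat.card (Subgroup.centralizer ({w} : Set D)) : ℂ) := by
      rw [← hcardC, Char.sum_irr_mul_conj, if_pos (IsConj.refl _)]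
    set S : ℂ := ∑ c : cenZ (u w) with IsPRegular 2 c,
      secPart (u w) (cenZ (u w)) (f' w) χ₀ c * conj (secPart (u w) (cenZ (u w)) (f' w) χ₀ c)
      with hS_def
    have hS : (Nat.card (Subgroup.centralizer ({w} : Set D)) : ℂ) * S
        = (Nat.card (cenZ (u w)) : ℂ) := by
      have h := ratio_mul_secInner_eq_one hM hnil hmax' hχ₀ h0 (j w)
      rw [hbel, secInner] at h
      rw [ratio, hcardC, show ((j w : D') : H) = u w from rfl, ← cenZ_eq (u w)] at h
      have hne : (Nat.card (cenZ (u w)) : ℂ) ≠ 0 := Char.card_ne_zero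
      calc (Nat.card (Subgroup.centralizer ({w} : Set D)) : ℂ) * S
          = (Nat.card (cenZ (u w)) : ℂ) * ((Nat.card (Subgroup.centralizer ({w} : Set D)) : ℂ) *
              (Nat.card (cenZ (u w)) : ℂ)⁻¹ * S) := by field_simp
        _ = _ := by rw [h, mul_one]
    have hrank : blockRank 2 (f' w) = 1 := by
      have h := sum_secInner hM (B := fz) (a := (⟨u w, f' w⟩ : BElem H)) (hbel ▸ ha')
      simp only [secInner] at h
      rw [Finset.sum_subset (Finset.subset_univ fz.toFinset) (fun ψ _ hψ =>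
          Finset.sum_eq_zero fun c hc => by
            rw [hzero ψ (fun h => hψ (Set.mem_toFinset.2 h)) c (Finset.mem_filter.1 hc).2,
              zero_mul]),
        hsum _ (fun ψ hψ => Finset.sum_eq_zero fun c hc => by
          rw [hzero ψ hψ c (Finset.mem_filter.1 hc).2, zero_mul]),
        Finset.sum_congr rfl (g := fun θ : IrrCharacter D' =>
          (θ : D' → ℂ) (j w) * conj ((θ : D' → ℂ) (j w)) * S) fun θ _ => by
          rw [hS_def, Finset.mul_sum]
          refine Finset.sum_congr rfl fun c hc => ?_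
          rw [hθ θ c (Finset.mem_filter.1 hc).2, map_mul]
          ring, ← Finset.sum_mul, horth, hS] at h
      have h2 : (Nat.card (cenZ (u w)) : ℂ) * 1
          = (Nat.card (cenZ (u w)) : ℂ) * (blockRank 2 (f' w) : ℂ) := by rw [mul_one]; exact h
      exact_mod_cast (mul_left_cancel₀ Char.card_ne_zero h2).symm
    have hrank' : blockRank 2 (fG w) = 1 := by
      rw [← hrank, hfeq, blockRank_image]
    have hσ : σ w ≠ 0 := by
      intro h0'
      obtain ⟨θ₀, hθ₀⟩ := IsPBlock.nonempty hM hb'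
      have hS0 : S = 0 := by
        refine Finset.sum_eq_zero fun c hc => ?_
        have h := secPart_prop hM.1 (cenZ_eq (u w)) hrank χ₀ hθ₀ (Finset.mem_filter.1 hc).2
        rw [show secPart (u w) (cenZ (u w)) (f' w) χ₀ 1 = 0 from h0', zero_mul, mul_eq_zero] at h
        rw [h.resolve_right (irr_one_ne_zero θ₀), zero_mul]
      rw [hS0, mul_zero] at hS
      exact Char.card_ne_zero hS.symm
    have hsec : ∀ χ : IrrCharacter G,
        secPart (w : G) (cenZ (w : G)) (fG w) χ 1 = g χ w * σ w := by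
      intro χ
      have h := secPart_nest hle hiff (fG w) χ (1 : cenZ (u w))
      rw [map_one] at h
      refine h.trans ?_
      rw [← hfeq, hsum _ fun ψ hψ => by rw [hzero ψ hψ 1 hone, mul_zero]]
      simp only [g, Finset.sum_mul]
      exact Finset.sum_congr rfl fun θ _ => by rw [hθ θ 1 hone, ← mul_assoc]
    refine ⟨hrank', hσ, hsec, ?_⟩
    -- orthogonality
    have hx : ∃ m : ℕ, orderOf (w : G) = 2 ^ m := by
      obtain ⟨m, hm⟩ := IsPGroup.iff_orderOf.1 (IsPGroup.of_card (p := 2) hs.card) w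
      exact ⟨m, by rw [← hm, Subgroup.orderOf_coe]⟩
    have hbw : IsPBlock M (fG w) := (isElemOf_of_below hM hmax (bel_below hM hP w)).1.2
    have honeG : ¬ 2 ∣ orderOf (1 : cenZ (w : G)) := FreeAbelianCounts.one_regular hM.1
    have hG := sum_secPart_mul hM (cenZ_eq (w : G)) hx hbw honeG honeG
    have hH' := sum_secPart_mul hM (cenZ_eq (u w)) hx' hb' hone hone
    have hker : blockKernel (f' w) (1 : cenZ (u w)) 1
        = blockKernel (fG w) (1 : cenZ (w : G)) 1 := by
      rw [hfeq, blockKernel_image, map_one]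
    rw [Finset.sum_congr rfl fun χ _ => by
      rw [← conj_secPart hM hbw (cenZ_eq (w : G)) χ honeG, hsec χ, map_mul,
        show g χ w * σ w * (conj (g χ w) * conj (σ w))
          = g χ w * conj (g χ w) * (σ w * conj (σ w)) by ring], ← Finset.sum_mul] at hG
    apply mul_right_cancel₀ (mul_ne_zero hσ ((map_ne_zero conj).2 hσ))
    rw [hG, ← hker, ← hH', ← horth, Finset.sum_mul,
      hsum _ fun ψ hψ => by rw [hzero ψ hψ 1 hone, zero_mul]]
    refine Finset.sum_congr rfl fun θ _ => ?_
    rw [← conj_secPart hM hb' (cenZ_eq (u w)) (Φ θ : IrrCharacter H) hone, hθ θ 1 hone, map_mul]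
    simp only [σ]
    ring
  exact ⟨⟨g, hchar, σ, fun w hw h1 => (key w hw h1).1, fun w hw h1 => (key w hw h1).2.1,
    fun w hw h1 => (key w hw h1).2.2.1, fun w hw h1 => (key w hw h1).2.2.2⟩⟩

end CfsgLib.Blocks.TameDefect
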