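import Cfsg.Agent.Lib.Blocks.TameDefect.RotationColumns

/-!
# The Fourier coefficients of the columns at the rotations

The columns at the rotations are the values of characters of the cyclic group of rotations, so their
Fourier coefficients are integers; the differences with the first coefficient form vectors with all
inner products one off the diagonal.
-/

set_option autoImplicit false
set_option maxHeartbeats 800000

namespace CfsgLib.Blocks.TameDefect

open Cfsg CfsgLib.Blocks CfsgLib.BrauerPairs CfsgLib.BrouePuig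
open scoped Classical ComplexConjugate

universe u

theorem sum_root_pow {n : ℕ} {ω : ℂ} (hω : IsPrimitiveRoot ω n) (t : ℕ) :
    ∑ i ∈ Finset.range n, ω ^ (i * t) = if n ∣ t then (n : ℂ) else 0 := by
  simp only [mul_comm _ t, pow_mul]
  split_ifs with h
  · obtain ⟨c, rfl⟩ := h
    simp [pow_mul, hω.pow_eq_one]
  · have h1 : ω ^ t ≠ 1 := fun e => h (hω.pow_eq_one_iff_dvd t |>.1 e)
    rw [geom_sum_eq h1, ← pow_mul, mul_comm, pow_mul, hω.pow_eq_one, one_pow, sub_self, zero_div]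

variable {G : Type u} [Group G] [Fintype G] {M : Ideal AlgInt} {B : Set (IrrCharacter G)}
  {D : Subgroup G} {k : ℕ} {a b : G}
  {e : Set (IrrCharacter (Subgroup.centralizer (D : Set G)))}

/-- The powers of the generating rotation. -/
def rot (hs : Shape D k (-1) a b) (i : ℕ) : D := (⟨a, hs.a_mem⟩ : D) ^ i

omit [Fintype G] in
theorem coe_rot (hs : Shape D k (-1) a b) (i : ℕ) : (rot hs i : G) = a ^ i := by
  simp [rot]

omit [Fintype G] in
theorem rot_mem (hs : Shape D k (-1) a b) (i : ℕ) : (rot hs i : G) ∈ Subgroup.zpowers a :=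
  coe_rot hs i ▸ Subgroup.pow_mem _ (Subgroup.mem_zpowers a) i

omit [Fintype G] in
theorem order_rot (hs : Shape D k (-1) a b) : orderOf a = 2 * 2 ^ (k - 1) := by
  rw [hs.ord_a, mul_comm, two_pow_mul (by have := hs.two_le; omega)]

omit [Fintype G] in
theorem rot_ne_one (hs : Shape D k (-1) a b) {i : ℕ} (h0 : 0 < i) (hi : i < 2 * 2 ^ (k - 1)) :
    rot hs i ≠ 1 := fun h =>
  pow_ne_one_of_lt_orderOf h0.ne' (order_rot hs ▸ hi)
    ((coe_rot hs i).symm.trans (congrArg Subtype.val h))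

omit [Fintype G] in
theorem rot_inv (hs : Shape D k (-1) a b) {i : ℕ} (hi : i ≤ 2 * 2 ^ (k - 1)) :
    rot hs (2 * 2 ^ (k - 1) - i) = (rot hs i)⁻¹ :=
  eq_inv_of_mul_eq_one_left (Subtype.ext (by
    rw [Subgroup.coe_mul, coe_rot, coe_rot, ← pow_add, Nat.sub_add_cancel hi, ← order_rot hs,
      pow_orderOf_eq_one]
    rfl))

omit [Fintype G] in
theorem rot_half (hs : Shape D k (-1) a b) :
    rot hs (2 ^ (k - 1)) = (⟨zinv k a, hs.z_mem⟩ : D) :=
  Subtype.ext (coe_rot hs _)

variable [Fact (Nat.Prime 2)] {hM : IsPModular 2 M}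

theorem g_rot_inv (hs : Shape D k (-1) a b) {hP : IsBrauerPair 2 M D e} (R : RotData hM hP a)
    (χ : IrrCharacter G) {i : ℕ} (hi : i ≤ 2 * 2 ^ (k - 1)) :
    R.g χ (rot hs (2 * 2 ^ (k - 1) - i)) = R.g χ (rot hs i) := by
  rw [rot_inv hs hi, hs.class_inv (Char.IsCharacter.isClassFunction (R.char χ)) _ (rot_mem hs i)]

theorem g_rot_conj (hs : Shape D k (-1) a b) {hP : IsBrauerPair 2 M D e} (R : RotData hM hP a)
    (χ : IrrCharacter G) (i : ℕ) : conj (R.g χ (rot hs i)) = R.g χ (rot hs i) := by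
  obtain ⟨n, ρ, hρ⟩ := R.char χ
  have h := Char.char_inv_eq_conj ρ (rot hs i)
  rw [hρ] at h
  rw [← h, hs.class_inv (Char.IsCharacter.isClassFunction (R.char χ)) _ (rot_mem hs i)]

theorem g_rot_zero (hs : Shape D k (-1) a b) (hmax : IsMaximalBrauerPair 2 M B D e)
    (R : RotData hM hmax.1.1 a) {χ : IrrCharacter G} (hχ : χ ∉ B) {i : ℕ} (h0 : 0 < i)
    (hi : i < 2 * 2 ^ (k - 1)) : R.g χ (rot hs i) = 0 := by
  have hel := isElemOf_of_below hM hmax (bel_below hM hmax.1.1 (rot hs i))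
  have h := secPart_eq_zero_of_notMem hM (cenZ_eq ((rot hs i : D) : G))
    (mem_elems.1 (hel.mem hM.1)).1
    ((isBrauerPairOf_iff_induced hM hel.1.1 hel.1.2).1 hel) hχ
    (FreeAbelianCounts.one_regular hM.1)
  rw [R.sec _ (rot_mem hs i) (rot_ne_one hs h0 hi)] at h
  exact (mul_eq_zero.1 h).resolve_right (R.scal_ne _ (rot_mem hs i) (rot_ne_one hs h0 hi))

theorem g_rot_deg (hs : Shape D k (-1) a b) (hmax : IsMaximalBrauerPair 2 M B D e)
    (R : RotData hM hmax.1.1 a) {i : ℕ} (h0 : 0 < i) (hi : i < 2 * 2 ^ (k - 1)) :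
    ∑ χ : IrrCharacter G, R.g χ (rot hs i) * (charDegree (χ : G → ℂ) : ℂ) = 0 := by
  set w := rot hs i
  have hw1 : w ≠ 1 := rot_ne_one hs h0 hi
  obtain ⟨hx, hb⟩ := mem_elems.1
    ((isElemOf_of_below hM hmax (bel_below hM hmax.1.1 w)).mem hM.1)
  have h := FreeAbelianCounts.sum_secPart_mul_irr hM hx hb (g := 1) (by
    rw [pPart_eq hM.1 (isPPart_one_of_regular (FreeAbelianCounts.one_regular hM.1))]
    exact fun h => hw1 (Subtype.ext (isConj_one_left.1 h)))
  refine (mul_eq_zero.1 (Eq.trans ?_ h)).resolve_right (R.scal_ne _ (rot_mem hs i) hw1)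
  rw [Finset.sum_mul]
  refine Finset.sum_congr rfl fun χ _ => ?_
  show _ = secPart (w : G) (cenZ (w : G)) (bel hM hmax.1.1 w).2 χ 1 * _
  rw [R.sec w (rot_mem hs i) hw1, irr_one_eq χ, map_natCast]
  ring

theorem g_rot_gram (hs : Shape D k (-1) a b) (hmax : IsMaximalBrauerPair 2 M B D e)
    (R : RotData hM hmax.1.1 a) {i i' : ℕ} (h0 : 0 < i) (hi : i < 2 * 2 ^ (k - 1)) (h0' : 0 < i')
    (hi' : i' < 2 * 2 ^ (k - 1)) :
    ∑ χ : IrrCharacter G, R.g χ (rot hs i) * R.g χ (rot hs i')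
      = ((2 * 2 ^ (k - 1) : ℕ) : ℂ) *
        ((if i = i' then 1 else 0) + (if i + i' = 2 * 2 ^ (k - 1) then 1 else 0)) := by
  set n := 2 * 2 ^ (k - 1) with hn
  have hk : n = 2 ^ k := by rw [hn, mul_comm, two_pow_mul (by have := hs.two_le; omega)]
  set w := rot hs i
  set v := rot hs i'
  have hw1 : w ≠ 1 := rot_ne_one hs h0 hi
  have hv1 : v ≠ 1 := rot_ne_one hs h0' hi'
  have hnorm : ∑ χ : IrrCharacter G, R.g χ w * R.g χ w
      = (Nat.card (Subgroup.centralizer ({w} : Set D)) : ℂ) := by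
    rw [← R.norm w (rot_mem hs i) hw1]
    exact Finset.sum_congr rfl fun χ _ => by rw [g_rot_conj hs R χ i]
  have hzi : (w : G) = zinv k a ↔ i + i = n := by
    show (rot hs i : G) = a ^ 2 ^ (k - 1) ↔ _
    rw [coe_rot]
    refine ⟨fun h => ?_, fun h => by rw [show i = 2 ^ (k - 1) by omega]⟩
    have := pow_injOn_Iio_orderOf (x := a) (Set.mem_Iio.2 (show i < orderOf a by
      rw [order_rot hs]; exact hi)) (Set.mem_Iio.2 (show 2 ^ (k - 1) < orderOf a by
      rw [order_rot hs]; have := Nat.two_pow_pos (k - 1); omega)) h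
    omega
  by_cases he : i = i'
  · subst he
    rw [hnorm, hs.card_centralizer_rot w (rot_mem hs i) hw1]
    by_cases hz : (w : G) = zinv k a
    · rw [if_pos hz, if_pos rfl, if_pos (hzi.1 hz), pow_succ, ← hk]
      push_cast; ring
    · rw [if_neg hz, if_pos rfl, if_neg (fun h => hz (hzi.2 h)), ← hk]
      ring
  by_cases hsum : i + i' = n
  · have hv : v = w⁻¹ := by
      show rot hs i' = _
      rw [show i' = n - i by omega]
      exact rot_inv hs hi.le
    rw [if_neg he, if_pos hsum, hv,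
      Finset.sum_congr rfl fun χ _ => by
        rw [hs.class_inv (Char.IsCharacter.isClassFunction (R.char χ)) w (rot_mem hs i)],
      hnorm, hs.card_centralizer_rot w (rot_mem hs i) hw1,
      if_neg (fun hz => he (by have := hzi.1 hz; omega)), ← hk]
    ring
  rw [if_neg he, if_neg hsum, add_zero, mul_zero]
  have hel : ∀ u : D, bel hM hmax.1.1 u ∈ elems 2 M G := fun u =>
    (isElemOf_of_below hM hmax (bel_below hM hmax.1.1 u)).mem hM.1
  have h := FreeAbelianCounts.sum_secPart_orth hM (hel w) (hel v) fun y hy => by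
    rcases rot_fused hM hs hmax w v (rot_mem hs i) (rot_mem hs i') hy with h | h
    · rw [show ((v : D) : G) = a ^ i' from coe_rot hs i', show ((w : D) : G) = a ^ i from coe_rot hs i]
        at h
      exact he (pow_injOn_Iio_orderOf (x := a) (Set.mem_Iio.2 (show i < orderOf a by
        rw [order_rot hs]; exact hi)) (Set.mem_Iio.2 (show i' < orderOf a by
        rw [order_rot hs]; exact hi')) h.symm)
    · rw [show ((v : D) : G) = a ^ i' from coe_rot hs i', show ((w : D) : G) = a ^ i from coe_rot hs i]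
        at h
      have h1 : a ^ (i' + i) = 1 := by rw [pow_add, h, inv_mul_cancel]
      obtain ⟨c, hc⟩ := orderOf_dvd_of_pow_eq_one h1
      rw [order_rot hs] at hc
      change i' + i = n * c at hc
      rcases Nat.lt_or_ge c 2 with hc2 | hc2
      · interval_cases c <;> omega
      · have := Nat.mul_le_mul_left n hc2
        omega
  refine (mul_eq_zero.1 (Eq.trans ?_ h)).resolve_right
    (mul_ne_zero (R.scal_ne w (rot_mem hs i) hw1)
      ((map_ne_zero (starRingEnd ℂ)).2 (R.scal_ne v (rot_mem hs i') hv1)))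
  rw [Finset.sum_mul]
  refine Finset.sum_congr rfl fun χ _ => ?_
  show _ = secPart (w : G) (cenZ (w : G)) (bel hM hmax.1.1 w).2 χ 1 *
    conj (secPart (v : G) (cenZ (v : G)) (bel hM hmax.1.1 v).2 χ 1)
  rw [R.sec w (rot_mem hs i) hw1, R.sec v (rot_mem hs i') hv1, map_mul, g_rot_conj hs R χ i']
  ring

/-- The Fourier coefficients of a column. -/
theorem exists_coeff (hs : Shape D k (-1) a b) {hP : IsBrauerPair 2 M D e} (R : RotData hM hP a)
    {ω : ℂ} (hω : IsPrimitiveRoot ω (2 * 2 ^ (k - 1))) :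
    ∃ N : IrrCharacter G → ℕ → ℤ, ∀ χ j, ((2 * 2 ^ (k - 1) : ℕ) : ℂ) * (N χ j : ℂ)
      = ∑ i ∈ Finset.range (2 * 2 ^ (k - 1)), R.g χ (rot hs i) * ω ^ (i * j) := by
  set n := 2 * 2 ^ (k - 1)
  have hn : 0 < n := by positivity
  have key : ∀ χ j, ∃ m : ℤ, ((n : ℕ) : ℂ) * (m : ℂ)
      = ∑ i ∈ Finset.range n, R.g χ (rot hs i) * ω ^ (i * j) := by
    intro χ j
    obtain ⟨d, ρ, hρ⟩ := R.char χ
    obtain ⟨μ, hμ, hpow⟩ := Char.exists_eigenvalues ρ (⟨a, hs.a_mem⟩ : D)
    rw [Subgroup.orderOf_mk, order_rot hs] at hμ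
    refine ⟨((Finset.univ.filter fun t => μ t * ω ^ j = 1).card : ℕ), ?_⟩
    rw [Finset.sum_congr rfl (g := fun i => ∑ t, (μ t * ω ^ j) ^ i) fun i _ => by
      rw [← hρ, rot, hpow, Finset.sum_mul]
      exact Finset.sum_congr rfl fun t _ => by rw [mul_pow, ← pow_mul, mul_comm j i],
      Finset.sum_comm, Int.cast_natCast, Finset.card_filter]
    push_cast
    rw [Finset.mul_sum]
    refine Finset.sum_congr rfl fun t _ => ?_
    split_ifs with h
    · simp [h]
    · rw [geom_sum_eq h, mul_pow, hμ, ← pow_mul, mul_comm j, pow_mul, hω.pow_eq_one, one_pow,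
        one_mul, sub_self, zero_div, mul_zero]
  choose N hN using key
  exact ⟨N, hN⟩

/-- The coefficients are even. -/
theorem coeff_neg (hs : Shape D k (-1) a b) {hP : IsBrauerPair 2 M D e} (R : RotData hM hP a)
    {ω : ℂ} (hω : IsPrimitiveRoot ω (2 * 2 ^ (k - 1))) {N : IrrCharacter G → ℕ → ℤ}
    (hN : ∀ χ j, ((2 * 2 ^ (k - 1) : ℕ) : ℂ) * (N χ j : ℂ)
      = ∑ i ∈ Finset.range (2 * 2 ^ (k - 1)), R.g χ (rot hs i) * ω ^ (i * j))
    (χ : IrrCharacter G) {j : ℕ} (hj : j ≤ 2 * 2 ^ (k - 1)) :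
    N χ (2 * 2 ^ (k - 1) - j) = N χ j := by
  set n := 2 * 2 ^ (k - 1)
  have hn : 0 < n := by positivity
  have hne : ((n : ℕ) : ℂ) ≠ 0 := Nat.cast_ne_zero.2 hn.ne'
  have : (N χ (n - j) : ℂ) = (N χ j : ℂ) := by
    apply mul_left_cancel₀ hne
    rw [hN, hN]
    let σ : ℕ → ℕ := fun i => if i = 0 then 0 else n - i
    refine Finset.sum_nbij' σ σ ?_ ?_ ?_ ?_ ?_
    · intro i hi; simp only [Finset.mem_range, σ] at *; split <;> omega
    · intro i hi; simp only [Finset.mem_range, σ] at *; split <;> omega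
    · intro i hi; simp only [Finset.mem_range, σ] at *; (repeat' split) <;> omega
    · intro i hi; simp only [Finset.mem_range, σ] at *; (repeat' split) <;> omega
    · intro i hi
      rw [Finset.mem_range] at hi
      rcases Nat.eq_zero_or_pos i with rfl | h
      · simp [σ]
      · simp only [σ, if_neg h.ne']
        rw [g_rot_inv hs R χ hi.le]
        congr 1
        have h1 : (ω ^ ((i * (n - j)))) * ω ^ (i * j) = 1 := by
          rw [← pow_add, ← mul_add, Nat.sub_add_cancel hj, mul_comm, pow_mul, hω.pow_eq_one,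
            one_pow]
        have h2 : ω ^ ((n - i) * j) * ω ^ (i * j) = 1 := by
          rw [← pow_add, ← add_mul, Nat.sub_add_cancel hi.le, pow_mul, hω.pow_eq_one, one_pow]
        exact mul_right_cancel₀ (pow_ne_zero _ (hω.ne_zero hn.ne')) (h1.trans h2.symm)
  exact_mod_cast this

/-- The value at the central involution has the parity of the difference of two coefficients. -/
theorem g_half_parity (hs : Shape D k (-1) a b) {hP : IsBrauerPair 2 M D e} (R : RotData hM hP a)
    {ω : ℂ} (hω : IsPrimitiveRoot ω (2 * 2 ^ (k - 1))) {N : IrrCharacter G → ℕ → ℤ}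
    (hN : ∀ χ j, ((2 * 2 ^ (k - 1) : ℕ) : ℂ) * (N χ j : ℂ)
      = ∑ i ∈ Finset.range (2 * 2 ^ (k - 1)), R.g χ (rot hs i) * ω ^ (i * j))
    (χ : IrrCharacter G) :
    ∃ m : ℤ, R.g χ (rot hs (2 ^ (k - 1))) = (m : ℂ) ∧
      (Odd m → Odd (N χ 0 - N χ (2 ^ (k - 1)))) := by
  set q := 2 ^ (k - 1)
  set n := 2 * q
  have hq : 0 < q := Nat.two_pow_pos _
  have hne : ((n : ℕ) : ℂ) ≠ 0 := Nat.cast_ne_zero.2 (by omega)
  refine ⟨∑ j ∈ Finset.range n, (-1) ^ j * N χ j, ?_, ?_⟩
  · have hωq : ω ^ q = -1 := by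
      have h2 : IsPrimitiveRoot (ω ^ q) 2 := hω.pow (by omega) (mul_comm 2 q)
      exact h2.eq_neg_one_of_two_right
    apply mul_left_cancel₀ hne
    push_cast [Finset.mul_sum]
    rw [Finset.sum_congr rfl (g := fun j => ∑ i ∈ Finset.range n,
      R.g χ (rot hs i) * ω ^ (j * (q + i))) fun j _ => by
      rw [mul_left_comm]
      have := hN χ j
      rw [this, Finset.mul_sum]
      refine Finset.sum_congr rfl fun i _ => ?_
      rw [← hωq, ← pow_mul, mul_left_comm, ← pow_add]
      congr 2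
      ring, Finset.sum_comm]
    rw [Finset.sum_congr rfl (g := fun i => R.g χ (rot hs i) *
      (if n ∣ q + i then (n : ℂ) else 0)) fun i _ => by
      rw [← Finset.mul_sum, sum_root_pow hω],
      Finset.sum_eq_single q (fun i hi hiq => ?_) (fun h => absurd (Finset.mem_range.2 (by omega)) h),
      if_pos ⟨1, by omega⟩]
    · simp only [n]
      push_cast
      ring
    · rw [if_neg, mul_zero]
      rintro ⟨c, hc⟩
      rw [Finset.mem_range] at hi
      rcases Nat.lt_or_ge c 2 with hc2 | hc2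
      · interval_cases c <;> omega
      · have := Nat.mul_le_mul_left n hc2
        omega
  · intro hodd
    rw [← ZMod.intCast_eq_one_iff_odd] at hodd ⊢
    rw [← hodd]
    push_cast
    simp only [ZMod.neg_eq_self_mod_two, one_pow, one_mul]
    have hpair : ∑ j ∈ Finset.range n \ {0, q}, (N χ j : ZMod 2) = 0 := by
      refine Finset.sum_involution (fun j _ => n - j) (fun j hj => ?_) (fun j hj _ => ?_)
        (fun j hj => ?_) (fun j hj => ?_)
      all_goals simp only [Finset.mem_sdiff, Finset.mem_range, Finset.mem_insert,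
        Finset.mem_singleton, not_or] at hj ⊢
      · rw [coeff_neg hs R hω hN χ (by omega)]
        exact CharTwo.add_self_eq_zero _
      · omega
      · omega
      · omega
    rw [← Finset.sum_sdiff (s₁ := {0, q}) (by
      intro j hj
      simp only [Finset.mem_insert, Finset.mem_singleton, Finset.mem_range] at *
      omega), hpair, zero_add, Finset.sum_pair (by omega)]
    rw [sub_eq_add_neg, ZMod.neg_eq_self_mod_two]

/-- Inner products of the coefficient vectors. -/
theorem coeff_gram (hs : Shape D k (-1) a b) (hmax : IsMaximalBrauerPair 2 M B D e)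
    (R : RotData hM hmax.1.1 a) {ω : ℂ} (hω : IsPrimitiveRoot ω (2 * 2 ^ (k - 1)))
    {N : IrrCharacter G → ℕ → ℤ}
    (hN : ∀ χ j, ((2 * 2 ^ (k - 1) : ℕ) : ℂ) * (N χ j : ℂ)
      = ∑ i ∈ Finset.range (2 * 2 ^ (k - 1)), R.g χ (rot hs i) * ω ^ (i * j))
    {j l : ℕ} (hj : j = 0 ∨ 2 ≤ j ∧ j ≤ 2 ^ (k - 1)) (hl : l = 0 ∨ 2 ≤ l ∧ l ≤ 2 ^ (k - 1)) :
    ∑ χ : IrrCharacter G, (N χ j - N χ 1) * (N χ l - N χ 1)
      = (if j = l then 1 else 0) + (if j + l = 0 ∨ j + l = 2 * 2 ^ (k - 1) then 1 else 0) + 1 := by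
  set q := 2 ^ (k - 1)
  set n := 2 * q
  have hq : 2 ≤ q := Nat.le_self_pow (by have := hs.two_le; omega) 2
  have hne : ((n : ℕ) : ℂ) ≠ 0 := Nat.cast_ne_zero.2 (by omega)
  let c : ℕ → ℕ → ℂ := fun j i => ω ^ (i * j) - ω ^ (i * 1)
  have hX : ∀ χ j, (n : ℂ) * ((N χ j : ℂ) - (N χ 1 : ℂ))
      = ∑ i ∈ Finset.range n, R.g χ (rot hs i) * c j i := fun χ j => by
    rw [mul_sub, hN, hN, ← Finset.sum_sub_distrib]
    exact Finset.sum_congr rfl fun i _ => by simp only [c]; ring
  have key : ∑ χ : IrrCharacter G, ((n : ℂ) * ((N χ j : ℂ) - (N χ 1 : ℂ))) *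
      ((n : ℂ) * ((N χ l : ℂ) - (N χ 1 : ℂ)))
      = (n : ℂ) * ((n : ℂ) * ((if j = l then 1 else 0)
          + (if j + l = 0 ∨ j + l = n then 1 else 0) + 1)) := by
    rw [Finset.sum_congr rfl fun χ _ => by rw [hX, hX, Finset.sum_mul_sum], Finset.sum_comm]
    have hinner : ∀ i ∈ Finset.range n, ∑ χ : IrrCharacter G, ∑ i' ∈ Finset.range n,
        R.g χ (rot hs i) * c j i * (R.g χ (rot hs i') * c l i')
        = (n : ℂ) * (c j i * c l i + c j i * c l (n - i)) := by
      intro i hi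
      rw [Finset.mem_range] at hi
      rcases Nat.eq_zero_or_pos i with rfl | h0
      · simp [c]
      rw [Finset.sum_comm, Finset.sum_congr rfl (g := fun i' =>
        (n : ℂ) * (((if i = i' then c j i * c l i' else 0)
          + (if i' = n - i then c j i * c l i' else 0)))) fun i' hi' => ?_]
      · rw [← Finset.mul_sum, Finset.sum_add_distrib, Finset.sum_ite_eq, Finset.sum_ite_eq',
          if_pos (Finset.mem_range.2 hi), if_pos (Finset.mem_range.2 (by omega))]
      rw [Finset.mem_range] at hi'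
      rcases Nat.eq_zero_or_pos i' with rfl | h0'
      · simp [c]
      rw [Finset.sum_congr rfl (g := fun χ => c j i * c l i' *
        (R.g χ (rot hs i) * R.g χ (rot hs i'))) fun χ _ => by ring, ← Finset.mul_sum,
        g_rot_gram hs hmax R h0 hi h0' hi']
      by_cases e1 : i = i' <;> by_cases e2 : i + i' = n
      · rw [if_pos e1, if_pos e2, if_pos e1, if_pos (show i' = n - i by omega)]; ring
      · rw [if_pos e1, if_neg e2, if_pos e1, if_neg (show ¬ i' = n - i by omega)]; ring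
      · rw [if_neg e1, if_pos e2, if_neg e1, if_pos (show i' = n - i by omega)]; ring
      · rw [if_neg e1, if_neg e2, if_neg e1, if_neg (show ¬ i' = n - i by omega)]; ring
    rw [Finset.sum_congr rfl hinner, ← Finset.mul_sum]
    congr 1
    have hneg : ∀ i ∈ Finset.range n, ∀ t, t ≤ n → ω ^ ((n - i) * t) = ω ^ (i * (n - t)) := by
      intro i hi t ht
      rw [Finset.mem_range] at hi
      apply mul_right_cancel₀ (pow_ne_zero (i * t) (hω.ne_zero (by omega)))
      rw [← pow_add, ← pow_add, ← add_mul, ← mul_add, Nat.sub_add_cancel hi.le,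
        Nat.sub_add_cancel ht, pow_mul, hω.pow_eq_one, one_pow, mul_comm, pow_mul, hω.pow_eq_one,
        one_pow]
    rw [Finset.sum_congr rfl (g := fun i => ω ^ (i * (j + l)) - ω ^ (i * (j + 1))
        - ω ^ (i * (1 + l)) + ω ^ (i * 2) + (ω ^ (i * (j + (n - l))) - ω ^ (i * (j + (n - 1)))
        - ω ^ (i * (1 + (n - l))) + ω ^ (i * (1 + (n - 1))))) fun i hi => by
      have e1 := hneg i hi l (by omega)
      have e2 := hneg i hi 1 (by omega)
      simp only [c]
      rw [e1, e2]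
      ring]
    simp only [Finset.sum_add_distrib, Finset.sum_sub_distrib, sum_root_pow hω]
    have hno : ∀ t, 0 < t → t < 2 * n → t ≠ n → ¬ n ∣ t := by
      rintro t h1 h2 h3 ⟨cc, rfl⟩
      have : cc < 2 := Nat.lt_of_mul_lt_mul_left (by rwa [mul_comm 2] at h2)
      interval_cases cc <;> omega
    rw [if_neg (hno (j + 1) (by omega) (by omega) (by omega)),
      if_neg (hno (1 + l) (by omega) (by omega) (by omega)),
      if_neg (hno 2 (by omega) (by omega) (by omega)),
      if_neg (hno (j + (n - 1)) (by omega) (by omega) (by omega)),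
      if_neg (hno (1 + (n - l)) (by omega) (by omega) (by omega)),
      if_pos (show n ∣ 1 + (n - 1) from ⟨1, by omega⟩)]
    have d1 : n ∣ j + l ↔ (j + l = 0 ∨ j + l = n) := by
      refine ⟨fun h => ?_, ?_⟩
      · by_contra hh
        exact hno _ (by omega) (by omega) (by omega) h
      · rintro (h | h) <;> rw [h] <;> simp
    have d2 : n ∣ j + (n - l) ↔ j = l := by
      refine ⟨fun h => ?_, fun h => ⟨1, by omega⟩⟩
      by_contra hh
      exact hno _ (by omega) (by omega) (by omega) h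
    rw [if_congr d1 rfl rfl, if_congr d2 rfl rfl]
    split_ifs <;> ring
  rw [Finset.sum_congr rfl (g := fun χ => ((n : ℂ) * (n : ℂ)) *
    (((N χ j : ℂ) - (N χ 1 : ℂ)) * ((N χ l : ℂ) - (N χ 1 : ℂ)))) fun χ _ => by ring,
    ← Finset.mul_sum, ← mul_assoc (n : ℂ) (n : ℂ)] at key
  have h := mul_left_cancel₀ (mul_ne_zero hne hne) key
  split_ifs at h ⊢ <;> exact_mod_cast h

/-- The coefficient vectors are orthogonal to the degrees. -/
theorem coeff_deg (hs : Shape D k (-1) a b) (hmax : IsMaximalBrauerPair 2 M B D e)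
    (R : RotData hM hmax.1.1 a) {ω : ℂ} {N : IrrCharacter G → ℕ → ℤ}
    (hN : ∀ χ j, ((2 * 2 ^ (k - 1) : ℕ) : ℂ) * (N χ j : ℂ)
      = ∑ i ∈ Finset.range (2 * 2 ^ (k - 1)), R.g χ (rot hs i) * ω ^ (i * j))
    (j : ℕ) : ∑ χ : IrrCharacter G, (N χ j - N χ 1) * (charDegree (χ : G → ℂ) : ℤ) = 0 := by
  set n := 2 * 2 ^ (k - 1)
  have hn : 0 < n := by positivity
  have key : ∑ χ : IrrCharacter G, (n : ℂ) * ((N χ j : ℂ) - (N χ 1 : ℂ)) *
      (charDegree (χ : G → ℂ) : ℂ) = 0 := by
    simp only [mul_sub, hN, ← Finset.sum_sub_distrib, Finset.sum_mul]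
    rw [Finset.sum_comm]
    refine Finset.sum_eq_zero fun i hi => ?_
    rw [Finset.mem_range] at hi
    rcases Nat.eq_zero_or_pos i with rfl | h0
    · simp
    rw [Finset.sum_congr rfl (g := fun χ => (ω ^ (i * j) - ω ^ (i * 1)) *
      (R.g χ (rot hs i) * (charDegree (χ : G → ℂ) : ℂ))) fun χ _ => by ring, ← Finset.mul_sum,
      g_rot_deg hs hmax R h0 hi, mul_zero]
  simp only [mul_assoc, ← Finset.mul_sum] at key
  exact_mod_cast (mul_eq_zero.1 key).resolve_left (Nat.cast_ne_zero.2 hn.ne')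

/-- The coefficient vectors vanish outside the block. -/
theorem coeff_supp (hs : Shape D k (-1) a b) (hmax : IsMaximalBrauerPair 2 M B D e)
    (R : RotData hM hmax.1.1 a) {ω : ℂ} {N : IrrCharacter G → ℕ → ℤ}
    (hN : ∀ χ j, ((2 * 2 ^ (k - 1) : ℕ) : ℂ) * (N χ j : ℂ)
      = ∑ i ∈ Finset.range (2 * 2 ^ (k - 1)), R.g χ (rot hs i) * ω ^ (i * j))
    {χ : IrrCharacter G} (hχ : χ ∉ B) (j : ℕ) : N χ j = N χ 1 := by
  set n := 2 * 2 ^ (k - 1)
  have hn : 0 < n := by positivity
  have key : ((n : ℕ) : ℂ) * (N χ j : ℂ) = (n : ℂ) * (N χ 1 : ℂ) := by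
    rw [hN, hN]
    refine Finset.sum_congr rfl fun i hi => ?_
    rcases Nat.eq_zero_or_pos i with rfl | h0
    · simp
    · rw [g_rot_zero hs hmax R hχ h0 (Finset.mem_range.1 hi), zero_mul, zero_mul]
  exact_mod_cast mul_left_cancel₀ (Nat.cast_ne_zero.2 hn.ne') key

end CfsgLib.Blocks.TameDefect
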