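import Cfsg.Agent.Lib.Blocks.TameDefect.Shape
import Cfsg.Agent.Lib.Solvable.Cores
import Cfsg.Agent.Lib.Fusion.PSolvable
import Cfsg.Agent.Lib.FusionSystem.Basic
import Mathlib.GroupTheory.Transfer

/-!
# Elements of odd order in solvable groups with dihedral or semidihedral Sylow 2-subgroups
-/

set_option autoImplicit false
set_option maxHeartbeats 800000

namespace CfsgLib.Blocks.TameDefect

open scoped Classical

variable {H : Type*} [Group H] [Finite H]

/-- In a core-free solvable group with a dihedral or semidihedral Sylow 2-subgroup, the nontrivial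
elements of odd order are conjugate. -/
theorem isConj_of_odd [Group.IsSolvable H] (hO : Cfsg.pPrimeCore 2 H = ⊥) (S : Sylow 2 H)
    {k : ℕ} {e : ℤ} {a b : H} (hs : Shape (S : Subgroup H) k e a b) {g h : H}
    (hg : Odd (orderOf g)) (hg1 : g ≠ 1) (hh : Odd (orderOf h)) (hh1 : h ≠ 1) : IsConj g h := by
  haveI : Fact (Nat.Prime 2) := ⟨Nat.prime_two⟩
  haveI : Fact (Nat.Prime 3) := ⟨Nat.prime_three⟩
  haveI : Fintype H := Fintype.ofFinite H
  have hk := hs.two_le
  set F := Cfsg.pCore 2 H with hFdef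
  have hFn : F.Normal := inferInstance
  have hF2 : IsPGroup 2 F := CfsgLib.Solvable.Cores.isPGroup_pCore 2
  have hFS : F ≤ S := CfsgLib.Solvable.Cores.pCore_le_sylow S
  have hCF : Subgroup.centralizer (F : Set H) ≤ F :=
    CfsgLib.Fusion.PSolvable.centralizer_pCore_le CfsgLib.Fusion.PSolvable.psolvable_of_solvable hO
  have hnorm : ∀ x : H, x ∈ Subgroup.normalizer (F : Set H) := fun x => by
    rw [Subgroup.normalizer_eq_top F]; exact Subgroup.mem_top x
  set A := Subgroup.zpowers a with hA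
  set C := F ⊓ A with hC
  have hidxC : ∀ x ∈ F, ∀ y ∈ F, x ∉ C → y ∉ C → x⁻¹ * y ∈ C := fun x hx y hy hxC hyC =>
    Subgroup.mem_inf.2 ⟨F.mul_mem (F.inv_mem hx) hy, hs.mul_mem x (hFS hx) y (hFS hy)
      (fun h => hxC ⟨hx, h⟩) fun h => hyC ⟨hy, h⟩⟩
  obtain ⟨c, hc⟩ := (Subgroup.isCyclic_iff_exists_zpowers_eq_top (H := C)).1 (by
    exact isCyclic_of_injective (Subgroup.inclusion (inf_le_right : C ≤ A))
      (Subgroup.inclusion_injective _))
  have hcC : c ∈ C := hc ▸ Subgroup.mem_zpowers c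
  -- elements of odd order move the generators of `C` out of `C`
  have hbad : ∀ x : H, Odd (orderOf x) → ∀ d : H, Subgroup.zpowers d = C → x * d * x⁻¹ ∈ C →
      x = 1 := by
    intro x hx d hd hxd
    have hxC : x ∈ Subgroup.centralizer (F : Set H) := by
      refine Cfsg.Agent.S2879.centralizes_of_index_two hF2 inf_le_left (hnorm x) ?_ hx hidxC
      haveI : IsCyclic C := hd ▸ inferInstance
      refine CfsgLib.LocalEvenB.HSubgroup.centralizes_of_cyclic (p := 2) (hF2.to_le inf_le_left) ?_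
        (Nat.coprime_two_right.2 hx) (fun q hq _ => hq.two_le)
      have hmap : ∀ w ∈ C, x * w * x⁻¹ ∈ C := by
        intro w hw
        rw [← hd] at hw
        obtain ⟨i, rfl⟩ := Subgroup.mem_zpowers_iff.1 hw
        rw [← conj_zpow]
        exact zpow_mem hxd i
      exact CfsgLib.Fsys.mem_normalizer_of_map_le hmap
    obtain ⟨j, hj⟩ := hF2 ⟨x, hCF hxC⟩
    have hj' : x ^ 2 ^ j = 1 := by simpa using congrArg Subtype.val hj
    exact orderOf_eq_one_iff.1 (Nat.eq_one_of_dvd_coprimes
      ((Nat.coprime_two_left.2 hx).pow_left j) (orderOf_dvd_of_pow_eq_one hj') dvd_rfl)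
  set y := g * c * g⁻¹ with hy_def
  have hyF : y ∈ F := hFn.conj_mem c hcC.1 g
  have hyA : y ∉ A := fun h => hg1 (hbad g hg c hc ⟨hyF, h⟩)
  have hord : orderOf y = orderOf c := MulEquiv.orderOf_eq (MulAut.conj g) c
  -- the size of `C`
  have hk12 : 2 ^ (k - 1) = 2 ^ (k - 2) * 2 := by rw [← pow_succ]; congr 1; omega
  have hlow : c ^ 2 ^ (k - 2) ≠ 1 := by
    intro h1
    have hw : a ^ (1 - e) ∈ C := by
      refine ⟨?_, Subgroup.zpow_mem _ (Subgroup.mem_zpowers a) _⟩
      have e' : a ^ (1 - e) = a * y * a⁻¹ * y⁻¹ := by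
        have h2 := hs.conj_zpow (hFS hyF) hyA (-1)
        rw [zpow_neg_one, neg_one_mul] at h2
        rw [sub_eq_add_neg, zpow_add, zpow_one, ← h2]
        group
      rw [e']
      exact F.mul_mem (hFn.conj_mem y hyF a) (F.inv_mem hyF)
    rw [← hc] at hw
    obtain ⟨i, hi⟩ := Subgroup.mem_zpowers_iff.1 hw
    have h3 : (a ^ (1 - e)) ^ ((2 ^ (k - 2) : ℕ) : ℤ) = 1 := by
      rw [← hi, ← zpow_mul, mul_comm, zpow_mul, zpow_natCast, h1, one_zpow]
    rw [← zpow_mul, ← orderOf_dvd_iff_zpow_eq_one, hs.ord_a, ← two_pow_mul (show 1 ≤ k by omega),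
      hk12] at h3
    obtain ⟨u, hu⟩ := hs.e_odd
    push_cast at h3
    rw [show (1 - e) * (2 : ℤ) ^ (k - 2) = 2 ^ (k - 2) * 2 * (1 - 2 * u) by
      linear_combination (-(2 : ℤ) ^ (k - 2)) * hu] at h3
    have h4 : (2 : ℤ) ∣ 1 - 2 * u := by
      have h5 := h3
      rw [mul_assoc, mul_assoc] at h5
      have h6 := Int.dvd_of_mul_dvd_mul_left (by positivity) h5
      exact Int.dvd_of_mul_dvd_mul_left two_ne_zero h6
    omega
  have hy2 : (e = -1 → y * y = 1) ∧ (y * y = 1 ∨ y * y = zinv k a) :=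
    ⟨fun he => (he ▸ hs).sq_outside_dih (hFS hyF) hyA, hs.sq_outside (hFS hyF) hyA⟩
  have hy4 : y ^ 4 = 1 := by
    rw [show 4 = 2 * 2 by rfl, pow_mul, pow_two y]
    rcases hy2.2 with h | h <;> rw [h, pow_two]
    · rw [one_mul]
    · exact hs.z_sq
  obtain ⟨m, hm⟩ := IsPGroup.iff_orderOf.1 hF2 ⟨c, hcC.1⟩
  rw [← Subgroup.orderOf_coe] at hm
  replace hm : orderOf c = 2 ^ m := hm
  have hm1 : k - 1 ≤ m := by
    by_contra hcon
    exact hlow (orderOf_dvd_iff_pow_eq_one.1 (hm ▸ pow_dvd_pow 2 (by omega)))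
  have hshape : k ≤ 3 ∧ m = k - 1 := by
    rcases hs.kind with he | ⟨hk3, -⟩
    · have h2 : 2 ^ m ∣ 2 ^ 1 := by
        rw [← hm, ← hord, pow_one]
        exact orderOf_dvd_of_pow_eq_one (by rw [pow_two]; exact hy2.1 he)
      have := (Nat.pow_dvd_pow_iff_le_right (le_refl 2)).1 h2
      omega
    · have h2 : 2 ^ m ∣ 2 ^ 2 := by
        rw [← hm, ← hord]
        exact orderOf_dvd_of_pow_eq_one hy4
      have := (Nat.pow_dvd_pow_iff_le_right (le_refl 2)).1 h2
      omega
  have hCcard : Nat.card C = 2 ^ (k - 1) := by rw [← hc, Nat.card_zpowers, hm, hshape.2]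
  set Fout : Finset H := Finset.univ.filter fun x => x ∈ F ∧ x ∉ C
  have hout : Fout.card ≤ 2 ^ (k - 1) := by
    rw [← hCcard, Nat.card_eq_fintype_card, Fintype.card_subtype]
    refine Finset.card_le_card_of_injOn (fun x => y⁻¹ * x) (fun x hx => ?_)
      (fun x _ x' _ h => mul_left_cancel h)
    simp only [Fout, Finset.coe_filter, Set.mem_setOf_eq, Finset.mem_univ, true_and] at hx
    simpa using hidxC y hyF x hx.1 (fun h => hyA h.2) hx.2
  have hFcard : Nat.card F ≤ 2 ^ k := by
    rw [← two_pow_mul (show 1 ≤ k by omega), Nat.card_eq_fintype_card, Fintype.card_subtype]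
    have e' : Finset.univ.filter (fun x : H => x ∈ F)
        ⊆ (Finset.univ.filter fun x : H => x ∈ C) ∪ Fout := by
      intro x hx
      simp only [Fout, Finset.mem_union, Finset.mem_filter, Finset.mem_univ, true_and] at hx ⊢
      tauto
    refine (Finset.card_le_card e').trans ((Finset.card_union_le _ _).trans ?_)
    rw [mul_two]
    refine Nat.add_le_add ?_ hout
    rw [← hCcard, Nat.card_eq_fintype_card, Fintype.card_subtype]
  -- odd subgroups have order at most three
  have hodd_mem : ∀ K : Subgroup H, Odd (Nat.card K) → ∀ x ∈ K, Odd (orderOf x) :=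
    fun K hK x hx => hK.of_dvd_nat (Subgroup.orderOf_dvd_natCard K hx)
  have hsmall : ∀ K : Subgroup H, Odd (Nat.card K) → Nat.card K ≤ 3 := by
    intro K hK
    have key : ∀ E : Finset H, (∀ d ∈ E, Subgroup.zpowers d = C) →
        (Nat.card K - 1) * E.card ≤ 2 ^ (k - 1) := by
      intro E hE
      refine le_trans ?_ hout
      set K' := (Finset.univ.filter fun x : H => x ∈ K).erase 1
      have hK' : K'.card = Nat.card K - 1 := by
        rw [Finset.card_erase_of_mem (by simp [K.one_mem]), Nat.card_eq_fintype_card,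
          Fintype.card_subtype]
      rw [← hK', ← Finset.card_product]
      refine Finset.card_le_card_of_injOn (fun q => q.1 * q.2 * q.1⁻¹) ?_ ?_
      · rintro ⟨x, d⟩ hq
        simp only [Finset.coe_product, Set.mem_prod, Finset.mem_coe, K', Finset.mem_erase,
          Finset.mem_filter, Finset.mem_univ, true_and] at hq
        simp only [Fout, Finset.coe_filter, Set.mem_setOf_eq, Finset.mem_univ, true_and]
        have hdC : d ∈ C := hE d hq.2 ▸ Subgroup.mem_zpowers d
        exact ⟨hFn.conj_mem d hdC.1 x, fun h => hq.1.1 (hbad x (hodd_mem K hK x hq.1.2) d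
          (hE d hq.2) h)⟩
      · rintro ⟨x, d⟩ hq ⟨x', d'⟩ hq' heq
        simp only [Finset.coe_product, Set.mem_prod, Finset.mem_coe, K', Finset.mem_erase,
          Finset.mem_filter, Finset.mem_univ, true_and] at hq hq'
        simp only at heq
        have hx' : x'⁻¹ * x * d * (x'⁻¹ * x)⁻¹ = d' := by
          calc x'⁻¹ * x * d * (x'⁻¹ * x)⁻¹ = x'⁻¹ * (x * d * x⁻¹) * x' := by group
            _ = d' := by rw [heq]; group
        have h1 : x'⁻¹ * x = 1 := hbad _ (hodd_mem K hK _ (K.mul_mem (K.inv_mem hq'.1.2) hq.1.2)) d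
          (hE d hq.2) (hx'.symm ▸ hE d' hq'.2 ▸ Subgroup.mem_zpowers d')
        rw [inv_mul_eq_one] at h1
        subst h1
        rw [Prod.mk.injEq]
        exact ⟨rfl, mul_left_cancel (mul_right_cancel heq)⟩
    rcases (show k = 2 ∨ k = 3 by omega) with hk2 | hk3
    · have := key {c} (fun d hd => by rw [Finset.mem_singleton.1 hd, hc])
      rw [hk2, Finset.card_singleton, mul_one, show (2 : ℕ) ^ (2 - 1) = 2 from rfl] at this
      omega
    · have hne : c ≠ c⁻¹ := fun h => by
        apply hlow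
        rw [hk3, show 2 ^ (3 - 2) = 2 by rfl, pow_two]
        nth_rewrite 1 [h]
        exact inv_mul_cancel c
      have := key {c, c⁻¹} (fun d hd => by
        rcases Finset.mem_insert.1 hd with rfl | hd
        · exact hc
        · rw [Finset.mem_singleton.1 hd, Subgroup.zpowers_inv, hc])
      rw [hk3, Finset.card_pair hne, show (2 : ℕ) ^ (3 - 1) = 4 from rfl] at this
      omega
  have hord3 : ∀ x : H, Odd (orderOf x) → x ≠ 1 → orderOf x = 3 := by
    intro x hx hx1
    have h1 := hsmall (Subgroup.zpowers x) (by rwa [Nat.card_zpowers])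
    rw [Nat.card_zpowers] at h1
    have h0 := orderOf_pos x
    have h2 : orderOf x ≠ 1 := fun h => hx1 (orderOf_eq_one_iff.1 h)
    obtain ⟨r, hr⟩ := hx
    omega
  -- the subgroup generated by `h` is a Sylow 3-subgroup
  have hsyl : ∀ x : H, Odd (orderOf x) → x ≠ 1 → ∃ P : Sylow 3 H,
      (P : Subgroup H) = Subgroup.zpowers x := by
    intro x hx hx1
    have hc3 : Nat.card (Subgroup.zpowers x) = 3 := by rw [Nat.card_zpowers, hord3 x hx hx1]
    obtain ⟨P, hP⟩ := (IsPGroup.of_card (p := 3) (n := 1) (by rw [hc3, pow_one]) :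
      IsPGroup 3 (Subgroup.zpowers x)).exists_le_sylow
    refine ⟨P, (Subgroup.eq_of_le_of_card_ge hP ?_).symm⟩
    rw [hc3]
    obtain ⟨j, hj⟩ := IsPGroup.iff_card.1 P.2
    exact hsmall P (hj ▸ (by decide : Odd 3).pow)
  obtain ⟨P, hP⟩ := hsyl h hh hh1
  obtain ⟨Q, hQ⟩ := hsyl g hg hg1
  obtain ⟨t, ht⟩ := MulAction.exists_smul_eq H Q P
  have hgh : t * g * t⁻¹ ∈ Subgroup.zpowers h := by
    rw [← hP, ← ht]
    exact ⟨g, by rw [hQ]; exact Subgroup.mem_zpowers g, rfl⟩
  have hcases : ∀ x ∈ Subgroup.zpowers h, x ≠ 1 → x = h ∨ x = h⁻¹ := by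
    intro x hx hx1
    obtain ⟨i, rfl⟩ := Subgroup.mem_zpowers_iff.1 hx
    have e' : h ^ i = h ^ (i % 3) := by
      conv_lhs => rw [← zpow_mod_orderOf, hord3 h hh hh1]
      norm_num
    rw [e'] at hx1 ⊢
    rcases (show i % 3 = 0 ∨ i % 3 = 1 ∨ i % 3 = 2 by omega) with h0 | h0 | h0 <;> rw [h0] at hx1 ⊢
    · exact absurd (zpow_zero h) hx1
    · exact Or.inl (zpow_one h)
    · right
      refine eq_inv_of_mul_eq_one_left ?_
      rw [← zpow_add_one, show (2 : ℤ) + 1 = ((3 : ℕ) : ℤ) by norm_num, zpow_natCast,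
        ← hord3 h hh hh1, pow_orderOf_eq_one]
  -- the normalizer inverts `h`
  have hinv : IsConj h h⁻¹ := by
    by_cases hN : Subgroup.normalizer ((P : Subgroup H) : Set H)
        ≤ Subgroup.centralizer ((P : Subgroup H) : Set H)
    · exfalso
      set K := (MonoidHom.transferSylow P hN).ker
      have hcomp := MonoidHom.ker_transferSylow_isComplement' P hN
      have hK2 : IsPGroup 2 K := by
        refine IsPGroup.iff_orderOf.2 fun x => ?_
        obtain ⟨j, l, hl, hjl⟩ := Nat.exists_eq_two_pow_mul_odd (orderOf_pos x).ne'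
        refine ⟨j, ?_⟩
        rcases eq_or_ne l 1 with rfl | hl1
        · rw [hjl, mul_one]
        exfalso
        have ho : orderOf ((x : H) ^ 2 ^ j) = l := by
          rw [orderOf_pow_of_dvd (by positivity) (by rw [Subgroup.orderOf_coe, hjl]; exact dvd_mul_right _ _),
            Subgroup.orderOf_coe, hjl, Nat.mul_div_cancel_left _ (by positivity)]
        have h3 := hord3 _ (ho.symm ▸ hl) (fun h1 => hl1 (by rw [← ho, h1, orderOf_one]))
        refine MonoidHom.not_dvd_card_ker_transferSylow P hN ?_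
        exact (dvd_of_eq h3.symm).trans (Subgroup.orderOf_dvd_natCard _ (K.pow_mem x.2 _))
      have hKF : K ≤ F := CfsgLib.Solvable.Cores.le_pCore hK2
      have h1 := hcomp.card_mul
      have e3 : Nat.card (P : Subgroup H) = 3 := by rw [hP, Nat.card_zpowers, hord3 h hh hh1]
      rw [e3] at h1
      have h2 : 2 ^ (k + 1) ∣ Nat.card K := by
        have h3 : Nat.card (S : Subgroup H) ∣ Nat.card K * 3 := by
          rw [h1]; exact Subgroup.card_subgroup_dvd_card _
        rw [hs.card] at h3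
        exact (Nat.Coprime.pow_left _ (by norm_num : Nat.Coprime 2 3)).dvd_of_dvd_mul_right h3
      have h4 := (Nat.le_of_dvd Nat.card_pos h2).trans ((Subgroup.card_le_of_le hKF).trans hFcard)
      have := (Nat.pow_le_pow_iff_right one_lt_two).1 h4
      omega
    · obtain ⟨u, huN, huC⟩ := SetLike.not_le_iff_exists.1 hN
      have hu : u * h * u⁻¹ ∈ Subgroup.zpowers h := by
        rw [← hP]
        exact (Subgroup.mem_normalizer_iff.1 huN h).1 (hP ▸ Subgroup.mem_zpowers h)
      rcases hcases _ hu (fun h1 => hh1 (conj_eq_one_iff.1 h1)) with h1 | h1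
      · refine absurd (Subgroup.mem_centralizer_iff.2 fun x hx => ?_) huC
        rw [SetLike.mem_coe, hP] at hx
        obtain ⟨i, rfl⟩ := Subgroup.mem_zpowers_iff.1 hx
        exact ((show Commute u h from mul_inv_eq_iff_eq_mul.1 h1).zpow_right i).eq.symm
      · exact isConj_iff.2 ⟨u, h1⟩
  rcases hcases _ hgh (fun h1 => hg1 (conj_eq_one_iff.1 h1)) with h1 | h1
  · exact isConj_iff.2 ⟨t, h1⟩
  · exact (isConj_iff.2 ⟨t, h1⟩ : IsConj g h⁻¹).trans hinv.symm

end CfsgLib.Blocks.TameDefect
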