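import Cfsg.Agent.Lib.Blocks.TameDefect.TameQuotient

/-!
# The characters of a block with a quaternion or semidihedral defect group
-/

set_option autoImplicit false
set_option maxHeartbeats 1600000

namespace CfsgLib.Blocks.TameDefect

open Cfsg CfsgLib.Blocks CfsgLib.BrauerPairs CfsgLib.BrouePuig
open scoped Classical ComplexConjugate

universe u

namespace Cyc

variable {G : Type u} [Group G] [Fintype G] [Fact (Nat.Prime 2)] {D : Subgroup G} {m : ℕ} {e : ℤ}
  {a : G} {M : Ideal AlgInt} {B : Set (IrrCharacter G)}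
  {eD : Set (IrrCharacter (Subgroup.centralizer (D : Set G)))} {hM : IsPModular 2 M}

/-- A table of weights has four characters of height zero. -/
theorem card_height_zero {q l lz R : ℕ} (W : Weights {χ : IrrCharacter G // χ ∈ B} q l lz R)
    (hW : ∀ χ, W.h χ = TwoMajor.ht B χ.1) :
    Nat.card {χ : IrrCharacter G // χ ∈ B ∧ TwoMajor.ht B χ = 0} = 4 := by
  rw [← W.card_h0, ← Fintype.card_subtype (fun χ => W.h χ = 0), ← Nat.card_eq_fintype_card]
  refine Nat.card_congr ((Equiv.subtypeSubtypeEquivSubtypeInter _ _).symm.trans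
    (Equiv.subtypeEquivRight fun χ => ?_))
  rw [hW]

/-- The count when the involution is central in the group. -/
theorem central_count (h : Cyc D (m + 1) e a) (hmax : IsMaximalBrauerPair 2 M B D eD) (b b' : D)
    (hb : (b : G) ∉ Subgroup.zpowers a) (hb' : (b' : G) = (b : G) * a)
    (hz : zinv (m + 1) a ∈ Subgroup.center G) :
    blockRank 2 B + (outReps hM hmax.1.1 a b b').card = 3 := by
  obtain ⟨W, hW, hWc, hWz⟩ := h.exists_weights (hM := hM) hmax b b' hb hb'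
  set z := zinv (m + 1) a
  obtain ⟨hU2, hU0, hU1⟩ := quot_facts hM h hmax hz (card_height_zero W hW)
  obtain ⟨zD, hzD⟩ : ∃ zD : D, zD = ⟨z, h.z_mem⟩ := ⟨_, rfl⟩
  obtain ⟨one, hone⟩ : ∃ one : D, one = ⟨1, D.one_mem⟩ := ⟨_, rfl⟩
  have hzc : (zD : G) ∈ Subgroup.center G := hzD ▸ hz
  have hzsq : z * z = 1 := h.z_sq
  let ε : IrrCharacter G → ℂ := fun χ => (χ : G → ℂ) z / (χ : G → ℂ) 1
  have hεsq : ∀ χ, ε χ * ε χ = 1 := by
    intro χ
    have h1 := irr_mul_central hz χ z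
    rw [hzsq] at h1
    show (χ : G → ℂ) z / (χ : G → ℂ) 1 * ((χ : G → ℂ) z / (χ : G → ℂ) 1) = 1
    rw [← mul_div_assoc, ← h1]
    exact div_self (irr_one_ne_zero χ)
  have hεpm : ∀ χ, ε χ = 1 ∨ ε χ = -1 := fun χ => mul_self_eq_one_iff.1 (hεsq χ)
  have hεconj : ∀ χ, conj (ε χ) = ε χ := fun χ => by
    rcases hεpm χ with h1 | h1 <;> rw [h1] <;> simp
  have hiff : ∀ χ, ε χ = 1 ↔ (χ : G → ℂ) z = (χ : G → ℂ) 1 := fun χ => by
    simp only [ε]
    rw [div_eq_one_iff_eq (irr_one_ne_zero χ)]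
  have hdiag : ∀ χ ∈ B, classSec hM hmax.1.1 zD χ χ = classSec hM hmax.1.1 one χ χ := by
    intro χ hχ
    rw [classSec_central (hM := hM) hmax hχ hχ zD hzc, hzD, hone]
    show ε χ * conj (ε χ) * classSec hM hmax.1.1 (1 : D) χ χ = classSec hM hmax.1.1 (1 : D) χ χ
    rw [hεconj, hεsq, one_mul]
  have hd1 := (exists_maximal_nest hM hmax one fun x _ => by
    rw [hone, cenZ_eq, Subgroup.mem_centralizer_singleton_iff, mul_one, one_mul]).1
  have hdz := (exists_maximal_nest hM hmax zD fun x _ => by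
    rw [cenZ_eq, Subgroup.mem_centralizer_singleton_iff]
    exact Subgroup.mem_center_iff.1 hzc x).1
  rw [← hone] at hWc
  have hceq : ∀ χ, W.c χ = W.az χ := fun χ => by
    apply Int.cast_injective (α := ℂ)
    show (W.c χ : ℂ) = (W.az χ : ℂ)
    rw [hWc, hWz, show (⟨z, h.z_mem⟩ : D) = zD from hzD.symm, scaledSec, scaledSec, hdiag χ.1 χ.2, hd1, hdz]
  have hq0 : (0 : ℤ) < 4 * (2 : ℤ) ^ m := by positivity
  have hl : blockRank 2 B
      = blockRank 2 (bel hM hmax.1.1 ⟨zinv (m + 1) a, h.z_mem⟩).2 := by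
    have h1 := W.sum_c
    rw [Finset.sum_congr rfl fun χ _ => hceq χ, W.sum_az] at h1
    push_cast at h1
    exact_mod_cast (mul_left_cancel₀ hq0.ne' h1).symm
  set U := Finset.univ.filter fun χ : {χ : IrrCharacter G // χ ∈ B} =>
    (χ.1 : G → ℂ) z = (χ.1 : G → ℂ) 1
  have hcard : 2 * U.card = 2 ^ m + 6 := by
    rw [← hU2, ← Fintype.card_subtype, ← Nat.card_eq_fintype_card]
    congr 1
    exact Nat.card_congr ((Equiv.subtypeSubtypeEquivSubtypeInter
      (fun χ : IrrCharacter G => χ ∈ B) fun χ => (χ : G → ℂ) z = (χ : G → ℂ) 1))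
  have hUsum : 2 * ∑ χ ∈ U, W.c χ = 4 * (2 ^ m : ℕ) * blockRank 2 B := by
    have hzero := sum_scalar_classSec_one (hM := hM) hmax zD hzc
      (by rw [hzD]; exact h.z_ne_one)
    have hsum : ∑ χ : {χ : IrrCharacter G // χ ∈ B}, ε χ.1 * (W.c χ : ℂ) = 0 := by
      rw [Finset.sum_congr rfl fun χ _ => by rw [hWc χ, scaledSec, hd1, ← mul_assoc],
        ← Finset.sum_mul]
      refine mul_eq_zero_of_left (Eq.trans ?_ hzero) _
      rw [hzD, hone]
      exact (Finset.sum_subtype (p := fun χ => χ ∈ B) (Finset.univ.filter fun χ => χ ∈ B)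
        (fun χ => by simp) (fun χ => ε χ * classSec hM hmax.1.1 (1 : D) χ χ)).symm
    rw [← Finset.sum_filter_add_sum_filter_not Finset.univ fun χ : {χ : IrrCharacter G // χ ∈ B} =>
        (χ.1 : G → ℂ) z = (χ.1 : G → ℂ) 1,
      Finset.sum_congr rfl (g := fun χ => (W.c χ : ℂ)) fun χ hχ => by
        rw [(hiff χ.1).2 (Finset.mem_filter.1 hχ).2, one_mul],
      Finset.sum_congr rfl (s₁ := Finset.univ.filter fun χ : {χ : IrrCharacter G // χ ∈ B} =>
          ¬ (χ.1 : G → ℂ) z = (χ.1 : G → ℂ) 1) (g := fun χ => -(W.c χ : ℂ)) fun χ hχ => by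
        rw [(hεpm χ.1).resolve_left fun h1 => (Finset.mem_filter.1 hχ).2 ((hiff χ.1).1 h1),
          neg_one_mul],
      Finset.sum_neg_distrib, ← sub_eq_add_neg, sub_eq_zero] at hsum
    have htot := W.sum_c
    rw [← Finset.sum_filter_add_sum_filter_not Finset.univ fun χ : {χ : IrrCharacter G // χ ∈ B} =>
        (χ.1 : G → ℂ) z = (χ.1 : G → ℂ) 1] at htot
    rw [← htot]
    have h2 : ∑ χ ∈ U, W.c χ = ∑ χ ∈ Finset.univ.filter
        (fun χ : {χ : IrrCharacter G // χ ∈ B} => ¬ (χ.1 : G → ℂ) z = (χ.1 : G → ℂ) 1), W.c χ := by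
      apply Int.cast_injective (α := ℂ)
      push_cast
      exact hsum
    rw [← h2, two_mul]
  have hc3 := W.central hl hceq U
    (fun χ hχ => Finset.mem_filter.2 ⟨Finset.mem_univ _, hU0 χ.1 χ.2 (by rw [← hW]; exact hχ)⟩)
    (fun χ hχ => by rw [hW]; exact hU1 χ.1 χ.2 (Finset.mem_filter.1 hχ).2) hcard hUsum
  omega

/-- An element of order four keeps the involution fixed under fusion. -/
theorem fused_nested (h : Cyc D (m + 1) e a) {hP : IsBrauerPair 2 M D eD} {H : Subgroup G}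
    (hH : H = cenZ (zinv (m + 1) a)) (hDH : D ≤ H)
    {e' : Set (IrrCharacter (Subgroup.centralizer (D.subgroupOf H : Set H)))}
    (hP' : IsBrauerPair 2 M (D.subgroupOf H) e')
    (hec : ∀ x : H, subgroupBlockCoeff (Subgroup.centralizer (D.subgroupOf H : Set H)) e' x
      = subgroupBlockCoeff (Subgroup.centralizer (D : Set G)) eD (x : G))
    (x y : D) (hx : (x : G) * x = zinv (m + 1) a) (hy : (y : G) * y = zinv (m + 1) a) :
    Fused hM hP x y ↔
      Fused hM hP' ⟨⟨(x : G), hDH x.2⟩, x.2⟩ ⟨⟨(y : G), hDH y.2⟩, y.2⟩ := by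
  have hcen : ∀ w : D, (w : G) * w = zinv (m + 1) a → cenZ (w : G) ≤ H := by
    intro w hw v hv
    rw [hH, cenZ_eq, Subgroup.mem_centralizer_singleton_iff]
    rw [cenZ_eq, Subgroup.mem_centralizer_singleton_iff] at hv
    rw [← hw, ← mul_assoc, hv, mul_assoc, hv, mul_assoc]
  have hmemH : ∀ g : G, g * (x : G) * g⁻¹ = (y : G) → g ∈ H := by
    intro g hg
    rw [hH, cenZ_eq, Subgroup.mem_centralizer_singleton_iff]
    have h1 : g * zinv (m + 1) a * g⁻¹ = zinv (m + 1) a := by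
      rw [← hx, show g * ((x : G) * x) * g⁻¹ = (g * x * g⁻¹) * (g * x * g⁻¹) by group, hg, hy, hx]
    exact mul_inv_eq_iff_eq_mul.1 h1
  constructor
  · rintro ⟨g, hg⟩
    have hgx : g * (x : G) * g⁻¹ = (y : G) := congrArg Sigma.fst hg
    refine ⟨⟨g, hmemH g hgx⟩, belem_ext (Subtype.ext hgx) fun c => ?_⟩
    rw [bc_act]
    refine (bc_bel_nest hM hDH hP hP' hec x (hcen x hx) _).trans (Eq.trans ?_
      (bc_bel_nest hM hDH hP hP' hec y (hcen y hy) c).symm)
    have h2 := congrArg (fun v : BElem G => v.bc (c : G)) hg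
    simp only [bc_act] at h2
    exact h2
  · rintro ⟨g, hg⟩
    have hgx : (g : G) * (x : G) * (g : G)⁻¹ = (y : G) :=
      congrArg Subtype.val (congrArg Sigma.fst hg)
    refine ⟨(g : G), belem_ext hgx fun c => ?_⟩
    rw [bc_act]
    by_cases hc : c ∈ H
    · refine (bc_bel_nest hM hDH hP hP' hec x (hcen x hx) (g⁻¹ * ⟨c, hc⟩ * g)).symm.trans
        (Eq.trans ?_ (bc_bel_nest hM hDH hP hP' hec y (hcen y hy) ⟨c, hc⟩))
      have h2 := congrArg (fun v : BElem H => v.bc (⟨c, hc⟩ : H)) hg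
      simp only [bc_act] at h2
      exact h2
    · refine (bc_of_notMem (fun hh => hc ?_) _).trans (bc_of_notMem (fun hh => hc (hcen y hy hh)) _).symm
      have := hcen x hx hh
      simpa [mul_assoc] using H.mul_mem (H.mul_mem g.2 this) (H.inv_mem g.2)

theorem absorbed_iff_order_four (h : Cyc D (m + 1) e a) {hP : IsBrauerPair 2 M D eD} (x : D)
    (hx : (x : G) * x = zinv (m + 1) a) :
    Absorbed hM hP a x ↔ ∃ w : D, (w : G) ∈ Subgroup.zpowers a ∧
      (w : G) * w = zinv (m + 1) a ∧ Fused hM hP x w := by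
  refine ⟨fun ⟨w, hw, hf⟩ => ⟨w, hw, ?_, hf⟩, fun ⟨w, hw, _, hf⟩ => ⟨w, hw, hf⟩⟩
  obtain ⟨g, hg⟩ := hf.conj_eq
  have h2 : (w : G) * w = g * zinv (m + 1) a * g⁻¹ := by rw [← hg, ← hx]; group
  refine h.sq_eq_z w.2 ?_ ?_
  · rw [h2, show g * zinv (m + 1) a * g⁻¹ * (g * zinv (m + 1) a * g⁻¹)
      = g * (zinv (m + 1) a * zinv (m + 1) a) * g⁻¹ by group, h.z_sq]
    group
  · rw [h2]
    exact fun h3 => h.z_ne_one (conj_eq_one_iff.1 h3)

/-- The comparison with the centralizer of the involution. -/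
theorem nested_count (h : Cyc D (m + 1) e a) (hmax : IsMaximalBrauerPair 2 M B D eD) {H : Subgroup G}
    (hH : H = cenZ (zinv (m + 1) a)) (hDH : D ≤ H) {B' : Set (IrrCharacter H)}
    {e' : Set (IrrCharacter (Subgroup.centralizer (D.subgroupOf H : Set H)))}
    (hmax' : IsMaximalBrauerPair 2 M B' (D.subgroupOf H) e')
    (hec : ∀ x : H, subgroupBlockCoeff (Subgroup.centralizer (D.subgroupOf H : Set H)) e' x
      = subgroupBlockCoeff (Subgroup.centralizer (D : Set G)) eD (x : G))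
    (b b' : D) (hb : (b : G) ∉ Subgroup.zpowers a) (hb' : (b' : G) = (b : G) * a)
    (hb'z : (b' : G) * b' = zinv (m + 1) a) :
    1 ≤ blockRank 2 B' ∧
    ((b : G) * b = zinv (m + 1) a →
      blockRank 2 B' + (outReps hM hmax.1.1 a b b').card = 3) ∧
    ((b : G) * b = 1 → ∃ u v : ℕ, u ≤ 1 ∧ (outReps hM hmax.1.1 a b b').card = u + v ∧
      blockRank 2 B' + v = 2) := by
  have h' := h.subgroupOf hDH
  let bH : D.subgroupOf H := ⟨⟨(b : G), hDH b.2⟩, b.2⟩
  let bH' : D.subgroupOf H := ⟨⟨(b' : G), hDH b'.2⟩, b'.2⟩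
  let aH : H := ⟨a, hDH h.a_mem⟩
  have hA : ∀ w : H, w ∈ Subgroup.zpowers aH ↔ (w : G) ∈ Subgroup.zpowers a := fun w => by
    simp only [Subgroup.mem_zpowers_iff, aH]
    exact exists_congr fun i => ⟨fun h1 => by rw [← h1]; rfl, fun h1 => Subtype.ext h1⟩
  have hzH : ((zinv (m + 1) aH : H) : G) = zinv (m + 1) a := rfl
  have hbH : (bH : H) ∉ Subgroup.zpowers aH := fun hh => hb ((hA _).1 hh)
  have hbH' : (bH' : H) = (bH : H) * aH := Subtype.ext hb'
  have hcH : zinv (m + 1) aH ∈ Subgroup.center H := by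
    rw [Subgroup.mem_center_iff]
    intro c
    have hc : (c : G) ∈ cenZ (zinv (m + 1) a) := hH.le c.2
    rw [cenZ_eq, Subgroup.mem_centralizer_singleton_iff] at hc
    exact Subtype.ext hc
  have hcount := h'.central_count (hM := hM) hmax' bH bH' hbH hbH' hcH
  have h1lz : 1 ≤ blockRank 2 B' := DegreeTools.DeficiencyOne.one_le_blockRank hM hmax'.1.2.1
  have hfus : ∀ (x y : D), (x : G) * x = zinv (m + 1) a → (y : G) * y = zinv (m + 1) a →
      (Fused hM hmax.1.1 x y ↔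
        Fused hM hmax'.1.1 ⟨⟨(x : G), hDH x.2⟩, x.2⟩ ⟨⟨(y : G), hDH y.2⟩, y.2⟩) :=
    fun x y hx hy => h.fused_nested hH hDH hmax'.1.1 hec x y hx hy
  have habs : ∀ x : D, (x : G) * x = zinv (m + 1) a →
      (Absorbed hM hmax.1.1 a x ↔ Absorbed hM hmax'.1.1 aH ⟨⟨(x : G), hDH x.2⟩, x.2⟩) := by
    intro x hx
    refine Iff.trans (h.absorbed_iff_order_four x hx) (Iff.trans ?_
      (h'.absorbed_iff_order_four ⟨⟨(x : G), hDH x.2⟩, x.2⟩ (Subtype.ext hx)).symm)
    constructor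
    · rintro ⟨w, hw, hw2, hf⟩
      exact ⟨⟨⟨(w : G), hDH w.2⟩, w.2⟩, (hA _).2 hw, Subtype.ext hw2, (hfus x w hx hw2).1 hf⟩
    · rintro ⟨w, hw, hw2, hf⟩
      exact ⟨⟨((w : H) : G), w.2⟩, (hA _).1 hw, congrArg Subtype.val hw2,
        (hfus x ⟨((w : H) : G), w.2⟩ hx (congrArg Subtype.val hw2)).2 hf⟩
  have hne : b ≠ b' := fun he => by
    rw [← he] at hb'
    have h1 : a = 1 := mul_eq_left.1 hb'.symm
    have := h.ord_a
    rw [h1, orderOf_one] at this
    exact absurd this (Nat.ne_of_lt (Nat.one_lt_two_pow (Nat.succ_ne_zero m)))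
  have hneH : bH ≠ bH' := fun he => hne (Subtype.ext
    (show (b : G) = (b' : G) from congrArg (fun v : D.subgroupOf H => ((v : H) : G)) he))
  have hR := card_outReps (hM := hM) (hP := hmax.1.1) (a := a) hne
  replace hcount := (congrArg (fun r => blockRank 2 B' + r)
    (card_outReps (hM := hM) (hP := hmax'.1.1) (a := aH) hneH)).symm.trans hcount
  beta_reduce at hcount
  refine ⟨h1lz, fun hbz => ?_, fun hb1 => ?_⟩
  · rw [← habs b hbz, ← habs b' hb'z, ← hfus b b' hbz hb'z, ← hR] at hcount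
    exact hcount
  · have hnf : ¬ Fused hM hmax.1.1 b b' := fun hf => by
      obtain ⟨g, hg⟩ := hf.conj_eq
      exact h.z_ne_one (hb'z.symm.trans (by rw [← hg, show g * (b : G) * g⁻¹ * (g * b * g⁻¹)
        = g * ((b : G) * b) * g⁻¹ by group, hb1]; group))
    have hnfH : ¬ Fused hM hmax'.1.1 bH bH' := fun hf => by
      obtain ⟨g, hg⟩ := hf.conj_eq
      have hg' : (g : G) * b * (g : G)⁻¹ = b' := congrArg Subtype.val hg
      exact h.z_ne_one (hb'z.symm.trans (by rw [← hg', show (g : G) * (b : G) * (g : G)⁻¹ * (g * b * (g : G)⁻¹)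
        = (g : G) * ((b : G) * b) * (g : G)⁻¹ by group, hb1]; group))
    have hnaH : ¬ Absorbed hM hmax'.1.1 aH bH := by
      rintro ⟨w, hw, hf⟩
      obtain ⟨g, hg⟩ := hf.conj_eq
      have hwsq : (w : H) * w = 1 := by
        rw [← hg, show g * (bH : H) * g⁻¹ * (g * (bH : H) * g⁻¹)
          = g * ((bH : H) * bH) * g⁻¹ by group,
          show (bH : H) * bH = 1 from Subtype.ext hb1]
        group
      rcases h'.eq_of_sq_zpowers hw hwsq with e1 | e1
      · rw [e1, conj_eq_one_iff] at hg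
        exact hbH (hg ▸ Subgroup.one_mem _)
      · have hb2 : (bH : H) = zinv (m + 1) aH := by
          have h2 := mul_inv_eq_iff_eq_mul.1 (hg.trans e1)
          rw [← (Subgroup.mem_center_iff.1 hcH g)] at h2
          exact mul_left_cancel h2
        exact hbH (hb2 ▸ h'.z_mem_zpowers)
    rw [if_neg hnaH, ← habs b' hb'z] at hcount
    simp only [hnfH, or_false] at hcount
    simp only [hnf, or_false] at hR
    refine ⟨if Absorbed hM hmax.1.1 a b then 0 else 1,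
      if Absorbed hM hmax.1.1 a b' then 0 else 1, by split_ifs <;> omega, hR, by omega⟩

/-- The data at the central involution. -/
theorem local_count (h : Cyc D (m + 1) e a) (hmax : IsMaximalBrauerPair 2 M B D eD) (b b' : D)
    (hb : (b : G) ∉ Subgroup.zpowers a) (hb' : (b' : G) = (b : G) * a)
    (hb'z : (b' : G) * b' = zinv (m + 1) a) :
    let lz := blockRank 2 (bel hM hmax.1.1 ⟨zinv (m + 1) a, h.z_mem⟩).2
    let R := (outReps hM hmax.1.1 a b b').card
    1 ≤ lz ∧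
    ((b : G) * b = zinv (m + 1) a → lz + R = 3) ∧
    ((b : G) * b = 1 → ∃ u v : ℕ, u ≤ 1 ∧ R = u + v ∧ lz + v = 2) := by
  intro lz R
  have hDH : D ≤ cenZ (((⟨zinv (m + 1) a, h.z_mem⟩ : D)) : G) := fun x hx => by
    rw [cenZ_eq, Subgroup.mem_centralizer_singleton_iff]; exact h.z_comm hx
  obtain ⟨-, e', hmax', hec⟩ := exists_maximal_nest hM hmax ⟨zinv (m + 1) a, h.z_mem⟩ hDH
  exact h.nested_count hmax (H := cenZ (zinv (m + 1) a)) rfl hDH hmax' hec b b' hb hb' hb'z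

/-- The heights of the characters. -/
theorem height_facts {q l lz R : ℕ} (W : Weights {χ : IrrCharacter G // χ ∈ B} q l lz R)
    (hW : ∀ χ, W.h χ = TwoMajor.ht B χ.1) (hq : q = 2 ^ m)
    (hn1 : 4 ≤ q → (Finset.univ.filter fun x => W.h x = 1).card = q - 1) :
    Nat.card {χ : IrrCharacter G // χ ∈ B ∧ blockHeight 2 B (χ : G → ℂ) = 0} = 4 ∧
      (∀ χ ∈ B, blockHeight 2 B (χ : G → ℂ) = 0 ∨ blockHeight 2 B (χ : G → ℂ) = 1 ∨
        blockHeight 2 B (χ : G → ℂ) = m) ∧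
      (2 ≤ m → Nat.card {χ : IrrCharacter G // χ ∈ B ∧ blockHeight 2 B (χ : G → ℂ) = 1}
        = 2 ^ m - 1) := by
  have hht : ∀ χ : IrrCharacter G, blockHeight 2 B (χ : G → ℂ) = TwoMajor.ht B χ := fun χ => rfl
  simp only [hht]
  refine ⟨card_height_zero W hW, fun χ hχ => ?_, fun hm2 => ?_⟩
  · by_cases h0 : TwoMajor.ht B χ = 0
    · exact Or.inl h0
    · rcases (W.pos_cases ⟨χ, hχ⟩ (by rw [hW]; exact h0)).2.2.2 with h1 | h1
      · exact Or.inr (Or.inl (by rw [← h1, hW]))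
      · refine Or.inr (Or.inr (Nat.pow_right_injective le_rfl ?_))
        show 2 ^ TwoMajor.ht B χ = 2 ^ m
        rw [← hq, ← h1, hW]
  · rw [← hq, ← hn1 (hq ▸ Nat.pow_le_pow_right two_pos hm2),
      ← Fintype.card_subtype (fun χ => W.h χ = 1), ← Nat.card_eq_fintype_card]
    refine Nat.card_congr ((Equiv.subtypeSubtypeEquivSubtypeInter _ _).symm.trans
      (Equiv.subtypeEquivRight fun χ => ?_))
    rw [hW]

/-- A block with a generalized quaternion defect group. -/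
theorem quaternion_count (h : Cyc D (m + 1) e a) (hmax : IsMaximalBrauerPair 2 M B D eD) {b : G}
    (hbD : b ∈ D) (hbA : b ∉ Subgroup.zpowers a) (hbb : b * b = zinv (m + 1) a)
    (hba : b * a * (b * a) = zinv (m + 1) a) (hM : IsPModular 2 M) :
    1 ≤ blockRank 2 B ∧ blockRank 2 B ≤ 3 ∧
      Nat.card B = blockRank 2 B + 2 ^ m + 2 ∧
      Nat.card {χ : IrrCharacter G // χ ∈ B ∧ blockHeight 2 B (χ : G → ℂ) = 0} = 4 ∧
      (∀ χ ∈ B, blockHeight 2 B (χ : G → ℂ) = 0 ∨ blockHeight 2 B (χ : G → ℂ) = 1 ∨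
        blockHeight 2 B (χ : G → ℂ) = m) ∧
      (2 ≤ m → Nat.card {χ : IrrCharacter G // χ ∈ B ∧ blockHeight 2 B (χ : G → ℂ) = 1}
        = 2 ^ m - 1) := by
  set bD : D := ⟨b, hbD⟩
  set bD' : D := ⟨b * a, D.mul_mem hbD h.a_mem⟩
  obtain ⟨W, hW, -, -⟩ := h.exists_weights (hM := hM) hmax bD bD' hbA rfl
  obtain ⟨hlz1, hQ, -⟩ := h.local_count (hM := hM) hmax bD bD' hbA rfl hba
  have h3 := hQ hbb
  obtain ⟨E, hk, hlE, hE2, -, -, hn1⟩ := W.main (fun hR => by omega)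
  have hl1 := W.one_le_l
  have hE := hE2 (by omega)
  have hcard : Nat.card B = Fintype.card {χ : IrrCharacter G // χ ∈ B} :=
    Nat.card_eq_fintype_card (α := {χ : IrrCharacter G // χ ∈ B})
  refine ⟨hl1, by omega, by rw [hcard]; omega, height_facts W hW rfl hn1⟩

/-- A block with a semidihedral defect group. -/
theorem semidihedral_count (h : Cyc D (m + 1) e a) (hmax : IsMaximalBrauerPair 2 M B D eD) {b : G}
    (hbD : b ∈ D) (hbA : b ∉ Subgroup.zpowers a) (hbb : b * b = 1)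
    (hba : b * a * (b * a) = zinv (m + 1) a) (hM : IsPModular 2 M) :
    (Nat.card B = 2 ^ m + 3 ∨ Nat.card B = 2 ^ m + 4) ∧
      1 ≤ blockRank 2 B ∧ blockRank 2 B ≤ 3 ∧
      (blockRank 2 B = 3 → Nat.card B = 2 ^ m + 4) ∧
      (blockRank 2 B = 1 → Nat.card B = 2 ^ m + 3) ∧
      Nat.card {χ : IrrCharacter G // χ ∈ B ∧ blockHeight 2 B (χ : G → ℂ) = 0} = 4 ∧
      (∀ χ ∈ B, blockHeight 2 B (χ : G → ℂ) = 0 ∨ blockHeight 2 B (χ : G → ℂ) = 1 ∨
        blockHeight 2 B (χ : G → ℂ) = m) ∧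
      (2 ≤ m → Nat.card {χ : IrrCharacter G // χ ∈ B ∧ blockHeight 2 B (χ : G → ℂ) = 1}
        = 2 ^ m - 1) := by
  set bD : D := ⟨b, hbD⟩
  set bD' : D := ⟨b * a, D.mul_mem hbD h.a_mem⟩
  obtain ⟨W, hW, -, -⟩ := h.exists_weights (hM := hM) hmax bD bD' hbA rfl
  obtain ⟨hlz1, -, hS⟩ := h.local_count (hM := hM) hmax bD bD' hbA rfl hba
  obtain ⟨u, v, hu, hR, h2⟩ := hS hbb
  obtain ⟨E, hk, hlE, -, hE1, -, hn1⟩ := W.main (fun hR' => by omega)
  have hl1 := W.one_le_l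
  have hE := hE1 (by omega)
  have hcard : Nat.card B = Fintype.card {χ : IrrCharacter G // χ ∈ B} :=
    Nat.card_eq_fintype_card (α := {χ : IrrCharacter G // χ ∈ B})
  rw [hcard]
  exact ⟨by omega, hl1, by omega, fun _ => by omega, fun _ => by omega, height_facts W hW rfl hn1⟩

end Cyc

end CfsgLib.Blocks.TameDefect
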