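import Cfsg.Agent.Lib.Blocks.TameDefect.CycWeights
import Cfsg.Agent.Lib.Blocks.TameDefect.DihedralCount
import Cfsg.Agent.Lib.BrouePuig.Isometry.KleinData
import Cfsg.Agent.Lib.Char.Quotient

/-!
# The block of the quotient by a central involution
-/

set_option autoImplicit false
set_option maxHeartbeats 1600000

namespace CfsgLib.Blocks.TameDefect

open Cfsg CfsgLib.Blocks CfsgLib.BrauerPairs CfsgLib.BrouePuig
open scoped Classical ComplexConjugate

universe u

section CentralElement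

variable {G : Type u} [Group G] [Fintype G] {p : ℕ} [Fact p.Prime] {M : Ideal AlgInt}
  {B : Set (IrrCharacter G)} {D : Subgroup G}
  {eD : Set (IrrCharacter (Subgroup.centralizer (D : Set G)))} {hM : IsPModular p M}
  (hmax : IsMaximalBrauerPair p M B D eD)

/-- The scalar of a central element in an irreducible character. -/
theorem irr_mul_central {w : G} (hw : w ∈ Subgroup.center G) (χ : IrrCharacter G) (x : G) :
    (χ : G → ℂ) (x * w) = (χ : G → ℂ) w / (χ : G → ℂ) 1 * (χ : G → ℂ) x := by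
  obtain ⟨c, hc, -⟩ := CfsgLib.CharDeep.CentralTrick.exists_scalar_center χ.2 hw
  have h := hc 1
  rw [one_mul] at h
  rw [h, mul_div_cancel_right₀ _ (irr_one_ne_zero χ), hc x]

/-- The contribution of a central element is the value. -/
theorem secPart_bel_central {χ : IrrCharacter G} (hχ : χ ∈ B) (w : D)
    (hw : (w : G) ∈ Subgroup.center G) (c : cenZ (bel hM hmax.1.1 w).1) (hc : ¬ p ∣ orderOf c) :
    secPart (bel hM hmax.1.1 w).1 (cenZ (bel hM hmax.1.1 w).1) (bel hM hmax.1.1 w).2 χ c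
      = (χ : G → ℂ) (w : G) / (χ : G → ℂ) 1 * (χ : G → ℂ) (c : G) := by
  have h1 : ∃ k : ℕ, orderOf (w : G) = p ^ k := by
    obtain ⟨j, hj⟩ := IsPGroup.iff_orderOf.1 hmax.1.1.1 w
    exact ⟨j, by rwa [Subgroup.orderOf_coe]⟩
  have e2 := star_eq (hM := hM) (fun _ => (1 : ℂ)) χ (u := (w : G)) h1 c hc
  simp only [one_mul, BrouePuig.star_one] at e2
  have hel : IsElemOf p M B (bel hM hmax.1.1 w) :=
    isElemOf_of_below hM hmax (bel_below hM hmax.1.1 w)
  rw [← irr_mul_central hw χ (c : G), (Subgroup.mem_center_iff.1 hw (c : G)), e2]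
  symm
  refine Eq.trans (Finset.sum_eq_single (bel hM hmax.1.1 w).2 ?_ ?_) rfl
  · intro b hb hne
    refine secPart_eq_zero_of_not_elem hM hχ hmax.1.2.1 (a := ⟨(w : G), b⟩)
      (mem_elems.2 ⟨h1, mem_blockSet.1 hb⟩) (fun h => hne ?_) hc
    obtain ⟨y, hy⟩ := (exists_below_iff hM hmax _).2 h
    have hy' : act y (⟨(w : G), b⟩ : BElem G) = ⟨(w : G), b⟩ := act_of_mem_centralizer (by
      show y ∈ Subgroup.centralizer ((Subgroup.zpowers (w : G) : Subgroup G) : Set G)
      rw [centralizer_zpowers, Subgroup.mem_centralizer_singleton_iff]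
      exact Subgroup.mem_center_iff.1 hw y)
    rw [hy'] at hy
    have h2 := eq_bel hM hmax.1.1 hy w rfl
    exact eq_of_heq ((Sigma.mk.inj_iff.1 h2).2)
  · exact fun h => absurd (mem_blockSet.2 hel.1.2) h

theorem card_cenZ_central {w : G} (hw : w ∈ Subgroup.center G) :
    Nat.card (cenZ w) = Nat.card G := by
  rw [show cenZ w = ⊤ from eq_top_iff.2 fun x _ => by
    rw [cenZ_eq, Subgroup.mem_centralizer_singleton_iff]; exact Subgroup.mem_center_iff.1 hw x,
    Subgroup.card_top]

/-- The contributions of a central element. -/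
theorem classSec_central {χ φ : IrrCharacter G} (hχ : χ ∈ B) (hφ : φ ∈ B) (w : D)
    (hw : (w : G) ∈ Subgroup.center G) :
    classSec hM hmax.1.1 w χ φ = (χ : G → ℂ) (w : G) / (χ : G → ℂ) 1
      * conj ((φ : G → ℂ) (w : G) / (φ : G → ℂ) 1) * classSec hM hmax.1.1 (1 : D) χ φ := by
  rw [classSec, classSec, secInner_bel_one hM hmax hχ hφ, card_cenZ_central hw,
    card_cenZ_central (w := ((1 : D) : G)) (Subgroup.one_mem _), ← mul_assoc, Finset.mul_sum]
  congr 1
  unfold secInner
  refine Finset.sum_bij (fun c _ => (c : G)) ?_ ?_ ?_ ?_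
  · intro c hc
    refine Finset.mem_filter.2 ⟨Finset.mem_univ _, ?_⟩
    show ¬ p ∣ orderOf _
    rw [Subgroup.orderOf_coe]
    exact (Finset.mem_filter.1 hc).2
  · intro c _ d _ h
    exact Subtype.ext h
  · intro x hx
    have hmem : x ∈ cenZ (bel hM hmax.1.1 w).1 := by
      show x ∈ cenZ (w : G)
      rw [cenZ_eq, Subgroup.mem_centralizer_singleton_iff]
      exact Subgroup.mem_center_iff.1 hw x
    refine ⟨⟨x, hmem⟩, Finset.mem_filter.2 ⟨Finset.mem_univ _, ?_⟩, rfl⟩
    show ¬ p ∣ orderOf _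
    rw [← Subgroup.orderOf_coe]
    exact (Finset.mem_filter.1 hx).2
  · intro c hc
    rw [secPart_bel_central hmax hχ w hw c (Finset.mem_filter.1 hc).2,
      secPart_bel_central hmax hφ w hw c (Finset.mem_filter.1 hc).2, map_mul]
    ring

/-- The contributions of the identity against the values at a central `p`-element. -/
theorem sum_scalar_classSec_one (w : D) (hw : (w : G) ∈ Subgroup.center G) (hw1 : (w : G) ≠ 1) :
    ∑ χ : IrrCharacter G with χ ∈ B,
      (χ : G → ℂ) (w : G) / (χ : G → ℂ) 1 * classSec hM hmax.1.1 (1 : D) χ χ = 0 := by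
  obtain ⟨j, hj⟩ := IsPGroup.iff_orderOf.1 hmax.1.1.1 w
  rw [← Subgroup.orderOf_coe] at hj
  have hj0 : j ≠ 0 := fun h0 => hw1 (orderOf_eq_one_iff.1 (by rw [hj, h0, pow_zero]))
  rw [Finset.sum_congr rfl (g := fun χ => ((Nat.card G : ℂ))⁻¹ * ∑ x : G with IsPRegular p x,
    blockInd B χ * ((χ : G → ℂ) (x * (w : G)) * (χ : G → ℂ) x⁻¹)) fun χ hχ => ?_,
    ← Finset.mul_sum, Finset.sum_comm]
  · refine mul_eq_zero_of_right _ (Finset.sum_eq_zero fun x hx => ?_)
    have hreg : ¬ p ∣ orderOf x := (Finset.mem_filter.1 hx).2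
    rw [Finset.sum_filter_of_ne fun χ _ hne => by
      by_contra hh; exact hne (by rw [blockInd_of_notMem hh, zero_mul])]
    refine IsPBlock.sum_mul_eq_zero hM hmax.1.2.1 ?_ (by rwa [orderOf_inv])
    have hcop : (orderOf x).Coprime (orderOf (w : G)) := by
      rw [hj]; exact (((Fact.out : p.Prime).coprime_iff_not_dvd.2 hreg).pow_left j).symm
    rw [(show Commute x (w : G) from Subgroup.mem_center_iff.1 hw x).orderOf_mul_eq_mul_orderOf_of_coprime
      hcop, hj]
    exact Dvd.dvd.mul_left (dvd_pow_self p hj0) _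
  · have hχB := (Finset.mem_filter.1 hχ).2
    rw [classSec, secInner_bel_one hM hmax hχB hχB,
      card_cenZ_central (w := ((1 : D) : G)) (Subgroup.one_mem _), ← mul_assoc, Finset.mul_sum,
      mul_comm _ ((Nat.card G : ℂ))⁻¹]
    congr 1
    refine Finset.sum_congr rfl fun x _ => ?_
    rw [blockInd_of_mem hχB, one_mul, irr_mul_central hw χ x, conj_irr]
    ring

end CentralElement

section Two

variable {G : Type u} [Group G] [Fintype G] [Fact (Nat.Prime 2)] {M : Ideal AlgInt}
  {B : Set (IrrCharacter G)} {hM : IsPModular 2 M}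

/-- A block with a four-group as defect group has only characters of height zero. -/
theorem ht_eq_zero_of_four {P : Subgroup G}
    {e : Set (IrrCharacter (Subgroup.centralizer (P : Set G)))}
    (hmax : IsMaximalBrauerPair 2 M B P e) (hM : IsPModular 2 M) (hV : IsKleinFour P) :
    ∀ χ ∈ B, TwoMajor.ht B χ = 0 := by
  haveI : Nontrivial P := Finite.one_lt_card_iff_nontrivial.1 (by rw [hV.card_four]; norm_num)
  obtain ⟨w, hw⟩ := exists_ne (1 : P)
  have hab := BrouePuig.Isometry.klein_comm hV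
  have hfree := BrouePuig.Isometry.klein_free hM hmax hV
  have hrk : blockRank 2 (bel hM hmax.1.1 w).2 = 1 :=
    blockRank_eq_one_of_nilpotent hM (nilpotent_bel hM hmax hab hfree hw)
      (maximal_nested hM hmax hab (Subgroup.zpowers_le.2 w.2) (bel_inducedIn hM hmax.1.1 hab w))
  have hPw : P ≤ cenZ (w : G) := fun x hx => by
    rw [cenZ_eq, Subgroup.mem_centralizer_singleton_iff]; exact hab x hx _ w.2
  have hel := isElemOf_of_below hM hmax (bel_below hM hmax.1.1 w)
  obtain ⟨dat⟩ := TwoMajor.nonempty_data hM (cenZ_eq (w : G)) (x := (w : G))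
    ⟨1, by
      rw [pow_one, Subgroup.orderOf_coe]
      exact orderOf_eq_prime (Subtype.ext (BrouePuig.Isometry.klein_sq hV w)) hw⟩
    ((isBrauerPairOf_iff_induced hM hel.1.1 hel.1.2).1 hel) (exists_maximal_nest hM hmax w hPw).1
  have hd : blockDefect 2 B = 2 := Nat.pow_right_injective le_rfl
    ((card_defectGroup hM hmax.1.2.1 (isDefectGroup_of_isMaximal hM hmax)).symm.trans
      (hV.card_four.trans (by norm_num)))
  obtain ⟨χ₀, hχ₀, h00⟩ := exists_degVal_eq_min (p := 2) (IsPBlock.nonempty hM hmax.1.2.1)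
  have hle : ∀ χ ∈ Finset.univ.filter (· ∈ B),
      (if TwoMajor.ht B χ = 0 then 1 else 4) ≤ dat.a χ := by
    intro χ hχ
    have hχB : χ ∈ B := (Finset.mem_filter.1 hχ).2
    split_ifs with hh
    · exact (dat.odd_a χ hχB hh).pos
    · refine le_trans ?_ (Nat.le_of_dvd (Nat.pos_of_ne_zero fun h0 => ?_) (dat.dvd_a χ hχB hh))
      · exact Nat.pow_le_pow_right (n := 2) two_pos (show 2 ≤ TwoMajor.ht B χ + 1 by omega)
      have h1 := dat.low χ hχB χ₀ hχ₀ (by simp [TwoMajor.ht, h00])
      have h2 := dat.idem χ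
      rw [h0, mul_zero, Finset.sum_eq_zero_iff] at h2
      rw [h2 χ₀ (Finset.mem_univ _)] at h1
      exact absurd h1 (Nat.not_le.2 (pow_pos (by norm_num) _))
  have hsum := (Finset.sum_le_sum hle).trans_eq dat.sum_a
  replace hsum := hsum.trans_eq (congrArg₂ (fun x y => x * 2 ^ y) hrk hd)
  rw [Finset.sum_ite, Finset.sum_const, Finset.sum_const, smul_eq_mul, smul_eq_mul] at hsum
  have hk : (Finset.univ.filter (· ∈ B)).card = 4 := by
    rw [← (BrouePuig.Isometry.klein_index hM hmax hV).2, Nat.card_eq_fintype_card,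
      Fintype.card_subtype]
  have hsplit := Finset.card_filter_add_card_filter_not (s := Finset.univ.filter (· ∈ B))
    fun χ => TwoMajor.ht B χ = 0
  intro χ hχ
  by_contra hh
  have : 0 < ((Finset.univ.filter (· ∈ B)).filter fun χ => ¬ TwoMajor.ht B χ = 0).card :=
    Finset.card_pos.2 ⟨χ, Finset.mem_filter.2 ⟨Finset.mem_filter.2 ⟨Finset.mem_univ _, hχ⟩, hh⟩⟩
  omega

/-- The characters trivial on a central involution of the defect group. -/
theorem quot_facts {D : Subgroup G} {eD : Set (IrrCharacter (Subgroup.centralizer (D : Set G)))}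
    {m : ℕ} {e : ℤ} {a : G} (hM : IsPModular 2 M) (h : Cyc D (m + 1) e a)
    (hmax : IsMaximalBrauerPair 2 M B D eD) (hz : zinv (m + 1) a ∈ Subgroup.center G)
    (h4 : Nat.card {χ : IrrCharacter G // χ ∈ B ∧ TwoMajor.ht B χ = 0} = 4) :
    2 * Nat.card {χ : IrrCharacter G //
        χ ∈ B ∧ (χ : G → ℂ) (zinv (m + 1) a) = (χ : G → ℂ) 1} = 2 ^ m + 6 ∧
      (∀ χ ∈ B, TwoMajor.ht B χ = 0 → (χ : G → ℂ) (zinv (m + 1) a) = (χ : G → ℂ) 1) ∧
      ∀ χ ∈ B, (χ : G → ℂ) (zinv (m + 1) a) = (χ : G → ℂ) 1 → TwoMajor.ht B χ ≤ 1 := by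
  have hB : IsPBlock M B := hmax.1.2.1
  have hm : 1 ≤ m := by have := h.two_le; omega
  obtain ⟨z, hzdef⟩ : ∃ z, z = zinv (m + 1) a := ⟨_, rfl⟩
  rw [← hzdef] at hz ⊢
  have hzA : z ∈ Subgroup.zpowers a := hzdef ▸ h.z_mem_zpowers
  have hz2 : z * z = 1 := hzdef ▸ h.z_sq
  have hzord : orderOf z = 2 := hzdef ▸ h.orderOf_z
  set Z : Subgroup G := Subgroup.zpowers z
  have hZle : Z ≤ Subgroup.center G := Subgroup.zpowers_le.2 hz
  haveI : Z.Normal := ⟨fun n hn g => by
    rw [Subgroup.mem_center_iff.1 (hZle hn) g, mul_inv_cancel_right]; exact hn⟩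
  have hZ2 : Nat.card Z = 2 := by rw [Nat.card_zpowers, hzord]
  have hZp : IsPGroup 2 Z := IsPGroup.of_card (n := 1) (by rw [hZ2, pow_one])
  have hZmem : ∀ w ∈ Z, w = 1 ∨ w = z := by
    intro w hw
    obtain ⟨i, rfl⟩ := Subgroup.mem_zpowers_iff.1 hw
    rcases Int.even_or_odd' i with ⟨j, rfl | rfl⟩
    · left; rw [zpow_mul, zpow_two, hz2, one_zpow]
    · right; rw [zpow_add, zpow_mul, zpow_two, hz2, one_zpow, one_mul, zpow_one]
  letI : Fintype (G ⧸ Z) := Fintype.ofFinite _
  obtain ⟨b', hb', hsub, hDG⟩ := QuotientDefect.exists_block_map_eq hM hZp hB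
  have hC := DefectTwo.index_centralizer (p := 2) hZle
  have hbb : ∀ η, η ∈ b' ↔ inflate Z η ∈ B := fun η => by
    obtain ⟨ψ₀, hψ₀⟩ := IsPBlock.nonempty hM hb'
    rw [IsPBlock.mem_iff hM hb' hψ₀, sameBlock_inflate_iff hM hZp hC,
      IsPBlock.mem_iff hM hB (hsub ψ₀ hψ₀)]
  set π := QuotientGroup.mk' Z
  have hDbar : IsDefectGroup 2 M b' (D.map π) :=
    (hDG _).2 ⟨D, isDefectGroup_of_isMaximal hM hmax, rfl⟩
  have hker : ∀ g : G, π g = 1 ↔ g ∈ Z := fun g => QuotientGroup.eq_one_iff g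
  have hZD : Z ≤ D := Subgroup.zpowers_le.2 (hzdef ▸ h.z_mem)
  have hcardbar : Nat.card (D.map π) = 2 ^ (m + 1) := by
    have h1 := Subgroup.card_mul_index (Z.subgroupOf D)
    rw [Nat.card_congr (Subgroup.subgroupOfEquivOfLe hZD).toEquiv, hZ2, h.card] at h1
    have h2 : Nat.card (D.map π) = (Z.subgroupOf D).index := by
      rw [← π.domRestrict_range D, ← Subgroup.index_ker]
      congr 1
      ext x
      exact hker (x : G)
    rw [h2]
    have : (2 : ℕ) ^ (m + 1 + 1) = 2 * 2 ^ (m + 1) := by rw [pow_succ]; ring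
    omega
  obtain ⟨e', he'⟩ := exists_pair_of_defectGroup hM hb' hDbar
  have hmax' := isMaximal_of_defectGroup hM hDbar he'
  have hord : Nat.card G = Nat.card (G ⧸ Z) * 2 := by
    rw [← hZ2]; exact Subgroup.card_eq_card_quotient_mul_card_subgroup Z
  have hdB : blockDefect 2 B = m + 2 := Nat.pow_right_injective le_rfl
    ((card_defectGroup hM hB (isDefectGroup_of_isMaximal hM hmax)).symm.trans h.card)
  have hdb : blockDefect 2 b' = m + 1 := Nat.pow_right_injective le_rfl
    ((card_defectGroup hM hb' hDbar).symm.trans hcardbar)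
  have hmin : minDegVal 2 b' = minDegVal 2 B := by
    have h1 := blockDefect_add_min (p := 2) (IsPBlock.nonempty hM hB)
    have h2 := blockDefect_add_min (p := 2) (IsPBlock.nonempty hM hb')
    rw [hord, Nat.factorization_mul Nat.card_pos.ne' two_ne_zero, Finsupp.add_apply,
      Nat.prime_two.factorization_self] at h1
    omega
  have hht : ∀ η, TwoMajor.ht B (inflate Z η) = TwoMajor.ht b' η := fun η => by
    simp only [TwoMajor.ht, degVal_inflate, hmin]
  have htriv : ∀ η, (inflate Z η : G → ℂ) z = (inflate Z η : G → ℂ) 1 := fun η =>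
    inflate_ker η (Subgroup.mem_zpowers z)
  -- the correspondence
  let F : {η // η ∈ b'} → {χ : IrrCharacter G // χ ∈ B ∧ (χ : G → ℂ) z = (χ : G → ℂ) 1} :=
    fun η => ⟨inflate Z η.1, (hbb _).1 η.2, htriv _⟩
  have hF : Function.Bijective F := by
    refine ⟨fun η η' he => Subtype.ext (DefectTwo.inflate_injective (congrArg Subtype.val he)),
      fun χ => ?_⟩
    obtain ⟨ψ, hψ, he⟩ := CfsgLib.Char.IsIrrCharacter.exists_deflate χ.1.2 Z fun n hn => by
      rcases hZmem n hn with rfl | rfl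
      · rfl
      · exact χ.2.2
    have heq : inflate Z ⟨ψ, hψ⟩ = χ.1 := Subtype.ext he.symm
    exact ⟨⟨⟨ψ, hψ⟩, (hbb _).2 (heq ▸ χ.2.1)⟩, Subtype.ext heq⟩
  have hU : Nat.card {χ : IrrCharacter G // χ ∈ B ∧ (χ : G → ℂ) z = (χ : G → ℂ) 1}
      = Nat.card b' := (Nat.card_congr (Equiv.ofBijective F hF)).symm
  -- the quotient block
  have hb'facts : 2 * Nat.card b' = 2 ^ m + 6 ∧
      Nat.card {η : IrrCharacter (G ⧸ Z) // η ∈ b' ∧ TwoMajor.ht b' η = 0} = 4 ∧
      ∀ η ∈ b', TwoMajor.ht b' η ≤ 1 := by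
    rcases eq_or_lt_of_le hm with h1 | h1
    · subst h1
      haveI hV : IsKleinFour (D.map π) := by
        have hcard : Nat.card (D.map π) = 4 := by rw [hcardbar]; norm_num
        haveI : Nontrivial (D.map π) :=
          Finite.one_lt_card_iff_nontrivial.1 (by rw [hcard]; norm_num)
        refine ⟨hcard, (Monoid.exponent_eq_prime_iff Nat.prime_two).2 fun g hg =>
          orderOf_eq_prime ?_ hg⟩
        obtain ⟨_, x, hx, rfl⟩ := g
        refine Subtype.ext ?_
        rw [Subgroup.coe_pow, pow_two]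
        show π x * π x = 1
        rw [← map_mul, hker]
        by_cases hxA : x ∈ Subgroup.zpowers a
        · obtain ⟨i, rfl⟩ := Subgroup.mem_zpowers_iff.1 hxA
          refine Subgroup.mem_zpowers_iff.2 ⟨i, ?_⟩
          rw [hzdef, zinv, ← zpow_natCast, ← zpow_mul, ← zpow_add]
          norm_num
          ring_nf
        · rcases h.sq_outside hx hxA with h2 | h2 <;> rw [h2]
          · exact Z.one_mem
          · rw [← hzdef]; exact Subgroup.mem_zpowers z
      have hk := (BrouePuig.Isometry.klein_index hM hmax' hV).2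
      refine ⟨by rw [hk]; norm_num, ?_, fun η hη => by
        rw [ht_eq_zero_of_four hmax' hM hV η hη]; norm_num⟩
      rw [← hk]
      exact Nat.card_congr (Equiv.subtypeEquivRight fun η =>
        ⟨And.left, fun hη => ⟨hη, ht_eq_zero_of_four hmax' hM hV η hη⟩⟩)
    · obtain ⟨b, hb, hbA⟩ := h.exists_outside
      have hAsmall : ∀ i : ℤ, a ^ i ∈ Z → (2 : ℤ) ^ m ∣ i := by
        intro i hi
        rcases hZmem _ hi with h2 | h2
        · rw [← orderOf_dvd_iff_zpow_eq_one, h.ord_a] at h2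
          push_cast at h2
          rw [pow_succ] at h2
          exact dvd_of_mul_right_dvd h2
        · rw [hzdef, zinv, Nat.add_sub_cancel, ← zpow_natCast, zpow_eq_zpow_iff_modEq, h.ord_a,
            Int.modEq_iff_dvd] at h2
          push_cast at h2
          have := (Dvd.intro (2 : ℤ) (pow_succ (2 : ℤ) m).symm).trans h2
          exact (dvd_sub_right (dvd_refl _)).1 this
      have hzpow : ∀ i : ℤ, (2 : ℤ) ^ m ∣ i → π (a ^ i) = 1 := by
        rintro i ⟨t, rfl⟩
        rw [hker]
        rcases h.half t with h2 | h2 <;>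
          simp only [Nat.add_sub_cancel] at h2 <;> rw [h2]
        · exact Z.one_mem
        · rw [← hzdef]; exact Subgroup.mem_zpowers z
      have hs : Shape (D.map π) m (-1) (π a) (π b) := by
        refine ⟨h1, ⟨a, h.a_mem, rfl⟩, ⟨b, hb, rfl⟩, ?_, hcardbar, ?_, fun hh => hbA ?_, ?_,
          Or.inl rfl⟩
        · obtain ⟨j, rfl⟩ : ∃ j, m = j + 1 := ⟨m - 1, by omega⟩
          refine orderOf_eq_prime_pow (fun hh => ?_) ?_
          · rw [← map_pow, hker, ← zpow_natCast] at hh
            have h2 := hAsmall _ hh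
            push_cast at h2
            have h3 : (2 : ℕ) ^ (j + 1) ∣ 2 ^ j := by exact_mod_cast h2
            have := (Nat.pow_dvd_pow_iff_le_right (by norm_num : 1 < 2)).1 h3
            omega
          · rw [← map_pow, ← zpow_natCast]
            exact hzpow _ (by push_cast; exact dvd_refl _)
        · rw [← map_mul, hker]
          rcases h.sq_outside hb hbA with h2 | h2 <;> rw [h2]
          · exact Z.one_mem
          · rw [← hzdef]; exact Subgroup.mem_zpowers z
        · obtain ⟨i, hi⟩ := Subgroup.mem_zpowers_iff.1 hh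
          have h2 : (a ^ i)⁻¹ * b ∈ Z := by
            rw [← hker, map_mul, map_inv, map_zpow, hi, inv_mul_cancel]
          have h3 : (a ^ i)⁻¹ * b ∈ Subgroup.zpowers a := Subgroup.zpowers_le.2 hzA h2
          simpa using Subgroup.mul_mem _ (Subgroup.zpow_mem _ (Subgroup.mem_zpowers a) i) h3
        · rw [← map_inv, ← map_mul, ← map_mul, h.conj b hb hbA, ← map_zpow]
          have h2 : π (a ^ (e + 1)) = 1 := hzpow _ (by
            rcases h.kind with rfl | ⟨-, rfl⟩
            · exact ⟨0, by ring⟩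
            · exact ⟨1, by simp⟩)
          rw [zpow_add, zpow_one, map_mul] at h2
          rw [eq_inv_of_mul_eq_one_left h2, zpow_neg_one, map_inv]
      obtain ⟨hk, -, -, hk0, hk1⟩ := dihedral_invariants hM hs hmax'
      refine ⟨?_, hk0, hk1⟩
      rw [hk, mul_add, ← pow_succ', Nat.sub_add_cancel hm]
  obtain ⟨hk, hk0, hk1⟩ := hb'facts
  refine ⟨by rw [hU, hk], ?_, fun χ hχ hχz => ?_⟩
  · -- all of height zero are trivial on the involution
    let F₀ : {η : IrrCharacter (G ⧸ Z) // η ∈ b' ∧ TwoMajor.ht b' η = 0} →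
        {χ : IrrCharacter G // χ ∈ B ∧ TwoMajor.ht B χ = 0} :=
      fun η => ⟨inflate Z η.1, (hbb _).1 η.2.1, by rw [hht]; exact η.2.2⟩
    have hbij : Function.Bijective F₀ := Function.Injective.bijective_of_nat_card_le
      (fun η η' he => Subtype.ext (DefectTwo.inflate_injective (congrArg Subtype.val he)))
      (by rw [hk0, h4])
    intro χ hχ h0
    obtain ⟨η, hη⟩ := hbij.2 ⟨χ, hχ, h0⟩
    rw [← show inflate Z η.1 = χ from congrArg Subtype.val hη]
    exact htriv _
  · obtain ⟨η, hη⟩ := hF.2 ⟨χ, hχ, hχz⟩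
    rw [← show inflate Z η.1 = χ from congrArg Subtype.val hη, hht]
    exact hk1 η.1 η.2

end Two

end CfsgLib.Blocks.TameDefect
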